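import Mathlib

set_option autoImplicit false

/-!
A pruned search for triples with prescribed sums, and the two searches used for the simple
group of order 5616: a triple is (energy at an element of order 13, squared degree,
degree times the multiplicity of the trivial eigenvalue).
-/

namespace Cfsg.Agent.SmallS16.DegreeSearch

/-- One available triple. -/
abbrev Opt : Type := ℕ × ℕ × ℕ

/-- `search n os cb db mb = true` shows that no multiset of members of `os` has first sum at most
`cb`, second sum `db` and third sum `mb`. -/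
def search : ℕ → List Opt → ℕ → ℕ → ℕ → Bool
  | 0, _, _, _, _ => false
  | _ + 1, [], _, db, mb => (db != 0) || (mb != 0)
  | n + 1, o :: os, cb, db, mb =>
    (decide (cb * o.2.1 < db * o.1) &&
        (o :: os).all fun p => decide (p.2.1 * o.1 ≤ o.2.1 * p.1)) ||
      ((if o.1 ≤ cb ∧ o.2.1 ≤ db ∧ o.2.2 ≤ mb then
          search n (o :: os) (cb - o.1) (db - o.2.1) (mb - o.2.2) else true) &&
        search n os cb db mb)

theorem search_sound : ∀ (n : ℕ) (os : List Opt) (cb db mb : ℕ) (M : Multiset Opt),
    search n os cb db mb = true → (∀ p ∈ M, p ∈ os) → (M.map fun p => p.1).sum ≤ cb →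
      (M.map fun p => p.2.1).sum = db → (M.map fun p => p.2.2).sum = mb → False := by
  intro n
  induction n with
  | zero => intro os cb db mb M h; simp [search] at h
  | succ n ih =>
    intro os cb db mb M h hM hc hd hm
    match os with
    | [] =>
      obtain rfl : M = 0 := Multiset.eq_zero_of_forall_notMem fun p hp => by simpa using hM p hp
      simp at hd hm
      simp [search, ← hd, ← hm] at h
    | o :: os =>
      simp only [search, Bool.or_eq_true, Bool.and_eq_true, decide_eq_true_eq,
        List.all_eq_true] at h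
      rcases h with ⟨hlt, hall⟩ | ⟨hin, hout⟩
      · have key : (M.map fun p => p.2.1 * o.1).sum ≤ (M.map fun p => o.2.1 * p.1).sum :=
          Multiset.sum_map_le_sum_map _ _ fun p hp => hall p (hM p hp)
        rw [Multiset.sum_map_mul_right, Multiset.sum_map_mul_left, hd] at key
        have h2 := Nat.mul_le_mul_left o.2.1 hc
        rw [Nat.mul_comm o.2.1 cb] at h2
        exact absurd (hlt.trans_le (key.trans h2)) (lt_irrefl _)
      · by_cases ho : o ∈ M
        · obtain ⟨M', rfl⟩ := Multiset.exists_cons_of_mem ho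
          simp only [Multiset.map_cons, Multiset.sum_cons] at hc hd hm
          rw [if_pos ⟨by omega, by omega, by omega⟩] at hin
          exact ih (o :: os) _ _ _ M' hin (fun p hp => hM p (Multiset.mem_cons_of_mem hp))
            (by omega) (by omega) (by omega)
        · exact ih os cb db mb M hout (fun p hp => (List.mem_cons.mp (hM p hp)).resolve_left
            fun e => ho (e ▸ hp)) hc hd hm

/-- The options left by the degrees prime to 13. -/
def optsA : List Opt :=
  [(42, 5184, 432), (36, 2304, 144), (48, 2916, 162), (48, 2916, 324), (12, 729, 81),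
   (120, 5184, 216), (30, 1296, 108), (114, 2304, 288), (108, 1296, 0), (48, 576, 0),
   (48, 576, 72), (12, 144, 0), (30, 256, 16), (90, 729, 0), (66, 324, 0), (66, 324, 54),
   (108, 256, 64), (36, 81, 0), (90, 144, 36), (66, 64, 16), (42, 36, 0), (114, 81, 27),
   (36, 16, 4), (120, 36, 18), (30, 9, 0), (108, 9, 9), (48, 4, 4)]

/-- The options left by the degrees prime to 3. -/
def optsB : List Opt :=
  [(0, 2704, 208), (0, 676, 52), (0, 169, 13), (30, 256, 16), (108, 256, 64), (66, 64, 16),
   (36, 16, 4), (48, 4, 4)]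

theorem searchA : search 200 optsA 144 5615 431 = true := by decide +kernel

theorem searchB : search 200 optsB 144 5615 431 = true := by decide +kernel

/-- The least sum of squares of four integers with sum `T`. -/
def minSq (T : ℕ) : ℕ := 4 * (T / 4) ^ 2 + 2 * (T / 4) * (T % 4) + T % 4

/-- The least energy of a degree `d` with trivial multiplicity `m`. -/
def lowCost (d m : ℕ) : ℤ := 13 * ((m : ℤ) ^ 2 + 3 * minSq ((d - m) / 3)) - (d : ℤ) ^ 2

/-- Every pair from a degree of the list is either too expensive or dominated by an option. -/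
def covered (os : List Opt) (ds : List ℕ) : Bool :=
  ds.all fun d => (List.range (d + 1)).all fun m =>
    ((d - m) % 3 != 0) || decide (144 < lowCost d m) ||
      os.any fun p => decide ((p.1 : ℤ) ≤ lowCost d m) && (p.2.1 == d ^ 2) && (p.2.2 == d * m)

/-- The degrees prime to 13 that fit into the order. -/
def degA : List ℕ := [2, 3, 4, 6, 8, 9, 12, 16, 18, 24, 27, 36, 48, 54, 72]

/-- The degrees prime to 3 that fit into the order. -/
def degB : List ℕ := [2, 4, 8, 13, 16, 26, 52]

theorem coveredA : covered optsA degA = true := by decide +kernel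

theorem coveredB : covered optsB degB = true := by decide +kernel

theorem degA_spec : ∀ d ∈ List.range 75, d ∣ 5616 → ¬13 ∣ d → d ≠ 1 → d ∈ degA := by decide +kernel

theorem degB_spec : ∀ d ∈ List.range 75, d ∣ 5616 → ¬3 ∣ d → d ≠ 1 → d ∈ degB := by decide +kernel

theorem minSq_le {a b c e : ℤ} {T : ℕ} (h : a + b + c + e = T) :
    (minSq T : ℤ) ≤ a ^ 2 + b ^ 2 + c ^ 2 + e ^ 2 := by
  obtain ⟨q, r, hq, hr, hT⟩ : ∃ q r : ℕ, q = T / 4 ∧ r = T % 4 ∧ T = 4 * q + r :=
    ⟨_, _, rfl, rfl, (Nat.div_add_mod T 4).symm⟩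
  have hs : (minSq T : ℤ) = 4 * (q : ℤ) ^ 2 + 2 * q * r + r := by
    simp [minSq, ← hq, ← hr]
  have key : ∀ x : ℤ, (2 * (q : ℤ) + 1) * x - q * (q + 1) ≤ x ^ 2 := by
    intro x
    rcases le_or_gt x q with hx | hx
    · nlinarith [mul_nonneg (sub_nonneg.2 hx) (sub_nonneg.2 (show x ≤ (q : ℤ) + 1 by omega))]
    · nlinarith [mul_nonneg (sub_nonneg.2 (show (q : ℤ) ≤ x by omega))
        (sub_nonneg.2 (show (q : ℤ) + 1 ≤ x by omega))]
  have := key a
  have := key b
  have := key c
  have := key e
  rw [hT] at h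
  push_cast at h
  nlinarith

theorem exists_opt {os : List Opt} {ds : List ℕ} (hcov : covered os ds = true) {d : ℕ}
    (hd : d ∈ ds) {m a b c e : ℤ} {E : ℕ} (hm0 : 0 ≤ m) (hm : m ≤ d)
    (hsum : (d : ℤ) = m + 3 * (a + b + c + e))
    (hE : (E : ℤ) = 13 * (m ^ 2 + 3 * (a ^ 2 + b ^ 2 + c ^ 2 + e ^ 2)) - (d : ℤ) ^ 2)
    (hE' : E ≤ 144) :
    ∃ p ∈ os, p.1 ≤ E ∧ p.2.1 = d ^ 2 ∧ (p.2.2 : ℤ) = d * m := by
  obtain ⟨k, rfl⟩ := Int.eq_ofNat_of_zero_le hm0
  have hk : k ≤ d := by exact_mod_cast hm
  obtain ⟨T, hT⟩ := Int.eq_ofNat_of_zero_le (show 0 ≤ a + b + c + e by omega)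
  have hdT : d - k = 3 * T := by omega
  have hlow : lowCost d k ≤ E := by
    rw [hE, lowCost, show (d - k) / 3 = T by omega]
    have := minSq_le hT
    omega
  simp only [covered, List.all_eq_true, List.mem_range, Bool.or_eq_true, bne_iff_ne,
    decide_eq_true_eq, List.any_eq_true, Bool.and_eq_true, beq_iff_eq] at hcov
  rcases hcov d hd k (by omega) with (h | h) | ⟨p, hp, ⟨h1, h2⟩, h3⟩
  · omega
  · omega
  · exact ⟨p, hp, by omega, h2, by rw [h3]; push_cast; rfl⟩

end Cfsg.Agent.SmallS16.DegreeSearch
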