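import Mathlib
import Cfsg.Prelude.Def_DegreeGraph
import Cfsg.Agent.TwoBlocks.Energy
import Cfsg.Agent.Lib.BlocksCore.DefectZero
import Cfsg.Agent.Lib.CharCore.Linear
import Cfsg.Agent.Lib.CharCore.Complete
import Cfsg.Agent.SmallS16.DegreeSearch
import Cfsg.Agent.S0984
import Cfsg.Agent.S1001

set_option autoImplicit false

/-!
Primes dividing character degrees of the simple groups of orders 2520 and 5616.

The characters are weighed by the sum of their squared absolute values over the nontrivial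
powers of an element of prime order `q`. The weights add up to `q - 1` times the order of the
centralizer; a degree prime to `q` weighs at least `q - 1`.
-/

namespace Cfsg.Agent.SmallS16

open Finset
open Cfsg.Agent.TwoBlocks (ft)
open scoped ComplexConjugate

variable {G : Type*} [Group G] [Finite G]

omit [Finite G] in
/-- Nonnegative multiplicities of the eigenvalues at an element of prime order. -/
theorem exists_mult_nonneg {q : ℕ} [Fact q.Prime] (χ : Cfsg.IrrCharacter G) {z : G}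
    (hz : orderOf z = q) :
    ∃ m : ZMod q → ℤ, (∀ i, 0 ≤ m i) ∧ ∀ j : ZMod q, ft m j = (χ : G → ℂ) (z ^ j.val) := by
  classical
  obtain ⟨r, ρ, -, hρ⟩ := χ.2
  obtain ⟨b, μ, hμ, -, hpow⟩ := CharClifford.exists_eigenvalues ρ z
    (Fact.out : q.Prime).ne_zero (hz ▸ pow_orderOf_eq_one z)
  have hjex : ∀ i, ∃ j : ZMod q, BlkChar.Cofactor.stdChar q j = μ i := fun i => by
    obtain ⟨l, -, hl⟩ := (Complex.isPrimitiveRoot_exp q (NeZero.ne q)).eq_pow_of_pow_eq_one (hμ i)
    exact ⟨(l : ZMod q), by rw [BlkChar.Cofactor.stdChar_natCast]; exact hl⟩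
  choose e he using hjex
  refine ⟨fun x => (univ.filter fun i => e i = x).card, fun i => Int.natCast_nonneg _, fun j => ?_⟩
  rw [← hρ, ft, hpow, ← sum_fiberwise univ e (fun i => μ i ^ j.val)]
  refine sum_congr rfl fun x _ => ?_
  rw [sum_congr rfl (g := fun _ => BlkChar.Cofactor.stdChar q (x * j)) fun i hi => by
    rw [← he i, (mem_filter.mp hi).2, ← AddChar.map_nsmul_eq_pow, nsmul_eq_mul,
      ZMod.natCast_zmod_val, mul_comm], sum_const, nsmul_eq_mul, Int.cast_natCast]

theorem sum_norm_sq (y : G) :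
    ∑ χ : Cfsg.IrrCharacter G, ‖(χ : G → ℂ) y‖ ^ 2 =
      (Nat.card (Subgroup.centralizer ({y} : Set G)) : ℝ) := by
  classical
  have : Fintype G := Fintype.ofFinite G
  have h := CharCore.sum_apply_mul_conj y y
  rw [if_pos (IsConj.refl y)] at h
  simp only [Complex.mul_conj, Complex.normSq_eq_norm_sq] at h
  exact_mod_cast h

theorem centralizer_pow_le {q : ℕ} [hq : Fact q.Prime] {z : G} (hz : orderOf z = q) {j : ZMod q}
    (hj : j ≠ 0) :
    Subgroup.centralizer ({z ^ j.val} : Set G) ≤ Subgroup.centralizer ({z} : Set G) := by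
  intro g hg
  rw [Subgroup.mem_centralizer_singleton_iff] at hg ⊢
  have h : (z ^ j.val) ^ (j⁻¹).val = z := by
    rw [← pow_mul, ← pow_mod_orderOf, hz, ← ZMod.val_mul, mul_inv_cancel₀ hj, ZMod.val_one,
      pow_one]
  have hc : Commute g (z ^ j.val) := hg
  have := hc.pow_right (j⁻¹).val
  rwa [h] at this

/-- Degree, weight and trivial multiplicity at `z`, with their sums. -/
theorem exists_data {q : ℕ} [hq : Fact q.Prime] {z : G} (hz : orderOf z = q) :
    ∃ m : Cfsg.IrrCharacter G → ZMod q → ℤ,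
      (∀ χ i, 0 ≤ m χ i) ∧
      (∀ χ, ∀ j : ZMod q, ft (m χ) j = (χ : G → ℂ) (z ^ j.val)) ∧
      (∀ χ : Cfsg.IrrCharacter G, (Cfsg.charDegree (χ : G → ℂ) : ℤ) = ∑ i, m χ i) ∧
      (∀ χ, 0 ≤ (q : ℤ) * ∑ i, m χ i ^ 2 - (∑ i, m χ i) ^ 2) ∧
      ∑ χ, ((q : ℤ) * ∑ i, m χ i ^ 2 - (∑ i, m χ i) ^ 2) ≤
        ((q : ℤ) - 1) * Nat.card (Subgroup.centralizer ({z} : Set G)) ∧
      (q : ℤ) * ∑ χ : Cfsg.IrrCharacter G, (Cfsg.charDegree (χ : G → ℂ) : ℤ) * m χ 0 =
        Nat.card G := by
  classical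
  have : Fintype G := Fintype.ofFinite G
  choose m hm0 hm using fun χ : Cfsg.IrrCharacter G => exists_mult_nonneg χ hz
  have hd : ∀ χ : Cfsg.IrrCharacter G, (Cfsg.charDegree (χ : G → ℂ) : ℤ) = ∑ i, m χ i := by
    intro χ
    have h := hm χ 0
    rw [ZMod.val_zero, pow_zero, BlocksCore.irr_one_eq] at h
    simp [ft] at h
    exact_mod_cast h.symm
  have hen : ∀ χ : Cfsg.IrrCharacter G, ∑ j ∈ univ.erase (0 : ZMod q), ‖(χ : G → ℂ) (z ^ j.val)‖ ^ 2 =
      (((q : ℤ) * ∑ i, m χ i ^ 2 - (∑ i, m χ i) ^ 2 : ℤ) : ℝ) := by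
    intro χ
    have h := TwoBlocks.energy_eq (χ := (χ : G → ℂ)) (z := z) (m χ) 0 (fun j => by simp [hm χ j])
    simp only [Int.cast_zero, add_zero] at h
    rw [h]; push_cast; rfl
  refine ⟨m, hm0, hm, hd, fun χ => ?_, ?_, ?_⟩
  · have : (0 : ℝ) ≤ (((q : ℤ) * ∑ i, m χ i ^ 2 - (∑ i, m χ i) ^ 2 : ℤ) : ℝ) :=
      hen χ ▸ sum_nonneg fun j _ => sq_nonneg _
    exact_mod_cast this
  · have h : ((∑ χ, ((q : ℤ) * ∑ i, m χ i ^ 2 - (∑ i, m χ i) ^ 2) : ℤ) : ℝ) ≤
        ((((q : ℤ) - 1) * Nat.card (Subgroup.centralizer ({z} : Set G)) : ℤ) : ℝ) := by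
      rw [Int.cast_sum, ← sum_congr rfl fun χ _ => hen χ, sum_comm]
      simp only [sum_norm_sq]
      refine (sum_le_sum (g := fun _ => (Nat.card (Subgroup.centralizer ({z} : Set G)) : ℝ))
        fun j hj => ?_).trans (le_of_eq ?_)
      · exact_mod_cast Subgroup.card_le_of_le (centralizer_pow_le hz (ne_of_mem_erase hj))
      · rw [sum_const, card_erase_of_mem (mem_univ _), card_univ, ZMod.card, nsmul_eq_mul,
          Nat.cast_sub hq.out.one_le]
        push_cast
        rfl
    exact_mod_cast h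
  · have hq0 : ∀ χ, (q : ℂ) * (m χ 0 : ℂ) = ∑ j : ZMod q, (χ : G → ℂ) (z ^ j.val) := by
      intro χ
      rw [← TwoBlocks.inversion (m χ) 0]
      simp [hm χ]
    have h : ((q : ℂ) * ∑ χ : Cfsg.IrrCharacter G,
        ((Cfsg.charDegree (χ : G → ℂ) : ℤ) : ℂ) * (m χ 0 : ℂ)) = (Nat.card G : ℂ) := by
      rw [mul_sum, sum_congr rfl fun χ _ => by
        rw [mul_left_comm, hq0 χ, Int.cast_natCast, ← BlocksCore.irr_one_eq, mul_sum], sum_comm,
        sum_congr rfl fun j _ => CharCore.sum_degree_mul_apply (z ^ j.val)]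
      rw [sum_eq_single 0]
      · simp
      · intro j _ hj
        rw [if_neg]
        intro h1
        have h2 : q ∣ j.val := by
          have h3 := orderOf_dvd_of_pow_eq_one h1
          rwa [hz] at h3
        exact hj ((ZMod.val_eq_zero j).mp (Nat.eq_zero_of_dvd_of_lt h2 (ZMod.val_lt j)))
      · simp
    exact_mod_cast h

/-- A vector with sum prime to `q` has energy at least `q - 1`. -/
theorem energy_ge {q : ℕ} [hq : Fact q.Prime] (n : ZMod q → ℤ) (h : ¬(q : ℤ) ∣ ∑ i, n i) :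
    (q : ℤ) - 1 ≤ (q : ℤ) * ∑ i, n i ^ 2 - (∑ i, n i) ^ 2 := by
  classical
  set v := n 0
  set s := univ.filter fun i => n i - v ≠ 0 with hs
  have hne : s.Nonempty := by
    rw [nonempty_iff_ne_empty]
    intro he
    apply h
    have hall : ∀ i, n i = v := fun i => by
      by_contra hi
      exact eq_empty_iff_forall_notMem.mp he i (mem_filter.mpr ⟨mem_univ i, sub_ne_zero.mpr hi⟩)
    simp [hall]
  have h1 : 1 ≤ (s.card : ℤ) := by exact_mod_cast hne.card_pos
  have h2 : (s.card : ℤ) + 1 ≤ q := by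
    have : s.card < q := (card_lt_card ⟨filter_subset _ _, fun hh => by
      simpa [hs, v] using hh (mem_univ (0 : ZMod q))⟩).trans_eq (card_univ.trans (ZMod.card q))
    omega
  have hsum : ∑ i ∈ s, (n i - v) = ∑ i, (n i - v) := sum_filter_of_ne fun i _ hi => hi
  have hsq : ∑ i ∈ s, (n i - v) ^ 2 = ∑ i, (n i - v) ^ 2 :=
    sum_filter_of_ne fun i _ hi h' => hi (by rw [h']; ring)
  have hcs := sq_sum_le_card_mul_sum_sq (s := s) (f := fun i => n i - v)
  have hlo : (s.card : ℤ) ≤ ∑ i ∈ s, (n i - v) ^ 2 := by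
    rw [card_eq_sum_ones, Nat.cast_sum]
    exact sum_le_sum fun i hi => by
      have := (mem_filter.mp hi).2
      have : 0 < (n i - v) ^ 2 := by positivity
      push_cast
      omega
  rw [hsum, hsq] at hcs
  rw [hsq] at hlo
  have e1 : ∑ i, (n i - v) = ∑ i, n i - (q : ℤ) * v := by simp [sum_sub_distrib]
  have e2 : ∑ i, (n i - v) ^ 2 = ∑ i, n i ^ 2 - 2 * v * ∑ i, n i + (q : ℤ) * v ^ 2 := by
    simp only [sub_sq, sum_add_distrib, sum_sub_distrib, sum_const, card_univ, ZMod.card,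
      nsmul_eq_mul, mul_sum]
    congr 2
    exact sum_congr rfl fun i _ => by ring
  rw [e1, e2] at hcs
  rw [e2] at hlo
  nlinarith [mul_le_mul_of_nonneg_left hlo (by omega : (0 : ℤ) ≤ (q : ℤ) - s.card),
    mul_nonneg (by omega : (0 : ℤ) ≤ (q : ℤ) - 1 - s.card) (by omega : (0 : ℤ) ≤ (s.card : ℤ) - 1)]

/-- A prime is a degree prime when there are more classes than centralizing elements. -/
theorem mem_degreePrimes_of_centralizer_lt {q : ℕ} [hq : Fact q.Prime] {z : G}
    (hz : orderOf z = q)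
    (h : Nat.card (Subgroup.centralizer ({z} : Set G)) < Nat.card (ConjClasses G)) :
    q ∈ Cfsg.degreePrimes G := by
  classical
  refine ⟨hq.out, ?_⟩
  by_contra hno
  obtain ⟨m, -, -, hd, -, hsum, -⟩ := exists_data hz
  have hlow : ∀ χ ∈ (univ : Finset (Cfsg.IrrCharacter G)),
      (q : ℤ) - 1 ≤ (q : ℤ) * ∑ i, m χ i ^ 2 - (∑ i, m χ i) ^ 2 := fun χ _ =>
    energy_ge _ fun hdvd => hno ⟨_, ⟨χ, rfl⟩, Int.natCast_dvd_natCast.mp (hd χ ▸ hdvd)⟩
  have h1 := (card_nsmul_le_sum _ _ _ hlow).trans hsum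
  rw [nsmul_eq_mul, mul_comm, card_univ, ← Nat.card_eq_fintype_card, CharCore.card_irr] at h1
  have h2 : 0 < (q : ℤ) - 1 := by have := hq.out.two_le; omega
  have := le_of_mul_le_mul_left h1 h2
  omega

section Seven

open Equiv

theorem invariant_conj (g y : Perm (Fin 7)) :
    ((g * y * g⁻¹).support.card, ((g * y * g⁻¹) ^ 2).support.card) =
      (y.support.card, (y ^ 2).support.card) := by
  rw [conj_pow, Perm.card_support_conj, Perm.card_support_conj]

theorem card_centralizer_le_seven (x : alternatingGroup (Fin 7))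
    (hgen : ∀ i : Fin 7, ∃ k : Fin 7, ((x : Perm (Fin 7)) ^ (k : ℕ)) 0 = i) :
    Nat.card (Subgroup.centralizer ({x} : Set (alternatingGroup (Fin 7)))) ≤ 7 := by
  refine le_trans (Nat.card_le_card_of_injective
    (fun g => ((g.1 : alternatingGroup (Fin 7)) : Perm (Fin 7)) 0) ?_) (by simp)
  intro g h hgh
  refine Subtype.ext (Subtype.ext (Equiv.ext fun i => ?_))
  obtain ⟨k, rfl⟩ := hgen i
  have key : ∀ u : Subgroup.centralizer ({x} : Set (alternatingGroup (Fin 7))),
      (u.1 : Perm (Fin 7)) (((x : Perm (Fin 7)) ^ (k : ℕ)) 0) =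
        ((x : Perm (Fin 7)) ^ (k : ℕ)) ((u.1 : Perm (Fin 7)) 0) := fun u => by
    have hu : Commute (u.1 : Perm (Fin 7)) (x : Perm (Fin 7)) :=
      congrArg Subtype.val (Subgroup.mem_centralizer_singleton_iff.mp u.2)
    exact congrArg (fun p : Perm (Fin 7) => p 0) (hu.pow_right (k : ℕ))
  rw [key, key, show (g.1 : Perm (Fin 7)) 0 = (h.1 : Perm (Fin 7)) 0 from hgh]

theorem card_centralizer_le_five (x : alternatingGroup (Fin 7))
    (hgen : ∀ i : Fin 7, (i : ℕ) < 5 → ∃ k : Fin 5, ((x : Perm (Fin 7)) ^ (k : ℕ)) 0 = i)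
    (hmove : ∀ i : Fin 7, (x : Perm (Fin 7)) i ≠ i → (i : ℕ) < 5)
    (h0 : (x : Perm (Fin 7)) 0 ≠ 0) :
    Nat.card (Subgroup.centralizer ({x} : Set (alternatingGroup (Fin 7)))) ≤ 5 := by
  have hcomm : ∀ u : Subgroup.centralizer ({x} : Set (alternatingGroup (Fin 7))),
      Commute (u.1 : Perm (Fin 7)) (x : Perm (Fin 7)) := fun u =>
    congrArg Subtype.val (Subgroup.mem_centralizer_singleton_iff.mp u.2)
  have hlt : ∀ u : Subgroup.centralizer ({x} : Set (alternatingGroup (Fin 7))),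
      ((u.1 : Perm (Fin 7)) 0 : ℕ) < 5 := fun u => hmove _ fun he => h0 <| by
    have h1 : (u.1 : Perm (Fin 7)) ((x : Perm (Fin 7)) 0) =
        (x : Perm (Fin 7)) ((u.1 : Perm (Fin 7)) 0) :=
      congrArg (fun p : Perm (Fin 7) => p 0) (hcomm u)
    exact (u.1 : Perm (Fin 7)).injective (h1.trans he)
  refine le_trans (Nat.card_le_card_of_injective
    (fun g => (⟨_, hlt g⟩ : Fin 5)) ?_) (by simp)
  intro g h hgh
  have h00 : (g.1 : Perm (Fin 7)) 0 = (h.1 : Perm (Fin 7)) 0 :=
    Fin.ext (congrArg Fin.val hgh :)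
  set u : Perm (Fin 7) := (h.1 : Perm (Fin 7))⁻¹ * (g.1 : Perm (Fin 7)) with hu
  have hfix : ∀ i : Fin 7, (i : ℕ) < 5 → u i = i := by
    intro i hi
    obtain ⟨k, rfl⟩ := hgen i hi
    have key : ∀ v : Subgroup.centralizer ({x} : Set (alternatingGroup (Fin 7))),
        (v.1 : Perm (Fin 7)) (((x : Perm (Fin 7)) ^ (k : ℕ)) 0) =
        ((x : Perm (Fin 7)) ^ (k : ℕ)) ((v.1 : Perm (Fin 7)) 0) := fun v =>
      congrArg (fun p : Perm (Fin 7) => p 0) ((hcomm v).pow_right (k : ℕ))
    rw [hu, Perm.mul_apply, key g, h00, ← key h]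
    simp
  have hsup : u.support ⊆ {5, 6} := by
    intro i hi
    rw [Perm.mem_support] at hi
    have h5 : ¬ (i : ℕ) < 5 := fun h' => hi (hfix i h')
    revert h5
    revert i
    intro i _ h5
    fin_cases i <;> simp_all
  have hle : u.support.card ≤ 2 := (card_le_card hsup).trans card_le_two
  have hsign : Perm.sign u = 1 :=
    Perm.mem_alternatingGroup.mp (mul_mem (inv_mem h.1.2) g.1.2)
  have hne2 : u.support.card ≠ 2 := fun h2 => by
    rw [(Perm.card_support_eq_two.mp h2).sign_eq] at hsign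
    exact absurd hsign (by decide)
  have hu1 : u = 1 := Perm.card_support_le_one.mp (by omega)
  exact Subtype.ext (Subtype.ext (inv_mul_eq_one.mp (hu ▸ hu1)).symm)

/-- Eight elements of the alternating group of degree seven from distinct classes. -/
def reps : Fin 8 → Perm (Fin 7) :=
  ![1, swap 0 1 * swap 2 3, swap 0 1 * swap 1 2, swap 0 1 * swap 1 2 * (swap 3 4 * swap 4 5),
    swap 0 1 * swap 1 2 * swap 2 3 * swap 4 5, swap 0 1 * swap 1 2 * swap 2 3 * swap 3 4,
    swap 0 1 * swap 1 2 * swap 3 4 * swap 5 6, finRotate 7]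

theorem reps_even : ∀ i, Perm.sign (reps i) = 1 := by decide +kernel

theorem reps_distinct : ∀ i j, ((reps i).support.card, ((reps i) ^ 2).support.card) =
    ((reps j).support.card, ((reps j) ^ 2).support.card) → i = j := by decide +kernel

theorem eight_le_card_conjClasses {S : Type*} [Group S] [Finite S]
    (e : S ≃* alternatingGroup (Fin 7)) : 8 ≤ Nat.card (ConjClasses S) := by
  classical
  refine le_trans (le_of_eq (by simp)) (Nat.card_le_card_of_injective
    (fun i : Fin 8 => ConjClasses.mk (e.symm ⟨reps i, Perm.mem_alternatingGroup.mpr (reps_even i)⟩))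
    fun i j hij => reps_distinct i j ?_)
  obtain ⟨c, hc⟩ := isConj_iff.mp (ConjClasses.mk_eq_mk_iff_isConj.mp hij)
  have h := congrArg (fun y => ((e y : alternatingGroup (Fin 7)) : Perm (Fin 7))) hc
  simp at h
  rw [← h, invariant_conj]

theorem mem_degreePrimes_2520 {S : Type*} [Group S] [Finite S]
    (e : S ≃* alternatingGroup (Fin 7)) {q : ℕ} [Fact q.Prime] (r : Perm (Fin 7))
    (hr : Perm.sign r = 1) (hord : orderOf r = q)
    (hC : Nat.card (Subgroup.centralizer
      ({⟨r, Perm.mem_alternatingGroup.mpr hr⟩} : Set (alternatingGroup (Fin 7)))) < 8) :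
    q ∈ Cfsg.degreePrimes S := by
  set x : alternatingGroup (Fin 7) := ⟨r, Perm.mem_alternatingGroup.mpr hr⟩
  refine mem_degreePrimes_of_centralizer_lt (z := e.symm x) ?_ ?_
  · rw [MulEquiv.orderOf_eq, ← hord, ← Subgroup.orderOf_coe]
  · refine lt_of_le_of_lt (Nat.card_le_card_of_injective
      (fun g => (⟨e g.1, ?_⟩ : Subgroup.centralizer ({x} : Set (alternatingGroup (Fin 7))))) ?_)
      (hC.trans_le (eight_le_card_conjClasses e))
    · have := congrArg e (Subgroup.mem_centralizer_singleton_iff.mp g.2)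
      simp only [map_mul, MulEquiv.apply_symm_apply] at this
      exact Subgroup.mem_centralizer_singleton_iff.mpr this
    · intro a b hab
      exact Subtype.ext (e.injective (congrArg Subtype.val hab))

theorem degrees_2520 {S : Type*} [Group S] [Finite S] [IsSimpleGroup S]
    (h : Nat.card S = 2520) : 5 ∈ Cfsg.degreePrimes S ∧ 7 ∈ Cfsg.degreePrimes S := by
  obtain ⟨e⟩ := S0984.result h
  haveI : Fact (Nat.Prime 5) := ⟨by norm_num⟩
  haveI : Fact (Nat.Prime 7) := ⟨by norm_num⟩
  constructor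
  · refine mem_degreePrimes_2520 e (swap 0 1 * swap 1 2 * swap 2 3 * swap 3 4) (by decide +kernel)
      (orderOf_eq_prime (by decide +kernel) (by decide +kernel))
      ((card_centralizer_le_five _ (by decide +kernel) (by decide +kernel)
        (by decide +kernel)).trans_lt (by norm_num))
  · refine mem_degreePrimes_2520 e (finRotate 7) (by decide +kernel)
      (orderOf_eq_prime (by decide +kernel) (by decide +kernel))
      ((card_centralizer_le_seven _ (by decide +kernel)).trans_lt (by norm_num))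

end Seven

section Thirteen

open DegreeSearch

theorem sum_zmod_thirteen (f : ZMod 13 → ℤ) : ∑ i, f i = f 0 + (f 1 + f 3 + f 9) +
    (f 2 + f 6 + f 5) + (f 4 + f 12 + f 10) + (f 7 + f 8 + f 11) := by
  rw [show (univ : Finset (ZMod 13)) = {0, 1, 3, 9, 2, 6, 5, 4, 12, 10, 7, 8, 11} by decide]
  repeat rw [sum_insert (by decide)]
  rw [sum_singleton]
  ring

/-- In a simple group of order 5616 an element of order 13 is conjugate to its cube. -/
theorem exists_conj_cube {S : Type*} [Group S] [Finite S] [IsSimpleGroup S]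
    (h : Nat.card S = 5616) {z : S} (hz : orderOf z = 13) : ∃ g : S, g * z * g⁻¹ = z ^ 3 := by
  classical
  haveI : Fact (Nat.Prime 13) := ⟨by norm_num⟩
  haveI : Fact (Nat.Prime 3) := ⟨by norm_num⟩
  have hcen := S1001.result 13 3 4 (by norm_num) (by rw [h]; norm_num) z hz
  have hZ : Nat.card (Subgroup.zpowers z) = 13 := by rw [Nat.card_zpowers, hz]
  obtain ⟨P⟩ : Nonempty (Sylow 13 S) := inferInstance
  let P' : Sylow 13 S := Sylow.ofCard (Subgroup.zpowers z) (by
    rw [hZ, h, show Nat.factorization 5616 13 = 1 by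
      rw [show (5616 : ℕ) = 432 * 13 ^ 1 by norm_num, Nat.factorization_mul (by norm_num)
        (by norm_num), Finsupp.add_apply, Nat.factorization_eq_zero_of_not_dvd (by norm_num),
        Nat.Prime.factorization_pow (by norm_num)]
      simp]
    norm_num)
  set N : Subgroup S := Subgroup.normalizer ((Subgroup.zpowers z : Subgroup S) : Set S) with hN
  have hidx : N.index = Nat.card (Sylow 13 S) := (Sylow.card_eq_index_normalizer P').symm
  have hmod := card_sylow_modEq_one 13 S
  rw [← hidx] at hmod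
  have hNdvd : Nat.card N ∣ 13 * 12 := by
    haveI : IsCyclic (Subgroup.zpowers z) := isCyclic_of_prime_card hZ
    have hker : Nat.card (Subgroup.normalizerMonoidHom (Subgroup.zpowers z)).ker ∣ 13 := by
      rw [Subgroup.normalizerMonoidHom_ker]
      have hle : Subgroup.centralizer ((Subgroup.zpowers z : Subgroup S) : Set S) ≤
          Subgroup.zpowers z :=
        (Subgroup.centralizer_le (by simp)).trans_eq hcen
      rw [← hZ]
      exact (Subgroup.card_comap_dvd_of_injective _ _ (Subgroup.subtype_injective _)).trans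
        (Subgroup.card_dvd_of_le hle)
    have hran : Nat.card (Subgroup.normalizerMonoidHom (Subgroup.zpowers z)).range ∣ 12 := by
      refine (Subgroup.card_subgroup_dvd_card _).trans (dvd_of_eq ?_)
      rw [IsCyclic.card_mulAut, hZ, Nat.totient_prime (by norm_num)]
    rw [← Subgroup.card_mul_index (Subgroup.normalizerMonoidHom (Subgroup.zpowers z)).ker,
      Subgroup.index_ker]
    exact Nat.mul_dvd_mul hker hran
  have h3 : 3 ∣ Nat.card N := by
    have hmul := Subgroup.card_mul_index N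
    rw [h] at hmul
    have hmem : Nat.card N ∈ Nat.divisors (13 * 12) := Nat.mem_divisors.mpr ⟨hNdvd, by norm_num⟩
    unfold Nat.ModEq at hmod
    generalize Nat.card N = n at hmul hmem ⊢
    have key : ∀ n ∈ Nat.divisors (13 * 12), (5616 / n) % 13 = 1 → 3 ∣ n := by decide +kernel
    refine key n hmem ?_
    have hn : 0 < n := Nat.pos_of_mem_divisors hmem
    rw [← hmul, Nat.mul_div_cancel_left _ hn]
    simpa using hmod
  obtain ⟨g, hg⟩ := exists_prime_orderOf_dvd_card' 3 h3
  have hgS : orderOf (g : S) = 3 := by rw [Subgroup.orderOf_coe, hg]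
  have hgN := Subgroup.mem_normalizer_iff.mp g.2
  have hmem : (g : S) * z * (g : S)⁻¹ ∈ Subgroup.zpowers z :=
    (hgN z).mp (Subgroup.mem_zpowers z)
  obtain ⟨k, hk⟩ := (mem_powers_iff_mem_zpowers.mpr hmem : _ ∈ Submonoid.powers z)
  simp only at hk
  rw [← pow_mod_orderOf, hz] at hk
  set l := k % 13 with hl
  have hl13 : l < 13 := Nat.mod_lt _ (by norm_num)
  have hit : ∀ n : ℕ, (g : S) ^ n * z * ((g : S) ^ n)⁻¹ = z ^ l ^ n := by
    intro n
    induction n with
    | zero => simp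
    | succ n ih =>
      rw [pow_succ' (g : S), mul_inv_rev, show (g : S) * (g : S) ^ n * z *
        (((g : S) ^ n)⁻¹ * (g : S)⁻¹) = (g : S) * ((g : S) ^ n * z * ((g : S) ^ n)⁻¹) * (g : S)⁻¹
        by group, ih, ← conj_pow, ← hk, ← pow_mul, ← pow_succ']
  have hl3 : l ^ 3 % 13 = 1 := by
    have h1 := hit 3
    rw [← hgS, pow_orderOf_eq_one, one_mul, inv_one, mul_one, hgS] at h1
    have h2 : z ^ 1 = z ^ l ^ 3 := by rw [pow_one]; exact h1
    rw [pow_inj_mod, hz] at h2
    omega
  have hcase : ∀ a < 13, a ^ 3 % 13 = 1 → a = 1 ∨ a = 3 ∨ a = 9 := by decide +kernel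
  rcases hcase l hl13 hl3 with h1 | h1 | h1
  · exfalso
    rw [h1, pow_one] at hk
    have hgc : (g : S) ∈ Subgroup.centralizer ({z} : Set S) := by
      rw [Subgroup.mem_centralizer_singleton_iff]
      conv_rhs => rw [hk]
      group
    rw [hcen] at hgc
    have := orderOf_dvd_of_mem_zpowers hgc
    rw [hgS, hz] at this
    norm_num at this
  · exact ⟨g, by rw [← hk, h1]⟩
  · refine ⟨(g : S) ^ 2, ?_⟩
    rw [hit 2, ← pow_mod_orderOf, hz, h1]
    rfl

/-- The counting contradiction for a list of allowed degrees. -/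
theorem false_of_degrees {S : Type*} [Group S] [Finite S] [IsSimpleGroup S]
    (h : Nat.card S = 5616) {os : List Opt} {ds : List ℕ} (hcov : covered os ds = true)
    (hsearch : search 200 os 144 5615 431 = true)
    (hds : ∀ χ : Cfsg.IrrCharacter S, Cfsg.charDegree (χ : S → ℂ) < 75 →
      Cfsg.charDegree (χ : S → ℂ) ∣ 5616 → Cfsg.charDegree (χ : S → ℂ) ≠ 1 →
        Cfsg.charDegree (χ : S → ℂ) ∈ ds) : False := by
  classical
  haveI : Fact (Nat.Prime 13) := ⟨by norm_num⟩
  have : Fintype S := Fintype.ofFinite S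
  obtain ⟨z, hz⟩ := exists_prime_orderOf_dvd_card' (G := S) 13 (by rw [h]; norm_num)
  obtain ⟨m, hm0, hm, hd, hE0, hE, hM⟩ := exists_data hz
  have hC : Nat.card (Subgroup.centralizer ({z} : Set S)) = 13 := by
    rw [S1001.result 13 3 4 (by norm_num) (by rw [h]; norm_num) z hz, Nat.card_zpowers, hz]
  rw [hC] at hE
  obtain ⟨g, hg⟩ := exists_conj_cube h hz
  have hinv : ∀ χ i, m χ (3 * i) = m χ i := fun χ i => by
    simpa using TwoBlocks.mult_inv (CharCore.irr_isClassFunction χ) (m χ) 0 hz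
      (fun j => by simp [hm χ j]) hg i
  set d : Cfsg.IrrCharacter S → ℕ := fun χ => Cfsg.charDegree (χ : S → ℂ) with hdd
  set E : Cfsg.IrrCharacter S → ℤ := fun χ => (13 : ℤ) * ∑ i, m χ i ^ 2 - (∑ i, m χ i) ^ 2
  -- the trivial character is the only linear one
  let T : Cfsg.IrrCharacter S := ⟨1, CharCore.isIrrCharacter_one⟩
  have hdT : d T = 1 := by
    have := BlocksCore.irr_one_eq T
    simp [T] at this
    exact_mod_cast this.symm
  have hperf : (commutator S).index = 1 := by
    rw [Subgroup.index_eq_one]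
    refine ((inferInstance : (commutator S).Normal).eq_bot_or_eq_top).resolve_left fun hbot => ?_
    have hab : ∀ a b : S, a * b = b * a := fun a b => by
      have := Subgroup.commutator_mem_commutator (Subgroup.mem_top a) (Subgroup.mem_top b)
      rw [← commutator_def, hbot, Subgroup.mem_bot, commutatorElement_eq_one_iff_mul_comm] at this
      exact this
    have hp := SmallGroups.prime_card_of_comm (G := S) (isMulCommutative_iff.mpr hab)
    rw [h] at hp
    norm_num at hp
  have huniq : ∀ χ, d χ = 1 → χ = T := by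
    intro χ hχ
    have hc := CharCore.card_linearCharacters (G := S)
    rw [hperf] at hc
    have := (Nat.card_eq_one_iff_unique.mp hc).1
    have h1 : (χ : S → ℂ) 1 = 1 := by
      rw [BlocksCore.irr_one_eq, show Cfsg.charDegree (χ : S → ℂ) = 1 from hχ, Nat.cast_one]
    exact congrArg Subtype.val
      (Subsingleton.elim (⟨χ, h1⟩ : {χ : Cfsg.IrrCharacter S // (χ : S → ℂ) 1 = 1})
        ⟨T, by simp [T]⟩)
  have hsq : ∑ χ, d χ ^ 2 = 5616 := by
    have hh := CharCore.sum_degree_sq (G := S)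
    simp only [BlocksCore.irr_one_eq, h] at hh
    exact_mod_cast hh
  have hmT : m T 0 = 1 := by
    have h1 := TwoBlocks.inversion (m T) 0
    simp [hm T, T] at h1
    simp only [T]
    exact_mod_cast h1
  have hET : E T = 12 := by
    have h1 := TwoBlocks.energy_eq (χ := (T : S → ℂ)) (z := z) (m T) 0 (fun j => by simp [hm T j])
    simp [T] at h1
    have : ((E T : ℤ) : ℝ) = ((12 : ℤ) : ℝ) := by
      simp only [E]; push_cast; linarith
    exact_mod_cast this
  -- the budgets
  have hsqR : ∑ χ ∈ univ.erase T, d χ ^ 2 = 5615 := by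
    rw [← add_sum_erase _ _ (mem_univ T), hdT] at hsq
    omega
  have hER : ∑ χ ∈ univ.erase T, E χ ≤ 144 := by
    have hall : ∑ χ, E χ ≤ 156 := le_trans hE (by norm_num)
    rw [← add_sum_erase _ _ (mem_univ T), hET] at hall
    omega
  have hMR : ∑ χ ∈ univ.erase T, (d χ : ℤ) * m χ 0 = 431 := by
    rw [← add_sum_erase _ _ (mem_univ T), h] at hM
    simp only [hdd] at hdT ⊢
    rw [hdT, hmT] at hM
    omega
  have hopt : ∀ χ ∈ univ.erase T, ∃ p ∈ os,
      (p.1 : ℤ) ≤ E χ ∧ p.2.1 = d χ ^ 2 ∧ (p.2.2 : ℤ) = d χ * m χ 0 := by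
    intro χ hχ
    have hne : d χ ≠ 1 := fun h1 => ne_of_mem_erase hχ (huniq χ h1)
    have hlt : d χ < 75 := by
      have : d χ ^ 2 ≤ 5615 := hsqR ▸ single_le_sum (f := fun χ => d χ ^ 2)
        (fun _ _ => Nat.zero_le _) hχ
      nlinarith
    have hdvd : d χ ∣ 5616 := h ▸ BlocksCore.charDegree_dvd_card χ
    have hEle : E χ ≤ 144 := le_trans (single_le_sum (f := E) (fun χ _ => hE0 χ) hχ) hER
    obtain ⟨n, hn⟩ := Int.eq_ofNat_of_zero_le (hE0 χ)
    have hn' : E χ = n := hn
    have k3 := hinv χ 1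
    have k9 := hinv χ 3
    have k6 := hinv χ 2
    have k5 := hinv χ 6
    have k12 := hinv χ 4
    have k10 := hinv χ 12
    have k8 := hinv χ 7
    have k11 := hinv χ 8
    simp only [show (3 : ZMod 13) * 1 = 3 from rfl, show (3 : ZMod 13) * 3 = 9 from rfl,
      show (3 : ZMod 13) * 2 = 6 from rfl, show (3 : ZMod 13) * 6 = 5 from rfl,
      show (3 : ZMod 13) * 4 = 12 from rfl, show (3 : ZMod 13) * 12 = 10 from rfl,
      show (3 : ZMod 13) * 7 = 8 from rfl, show (3 : ZMod 13) * 8 = 11 from rfl]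
      at k3 k9 k6 k5 k12 k10 k8 k11
    have hsumf := fun f : ZMod 13 → ℤ => sum_zmod_thirteen f
    have hdsum : (d χ : ℤ) = m χ 0 + 3 * (m χ 1 + m χ 2 + m χ 4 + m χ 7) := by
      simp only [hdd]
      rw [hd χ, hsumf, k9, k3, k5, k6, k10, k12, k11, k8]
      ring
    have hEeq : (n : ℤ) = 13 * (m χ 0 ^ 2 + 3 * (m χ 1 ^ 2 + m χ 2 ^ 2 + m χ 4 ^ 2 + m χ 7 ^ 2))
        - (d χ : ℤ) ^ 2 := by
      rw [← hn']
      simp only [E]
      rw [show ∑ i, m χ i = (d χ : ℤ) from (hd χ).symm, hsumf fun i => m χ i ^ 2]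
      simp only [k9, k3, k5, k6, k10, k12, k11, k8]
      ring
    have hmle : m χ 0 ≤ d χ := by
      simp only [hdd]
      rw [hd χ]
      exact single_le_sum (fun i _ => hm0 χ i) (mem_univ _)
    obtain ⟨p, hp, hp1, hp2, hp3⟩ := exists_opt hcov (hds χ hlt hdvd hne) (hm0 χ 0) hmle hdsum
      hEeq (by omega)
    exact ⟨p, hp, by omega, hp2, hp3⟩
  choose! p hp hp1 hp2 hp3 using hopt
  refine search_sound 200 os 144 5615 431 ((univ.erase T).val.map p) hsearch ?_ ?_ ?_ ?_
  · intro x hx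
    obtain ⟨χ, hχ, rfl⟩ := Multiset.mem_map.mp hx
    exact hp χ hχ
  · rw [Multiset.map_map]
    show ∑ χ ∈ univ.erase T, (p χ).1 ≤ 144
    have := sum_le_sum hp1
    rw [← Nat.cast_sum] at this
    omega
  · rw [Multiset.map_map]
    show ∑ χ ∈ univ.erase T, (p χ).2.1 = 5615
    rw [sum_congr rfl hp2, hsqR]
  · rw [Multiset.map_map]
    show ∑ χ ∈ univ.erase T, (p χ).2.2 = 431
    have := sum_congr rfl hp3
    rw [hMR, ← Nat.cast_sum] at this
    omega

theorem degrees_5616 {S : Type*} [Group S] [Finite S] [IsSimpleGroup S]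
    (h : Nat.card S = 5616) : 3 ∈ Cfsg.degreePrimes S ∧ 13 ∈ Cfsg.degreePrimes S := by
  constructor
  · refine ⟨by norm_num, ?_⟩
    by_contra hno
    exact false_of_degrees h coveredB searchB fun χ h1 h2 h3 =>
      degB_spec _ (List.mem_range.mpr h1) h2 (fun h' => hno ⟨_, ⟨χ, rfl⟩, h'⟩) h3
  · refine ⟨by norm_num, ?_⟩
    by_contra hno
    exact false_of_degrees h coveredA searchA fun χ h1 h2 h3 =>
      degA_spec _ (List.mem_range.mpr h1) h2 (fun h' => hno ⟨_, ⟨χ, rfl⟩, h'⟩) h3

end Thirteen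

end Cfsg.Agent.SmallS16
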