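import Cfsg.Agent.SmallS16.GapA.Sieve
import Cfsg.Agent.SmallS16.GapA.Easy
import Cfsg.Agent.SmallS16.GapA.Counts
import Cfsg.Agent.SmallS16.GapA.Orders
import Cfsg.Agent.SmallS16.GapA.O1512

set_option autoImplicit false

/-!
# Orders of simple groups between 1093 and 3640, first part
-/

namespace Cfsg.Agent.SmallS16

/-- The sieve leaves sixteen orders in `(1092, 3640]`. -/
theorem card_mem_gap {G : Type*} [Group G] [Finite G] [IsSimpleGroup G]
    (hG : ¬ IsMulCommutative G) (h1 : 1092 < Nat.card G) (h2 : Nat.card G ≤ 3640) :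
    Nat.card G ∈ ([2448, 2520, 3420, 1512, 1680, 1716, 1980, 3120, 3360, 3432, 1800, 2100, 2160,
      2400, 2700, 3600] : List ℕ) := by
  have h := GapA.card_mem_raw hG h1 h2
  have h' := GapA.not_easy hG
  simp only [GapA.raw, List.mem_cons, List.not_mem_nil, or_false, not_or] at h h' ⊢
  omega

/-- Seven of them are no orders of simple groups. -/
theorem not_gapA {G : Type*} [Group G] [Finite G] [IsSimpleGroup G]
    (hG : ¬ IsMulCommutative G) :
    Nat.card G ∉ ([1512, 1680, 1716, 1980, 3120, 3360, 3432] : List ℕ) := by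
  intro h
  simp only [List.mem_cons, List.not_mem_nil, or_false] at h
  rcases h with h | h | h | h | h | h | h
  · exact GapA.not_1512 hG h
  · exact GapA.not_1680 hG h
  · exact GapA.not_1716 hG h
  · exact GapA.not_1980 hG h
  · exact GapA.not_3120 hG h
  · exact GapA.not_3360 hG h
  · exact GapA.not_3432 hG h

end Cfsg.Agent.SmallS16
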