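import Cfsg.Agent.SO89.OrdersD
import Cfsg.Agent.Lib.SmallGroups.ThreePrimes
import Cfsg.Agent.Lib.SmallGroups.SelfCent.TwoClass

set_option autoImplicit false

/-!
# Simple groups have none of the orders 1800, 2100, 2160, 2400, 2700, 3600
-/

namespace Cfsg.Agent.SmallS16

open Subgroup SmallGroups SO89

variable {G : Type*} [Group G] [Finite G] [IsSimpleGroup G]

open scoped IsMulCommutative in
/-- A non-abelian simple group with an abelian Sylow subgroup has no element of it central in the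
normaliser. -/
theorem eq_one_of_normalizer_comm (hG : ¬ IsMulCommutative G) {p : ℕ} [Fact p.Prime]
    (P : Sylow p G) [IsMulCommutative ↥(P : Subgroup G)] {x : G} (hx : x ∈ (P : Subgroup G))
    (hc : ∀ n ∈ normalizer ((P : Subgroup G) : Set G), Commute n x) : x = 1 := by
  have key : ∀ (k : ℕ) (g₀ : G), g₀⁻¹ * x ^ k * g₀ ∈ (P : Subgroup G) →
      g₀⁻¹ * x ^ k * g₀ = x ^ k := by
    intro k g₀ h
    obtain ⟨n, hn, h⟩ := P.conj_eq_normalizer_conj_of_mem (x ^ k) g₀ (pow_mem hx k) h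
    rw [h, mul_assoc, ← ((hc n hn).pow_right k).eq, inv_mul_cancel_left]
  set φ : G →* ↥(P : Subgroup G) := MonoidHom.transfer (MonoidHom.id ↥(P : Subgroup G))
  have hker : φ.ker = ⊤ := φ.normal_ker.eq_bot_or_eq_top.resolve_left fun h =>
    hG (isMulCommutative_iff.mpr fun a b =>
      (MonoidHom.ker_eq_bot_iff φ).mp h (by rw [map_mul, map_mul, mul_comm]))
  have h1 : φ x = 1 := MonoidHom.mem_ker.mp (hker ▸ mem_top x)
  rw [MonoidHom.transfer_eq_pow _ x key, MonoidHom.id_apply] at h1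
  have h2 : x ^ (P : Subgroup G).index = 1 := congrArg Subtype.val h1
  obtain ⟨k, hk⟩ := P.2.exists_card_eq
  have h3 : orderOf x ∣ p ^ k := hk ▸ Subgroup.orderOf_dvd_natCard _ hx
  exact orderOf_eq_one_iff.mp (Nat.eq_one_of_dvd_coprimes
    (((Fact.out : p.Prime).coprime_iff_not_dvd.mpr P.not_dvd_index).pow_left k) h3
    (orderOf_dvd_of_pow_eq_one h2))

set_option synthInstance.maxSize 2000 in
theorem ok_1800 : ∀ i ∈ (50 : ℕ).divisors, ∀ j < 250, cutOK 1800 5 i j = true → i * j ≠ 150 →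
    i * j ≠ 450 → (i, j) ∈ ([] : List (ℕ × ℕ)) := by
  decide +kernel

set_option synthInstance.maxSize 2000 in
theorem ok_2100 : ∀ i ∈ (100 : ℕ).divisors, ∀ j < 250, cutOK 2100 5 i j = true → i * j ≠ 150 →
    i * j ≠ 450 → (i, j) ∈ ([] : List (ℕ × ℕ)) := by
  decide +kernel

set_option synthInstance.maxSize 2000 in
theorem ok_2400_150 : ∀ i ∈ (150 : ℕ).divisors, ∀ j < 250, cutOK 2400 5 i j = true → i * j ≠ 150 →
    i * j ≠ 450 → (i, j) ∈ ([] : List (ℕ × ℕ)) := by
  decide +kernel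

set_option synthInstance.maxSize 2000 in
theorem ok_2400_25 : ∀ i ∈ (25 : ℕ).divisors, ∀ j < 250, cutOK 2400 5 i j = true → i * j ≠ 150 →
    i * j ≠ 450 → (i, j) ∈ ([] : List (ℕ × ℕ)) := by
  decide +kernel

set_option synthInstance.maxSize 2000 in
theorem ok_2700 : ∀ i ∈ (75 : ℕ).divisors, ∀ j < 250, cutOK 2700 5 i j = true → i * j ≠ 150 →
    i * j ≠ 450 → (i, j) ∈ ([] : List (ℕ × ℕ)) := by
  decide +kernel

set_option synthInstance.maxSize 2000 in
theorem ok_3600_225 : ∀ i ∈ (225 : ℕ).divisors, ∀ j < 250, cutOK 3600 5 i j = true → i * j ≠ 150 →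
    i * j ≠ 450 → (i, j) ∈ ([] : List (ℕ × ℕ)) := by
  decide +kernel

set_option synthInstance.maxSize 2000 in
theorem ok_3600_100 : ∀ i ∈ (100 : ℕ).divisors, ∀ j < 250, cutOK 3600 5 i j = true → i * j ≠ 150 →
    i * j ≠ 450 → (i, j) ∈ ([(50, 6)] : List (ℕ × ℕ)) := by
  decide +kernel

/-- Without possible cuts, `n_5` is congruent to `1` modulo `25`. -/
theorem false_of_no_cut (hG : ¬ IsMulCommutative G) [Fact (Nat.Prime 5)] {n N d : ℕ}
    (hn : Nat.card G = n) (hQ : ∀ S : Sylow 5 G, Nat.card ↥(S : Subgroup G) = 5 ^ 2)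
    (hd : Nat.card (Sylow 5 G) = d) (hN : n = N * d) (hn6 : n ≤ 6232) (hd25 : d % 25 ≠ 1)
    (h : ∀ i ∈ N.divisors, ∀ j < 250, cutOK n 5 i j = true → i * j ≠ 150 → i * j ≠ 450 →
      (i, j) ∈ ([] : List (ℕ × ℕ))) : False := by
  classical
  obtain ⟨Q⟩ := (inferInstance : Nonempty (Sylow 5 G))
  have hNc := normalizer_conj_eq_card Q hd (k := N) (hn.trans hN)
  have : IsEmpty (Cuts Q) := ⟨fun D => by
    obtain ⟨i, j, hmem, -⟩ := cut_mem hG hn hQ Q hNc D [] hn6 (hNc ▸ Nat.card_pos) h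
    simp at hmem⟩
  obtain ⟨t, ht⟩ := card_sylow_eq_sum hQ Q
  have := Fintype.ofFinite (Cuts Q)
  rw [ht, Finset.univ_eq_empty, Finset.sum_empty] at hd
  omega

theorem not_1800 (hG : ¬ IsMulCommutative G) : Nat.card G ≠ 1800 := by
  intro hn
  have : Fact (Nat.Prime 5) := ⟨by norm_num⟩
  have h5 := sylow_mem hG (q := 5) (a := 2) (m := 72) (by rw [hn]; norm_num) (by norm_num)
    (by norm_num) (by norm_num) [36] (by decide +kernel)
  exact false_of_no_cut hG hn (fun S => card_sylow_eq (a := 2) (m := 72) (by rw [hn]; norm_num)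
    (by norm_num) S) (List.mem_singleton.mp h5) (N := 50) (by norm_num) (by norm_num) (by norm_num)
    ok_1800

theorem not_2100 (hG : ¬ IsMulCommutative G) : Nat.card G ≠ 2100 := by
  intro hn
  have : Fact (Nat.Prime 5) := ⟨by norm_num⟩
  have h5 := sylow_mem hG (q := 5) (a := 2) (m := 84) (by rw [hn]; norm_num) (by norm_num)
    (by norm_num) (by norm_num) [21] (by decide +kernel)
  exact false_of_no_cut hG hn (fun S => card_sylow_eq (a := 2) (m := 84) (by rw [hn]; norm_num)
    (by norm_num) S) (List.mem_singleton.mp h5) (N := 100) (by norm_num) (by norm_num) (by norm_num)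
    ok_2100

theorem not_2400 (hG : ¬ IsMulCommutative G) : Nat.card G ≠ 2400 := by
  intro hn
  have : Fact (Nat.Prime 5) := ⟨by norm_num⟩
  have h5 := sylow_mem hG (q := 5) (a := 2) (m := 96) (by rw [hn]; norm_num) (by norm_num)
    (by norm_num) (by norm_num) [16, 96] (by decide +kernel)
  have hQ : ∀ S : Sylow 5 G, Nat.card ↥(S : Subgroup G) = 5 ^ 2 := fun S =>
    card_sylow_eq (a := 2) (m := 96) (by rw [hn]; norm_num) (by norm_num) S
  simp only [List.mem_cons, List.not_mem_nil, or_false] at h5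
  rcases h5 with h5 | h5
  · exact false_of_no_cut hG hn hQ h5 (N := 150) (by norm_num) (by norm_num) (by norm_num)
      ok_2400_150
  · exact false_of_no_cut hG hn hQ h5 (N := 25) (by norm_num) (by norm_num) (by norm_num)
      ok_2400_25

theorem not_2700 (hG : ¬ IsMulCommutative G) : Nat.card G ≠ 2700 := by
  intro hn
  have : Fact (Nat.Prime 5) := ⟨by norm_num⟩
  have h5 := sylow_mem hG (q := 5) (a := 2) (m := 108) (by rw [hn]; norm_num) (by norm_num)
    (by norm_num) (by norm_num) [36] (by decide +kernel)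
  exact false_of_no_cut hG hn (fun S => card_sylow_eq (a := 2) (m := 108) (by rw [hn]; norm_num)
    (by norm_num) S) (List.mem_singleton.mp h5) (N := 75) (by norm_num) (by norm_num) (by norm_num)
    ok_2700

theorem not_3600 (hG : ¬ IsMulCommutative G) : Nat.card G ≠ 3600 := by
  intro hn
  classical
  have : Fact (Nat.Prime 5) := ⟨by norm_num⟩
  have h5 := sylow_mem hG (q := 5) (a := 2) (m := 144) (by rw [hn]; norm_num) (by norm_num)
    (by norm_num) (by norm_num) [16, 36] (by decide +kernel)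
  have hQ : ∀ S : Sylow 5 G, Nat.card ↥(S : Subgroup G) = 5 ^ 2 := fun S =>
    card_sylow_eq (a := 2) (m := 144) (by rw [hn]; norm_num) (by norm_num) S
  simp only [List.mem_cons, List.not_mem_nil, or_false] at h5
  rcases h5 with h5 | h5
  · exact false_of_no_cut hG hn hQ h5 (N := 225) (by norm_num) (by norm_num) (by norm_num)
      ok_3600_225
  obtain ⟨Q⟩ := (inferInstance : Nonempty (Sylow 5 G))
  have hN := normalizer_conj_eq_card Q h5 (k := 100) (by rw [hn])
  obtain ⟨t, ht⟩ := card_sylow_eq_sum hQ Q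
  have := Fintype.ofFinite (Cuts Q)
  rcases isEmpty_or_nonempty (Cuts Q) with hE | ⟨⟨D⟩⟩
  · rw [ht, Finset.univ_eq_empty, Finset.sum_empty] at h5
    omega
  obtain ⟨i, j, hmem, hH, -, hrel⟩ := cut_mem hG hn hQ Q hN D [(50, 6)] (by norm_num) (by norm_num)
    ok_3600_100
  simp only [List.mem_singleton, Prod.mk.injEq] at hmem
  obtain ⟨rfl, rfl⟩ := hmem
  have hcen := central_cut hQ Q D (hH.symm.trans (by norm_num))
  set N := normalizer ((Q : Subgroup G) : Set G) with hNdef
  set H := normalizer ((D.1 : Subgroup G) : Set G) with hHdef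
  have h2 : (H.subgroupOf N).index = 2 :=
    Nat.eq_of_mul_eq_mul_left (by norm_num : 0 < 50) (hrel.trans (by norm_num))
  obtain ⟨R, hR⟩ := D.2
  have hdc : Nat.card D.1 = 5 := hR ▸ R.2
  have hDQ : D.1 ≤ (Q : Subgroup G) := hR ▸ inf_le_left
  obtain ⟨d, hd, hd1, -, hdz⟩ := exists_generator hdc
  obtain ⟨g, hgN, hgH⟩ : ∃ g ∈ N, g ∉ H := by
    by_contra hc
    push Not at hc
    rw [subgroupOf_eq_top.mpr hc, index_top] at h2
    omega
  have hg2 : g * g ∈ H := by
    have h := mul_self_mem_of_index_two h2 (⟨g, hgN⟩ : N)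
    rwa [mem_subgroupOf] at h
  have hcomm : ∀ m ∈ H, Commute m d := fun m hm => by
    rw [← hcen] at hm
    exact (mem_centralizer_iff.mp hm d hd).symm
  set e := g * d * g⁻¹ with he
  have heQ : e ∈ (Q : Subgroup G) := (mem_normalizer_iff.mp hgN d).mp (hDQ hd)
  -- `d e` is centralised by `N(Q) ∩ N(D)` and by `g`
  have hmx : ∀ m ∈ N, m ∈ H → Commute m (d * e) := by
    intro m hmN hm
    have hn2 : (H.subgroupOf N).Normal := normal_of_index_eq_two h2
    have hm' : g⁻¹ * m * g ∈ H := by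
      simpa [mem_subgroupOf] using hn2.conj_mem' (⟨m, hmN⟩ : N) hm ⟨g, hgN⟩
    refine (hcomm m hm).mul_right ?_
    show m * e = e * m
    calc m * (g * d * g⁻¹) = g * (g⁻¹ * m * g * d) * g⁻¹ := by group
      _ = g * (d * (g⁻¹ * m * g)) * g⁻¹ := by rw [(hcomm _ hm').eq]
      _ = g * d * g⁻¹ * m := by group
  have hgx : Commute g (d * e) := by
    have h1 : g * e * g⁻¹ = d := by
      rw [he, show g * (g * d * g⁻¹) * g⁻¹ = g * g * d * (g * g)⁻¹ by group, (hcomm _ hg2).eq]
      group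
    have h3 : g * (d * e) * g⁻¹ = d * e := by
      rw [show g * (d * e) * g⁻¹ = (g * d * g⁻¹) * (g * e * g⁻¹) by group, h1, ← he]
      exact (comm_of_mem_sylow hQ Q heQ (hDQ hd)).eq
    exact mul_inv_eq_iff_eq_mul.mp h3
  have hall : ∀ n ∈ N, Commute n (d * e) := by
    intro n hnN
    by_cases hnH : n ∈ H
    · exact hmx n hnN hnH
    have hgn : g⁻¹ * n ∈ H := by
      have h := (mul_mem_iff_of_index_two h2 (a := (⟨g⁻¹, inv_mem hgN⟩ : N))
        (b := ⟨n, hnN⟩)).mpr (by simp [mem_subgroupOf, hgH, hnH])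
      simpa [mem_subgroupOf] using h
    have h := hgx.mul_left (hmx _ (mul_mem (inv_mem hgN) hnN) hgn)
    rwa [mul_inv_cancel_left] at h
  have : IsMulCommutative ↥(Q : Subgroup G) := IsPGroup.isMulCommutative_of_card_eq_prime_sq (hQ Q)
  have h1 := eq_one_of_normalizer_comm hG Q (mul_mem (hDQ hd) heQ) hall
  -- then `g` would normalise `D`
  refine hgH ?_
  have heD : e ∈ D.1 := by
    rw [← inv_eq_of_mul_eq_one_right h1]
    exact inv_mem hd
  rw [hHdef, mem_normalizer_iff]
  have hle : D.1.map (MulAut.conj g).toMonoidHom ≤ D.1 := by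
    rw [← hdz, MonoidHom.map_zpowers, zpowers_le, hdz]
    exact heD
  have heq : D.1.map (MulAut.conj g).toMonoidHom = D.1 :=
    eq_of_le_of_card_ge hle (by rw [card_map_of_injective (MulAut.conj g).injective])
  intro a
  refine ⟨fun ha => hle ⟨a, ha, rfl⟩, fun ha => ?_⟩
  rw [← heq] at ha
  obtain ⟨b, hb, hba⟩ := ha
  exact (MulAut.conj g).injective hba ▸ hb

set_option synthInstance.maxSize 4000 in
theorem deg_2160 : ∀ a < 47, ∀ b < 47, 2 ≤ a → 432 % a = 0 → 432 % b = 0 →
    ((a % 5 = 1 ∧ (b = a + 1 ∧ b % 5 = 2 ∨ b + 1 = a ∧ b % 5 = 2)) ∨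
      (a % 5 = 1 ∧ (b = a + 1 ∧ b % 5 = 3 ∨ b + 1 = a ∧ b % 5 = 3)) ∨
      (a % 5 = 4 ∧ (b = a + 1 ∧ b % 5 = 2 ∨ b + 1 = a ∧ b % 5 = 2)) ∨
      (a % 5 = 4 ∧ (b = a + 1 ∧ b % 5 = 3 ∨ b + 1 = a ∧ b % 5 = 3))) →
    (a = 4 ∧ b = 3) ∨ (a = 9 ∧ b = 8) := by
  decide +kernel

theorem not_2160 (hG : ¬ IsMulCommutative G) : Nat.card G ≠ 2160 := by
  intro hn
  classical
  have : Fact (Nat.Prime 2) := ⟨Nat.prime_two⟩
  have : Fact (Nat.Prime 5) := ⟨by norm_num⟩
  obtain ⟨P⟩ := (inferInstance : Nonempty (Sylow 5 G))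
  obtain ⟨hP, hC, e, he2, hed, hN, hen⟩ := exists_index_three_primes hG (a := 4) (b := 3)
    Nat.prime_two Nat.prime_three (by norm_num) (by norm_num) (by norm_num)
    (by rw [hn]; norm_num) P
  have hmod := card_sylow_modEq_one 5 G
  unfold Nat.ModEq at hmod
  have he4 := Nat.le_of_dvd (by norm_num) hed
  norm_num at hen hed he4
  obtain rfl : e = 2 := by interval_cases e <;> omega
  obtain ⟨a, b, δ, ε, hδ, hε, ha2, had, hbd, hpa, hpb, hrel, hsq, x, S, hx, hx1, hconj, hSl, hSu,
    hS4, hb4, hC2, hidx⟩ := SelfCent.exists_two_class hG (p := 5) (le_refl 5) (P : Subgroup G) hP hC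
      hN
  rw [hn] at had hbd hsq hidx
  norm_num at had hbd hsq hidx
  have ha : a < 47 := by nlinarith
  have hb : b < 47 := by nlinarith
  have hcases := deg_2160 a ha b hb ha2 (Nat.mod_eq_zero_of_dvd had) (Nat.mod_eq_zero_of_dvd hbd) (by
    rcases hδ with rfl | rfl <;> rcases hε with rfl | rfl <;> omega)
  rcases hcases with ⟨rfl, rfl⟩ | ⟨rfl, rfl⟩
  swap
  · push_cast at hidx
    have h2 : (((centralizer ({x} : Set G)).index : ℤ) * (9 - S)) ^ 2 = 777600 := by
      rw [mul_pow, hidx]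
    generalize ((centralizer ({x} : Set G)).index : ℤ) * (9 - S) = k at h2
    rcases le_or_gt k (-882) with h | h
    · nlinarith
    rcases le_or_gt 882 k with h' | h'
    · nlinarith
    nlinarith
  have hδ' : δ = -1 := by omega
  have hε' : ε = -1 := by omega
  subst hδ' hε'
  push_cast at hidx hC2 hSl hSu hS4
  have hk : ((centralizer ({x} : Set G)).index : ℤ) * (4 - S) = 360 := by
    have h2 : (((centralizer ({x} : Set G)).index : ℤ) * (4 - S)) ^ 2 = 360 ^ 2 := by
      rw [mul_pow, hidx]; norm_num1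
    exact (pow_left_inj₀ (mul_nonneg (Int.natCast_nonneg _) (by omega)) (by norm_num)
      (by norm_num : 2 ≠ 0)).mp h2
  have hmul := (centralizer ({x} : Set G)).card_mul_index
  rw [hn] at hmul
  -- a central involution of a Sylow 2-subgroup
  let _ : Fintype G := Fintype.ofFinite G
  obtain ⟨T⟩ := (inferInstance : Nonempty (Sylow 2 G))
  obtain ⟨y, hy, hy1, hyd⟩ := SelfCent.exists_involution_index_dvd T (by rw [hn]; norm_num)
  have hTi : (T : Subgroup G).index = 135 :=
    index_sylow_eq (a := 4) (m := 135) (by rw [hn]; norm_num) (by norm_num) T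
  rw [hTi] at hyd
  have hsame : (centralizer ({x} : Set G)).index = (centralizer ({y} : Set G)).index := by
    have hC' : ∀ z : G, Nat.card {g : G // IsConj z g} = (centralizer ({z} : Set G)).index :=
      fun z => Nat.eq_of_mul_eq_mul_right (Nat.card_pos (α := centralizer ({z} : Set G)))
        (by rw [card_conj_mul_centralizer, Subgroup.index_mul_card])
    rw [← hC', ← hC']
    exact Nat.card_congr (Equiv.subtypeEquivRight fun g =>
      ⟨(hconj y hy hy1).symm.trans, (hconj y hy hy1).trans⟩)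
  rw [← hsame] at hyd
  have hS : S = -4 ∨ S = 0 := by omega
  rcases hS with rfl | rfl
  · have hi : (centralizer ({x} : Set G)).index = 45 := by omega
    rw [hi] at hmul
    norm_num [-Nat.card_eq_fintype_card] at hC2
    omega
  · have hi : (centralizer ({x} : Set G)).index = 90 := by omega
    rw [hi] at hyd
    norm_num at hyd

/-- No non-abelian simple group has one of these orders. -/
theorem not_gapB (hG : ¬ IsMulCommutative G) :
    Nat.card G ∉ ([1800, 2100, 2160, 2400, 2700, 3600] : List ℕ) := by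
  simp only [List.mem_cons, List.not_mem_nil, or_false, not_or]
  exact ⟨not_1800 hG, not_2100 hG, not_2160 hG, not_2400 hG, not_2700 hG, not_3600 hG⟩

end Cfsg.Agent.SmallS16
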