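import Cfsg.Agent.SmallS16.ReduceBasic
import Cfsg.Agent.S0254
import Cfsg.Agent.S0495
import Cfsg.Agent.S0497
import Cfsg.Agent.S0498
import Cfsg.Agent.S0981
import Cfsg.Agent.S1011
import Cfsg.Agent.S1020
import Cfsg.Agent.S1021
import Cfsg.Agent.S4774
import Cfsg.Agent.S4812

set_option autoImplicit false

/-!
Degree graphs of the small simple groups.
-/

namespace Cfsg.Agent.SmallS16

universe u

variable {S : Type u} [Group S] [Finite S] [IsSimpleGroup S]

theorem adj_of_card_168 (h : Nat.card S = 168) : (Cfsg.degreeGraph S).Adj 2 3 := by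
  haveI : Fact (Nat.Prime 7) := ⟨by norm_num⟩
  obtain ⟨-, hadj⟩ := S4774.result (ZMod 7) 7 (by norm_num) 7 (ZMod.card 7) (by norm_num)
    (Or.inl (S0495.result h (ZMod.card 7)))
  exact (hadj 2 3).mpr (by norm_num)

theorem not_adj_of_card_504 (h : Nat.card S = 504) : ¬ (Cfsg.degreeGraph S).Adj 2 3 := by
  haveI : Fact (Nat.Prime 2) := ⟨Nat.prime_two⟩
  haveI := Fintype.ofFinite (GaloisField 2 3)
  have hF : Fintype.card (GaloisField 2 3) = 8 := by
    rw [← Nat.card_eq_fintype_card, GaloisField.card 2 3 (by norm_num)]; norm_num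
  obtain ⟨-, hadj⟩ := S4812.result (GaloisField 2 3) 8 hF (by norm_num)
    (Or.inl (S1011.result h hF))
  rw [hadj]
  norm_num

theorem graph_of_card_360 (h : Nat.card S = 360) :
    (Cfsg.degreeGraph S).Adj 2 5 ∧ ¬ (Cfsg.degreeGraph S).Adj 2 3 := by
  haveI : Fact (Nat.Prime 3) := ⟨Nat.prime_three⟩
  haveI := Fintype.ofFinite (GaloisField 3 2)
  have hF : Fintype.card (GaloisField 3 2) = 9 := by
    rw [← Nat.card_eq_fintype_card, GaloisField.card 3 2 (by norm_num)]; norm_num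
  obtain ⟨e⟩ := S0497.result h
  obtain ⟨f⟩ := S0254.result hF
  obtain ⟨-, hadj⟩ := S4774.result (GaloisField 3 2) 3 (by norm_num) 9 hF (by norm_num)
    (Or.inl (⟨e.trans f.symm⟩ : Nonempty (S ≃* _)))
  rw [hadj, hadj]
  norm_num

theorem mem_degreePrimes_psl (p : ℕ) [Fact p.Prime] (h5 : 5 < p)
    (e : Nonempty (S ≃* Matrix.ProjectiveSpecialLinearGroup (Fin 2) (ZMod p))) :
    p ∈ Cfsg.degreePrimes S := by
  obtain ⟨hv, -⟩ := S4774.result (ZMod p) p (by omega) p (ZMod.card p) h5 (Or.inl e)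
  rw [hv]
  exact ⟨Fact.out, dvd_mul_right p _⟩

theorem mem_degreePrimes_of_card {n p : ℕ}
    (h : (n, p) ∈ ([(660, 11), (1092, 13), (2448, 17), (3420, 19), (4080, 17)] : List (ℕ × ℕ)))
    (hS : Nat.card S = n) : p ∈ Cfsg.degreePrimes S := by
  simp only [List.mem_cons, List.not_mem_nil, or_false, Prod.mk.injEq] at h
  rcases h with ⟨rfl, rfl⟩ | ⟨rfl, rfl⟩ | ⟨rfl, rfl⟩ | ⟨rfl, rfl⟩ | ⟨rfl, rfl⟩
  · haveI : Fact (Nat.Prime 11) := ⟨by norm_num⟩
    exact mem_degreePrimes_psl 11 (by norm_num)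
      (S0498.result 11 (Or.inl rfl) (by rw [hS]; norm_num) (ZMod.card 11))
  · haveI : Fact (Nat.Prime 13) := ⟨by norm_num⟩
    exact mem_degreePrimes_psl 13 (by norm_num)
      (S0498.result 13 (Or.inr rfl) (by rw [hS]; norm_num) (ZMod.card 13))
  · haveI : Fact (Nat.Prime 17) := ⟨by norm_num⟩
    exact mem_degreePrimes_psl 17 (by norm_num) (S1020.result hS (ZMod.card 17))
  · haveI : Fact (Nat.Prime 19) := ⟨by norm_num⟩
    exact mem_degreePrimes_psl 19 (by norm_num) (S1021.result hS (ZMod.card 19))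
  · haveI : Fact (Nat.Prime 2) := ⟨Nat.prime_two⟩
    haveI := Fintype.ofFinite (GaloisField 2 4)
    have hF : Fintype.card (GaloisField 2 4) = 16 := by
      rw [← Nat.card_eq_fintype_card, GaloisField.card 2 4 (by norm_num)]; norm_num
    obtain ⟨hv, -⟩ := S4812.result (GaloisField 2 4) 16 hF (by norm_num)
      (Or.inl (S0981.result hS hF))
    rw [hv]
    refine ⟨by norm_num, ?_⟩
    norm_num

omit [IsSimpleGroup S] in
theorem adj_congr {T : Type*} [Group T] [Finite T] (e : S ≃* T) {a b : ℕ} :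
    (Cfsg.degreeGraph S).Adj a b ↔ (Cfsg.degreeGraph T).Adj a b := by
  show (_ ∧ _ ∧ _ ∧ ∃ d ∈ Cfsg.charDegrees S, a * b ∣ d) ↔ _ ∧ _ ∧ _ ∧ ∃ d ∈ Cfsg.charDegrees T, _
  rw [S4812.charDegrees_congr e]

end Cfsg.Agent.SmallS16
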