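import Cfsg.Agent.SmallS16.ReduceFive
import Cfsg.Agent.SmallS16.ReduceGraph

set_option autoImplicit false

/-!
A group with the order and the degree graph of a small simple group is simple.
-/

namespace Cfsg.Agent.SmallS16

open Subgroup

universe u v

variable {G : Type u} [Group G] [Finite G]

/-- Arithmetic form of `OneHit`, with `e` the allowed prime power. -/
def HitCheck (p n e : ℕ) : Prop :=
  ∀ d ∈ n.divisors, d % p = 1 → d = 1 ∨ d = e ∨
    ∃ a ∈ d.divisors, 1 < a ∧ 1 < d / a ∧ Nat.gcd a (d / a) = 1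

instance (p n e : ℕ) : Decidable (HitCheck p n e) := by unfold HitCheck; infer_instance

theorem eq_of_hitCheck {p n e s i : ℕ} (hn : n ≠ 0) (h : HitCheck p n e) (hs : s.Prime)
    (hi : 0 < i) (hd : s ^ i ∣ n) (h1 : s ^ i % p = 1) : s ^ i = e := by
  rcases h _ (Nat.mem_divisors.mpr ⟨hd, hn⟩) h1 with h2 | h2 | ⟨a, ha, ha1, ha2, hg⟩
  · exact absurd h2 (Nat.one_lt_pow hi.ne' hs.one_lt).ne'
  · exact h2
  · exfalso
    have hfac : ∀ b, 1 < b → b ∣ s ^ i → s ∣ b := by
      intro b hb hbd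
      obtain ⟨x, -, rfl⟩ := (Nat.dvd_prime_pow hs).mp hbd
      exact dvd_pow_self s fun hx => by simp [hx] at hb
    have had := (Nat.mem_divisors.mp ha).1
    have := Nat.dvd_gcd (hfac a ha1 had) (hfac _ ha2 (Nat.div_dvd_of_dvd had))
    rw [hg] at this
    exact hs.not_dvd_one this

theorem not_mem_of_solvable (hs : Group.IsSolvable G) {p : ℕ} (hp : p.Prime)
    (hp1 : p ∣ Nat.card G) (hp2 : ¬ p ^ 2 ∣ Nat.card G) (h : HitCheck p (Nat.card G) 0) :
    p ∉ Cfsg.degreePrimes G := by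
  haveI := Fact.mk hp
  obtain ⟨P⟩ := (inferInstance : Nonempty (Sylow p G))
  have hP := card_sylow_of_not_sq hp1 hp2 P
  exact not_mem_of_normal_prime (P : Subgroup G) (normal_of_noHit _ G hs rfl p hp hp2
    (fun s i hs' hi hd h1 => (pow_pos hs'.pos i).ne'
      (eq_of_hitCheck Nat.card_pos.ne' h hs' hi hd h1)) _ hP) hp hP hp2

theorem not_mem_or_of_solvable (hs : Group.IsSolvable G) {p r j : ℕ} (hp : p.Prime) (hr : r.Prime)
    (hrp : r ≠ p) (hj : 0 < j) (hp1 : p ∣ Nat.card G) (hp2 : ¬ p ^ 2 ∣ Nat.card G)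
    (hr1 : r ^ j ∣ Nat.card G) (hr2 : ¬ r ^ (j + 1) ∣ Nat.card G)
    (h : HitCheck p (Nat.card G) (r ^ j)) :
    p ∉ Cfsg.degreePrimes G ∨ r ∉ Cfsg.degreePrimes G := by
  haveI := Fact.mk hp
  obtain ⟨P⟩ := (inferInstance : Nonempty (Sylow p G))
  have hP := card_sylow_of_not_sq hp1 hp2 P
  have hone : OneHit p r j (Nat.card G) := by
    intro s i hs' hi hd h1
    have he := eq_of_hitCheck Nat.card_pos.ne' h hs' hi hd h1
    have hsr : s = r := (Nat.prime_dvd_prime_iff_eq hs' hr).mp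
      (hs'.dvd_of_dvd_pow (he ▸ dvd_pow_self s hi.ne'))
    subst hsr
    exact ⟨rfl, Nat.pow_right_injective hs'.two_le he⟩
  rcases normal_or_abelian_of_oneHit _ G hs rfl p r j hp hr hrp hj hp2 hr1 hr2 hone _ hP with
    hn | ⟨R, hRn, hRc, hRab⟩
  · exact Or.inl (not_mem_of_normal_prime _ hn hp hP hp2)
  · right
    haveI := hRn
    refine not_mem_degreePrimes_of_abelian R hRab fun hd => hr2 ?_
    rw [← R.card_mul_index, hRc, pow_succ]
    exact mul_dvd_mul_left _ hd

/-- A prime outside the simple section, larger than the rest, is not a degree prime. -/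
theorem kill (R : Subgroup G) [R.Normal] (T : Subgroup (G ⧸ R)) [T.Normal] {p m : ℕ}
    (hp : p.Prime) (hp2 : ¬ p ^ 2 ∣ Nat.card G) (hm : Nat.card R * T.index = m) (hpm : p ∣ m)
    (hlt : m < p * (p + 1)) (hpT : ¬ p ∣ Nat.card T) {l₁ a₁ l₂ a₂ l₃ a₃ : ℕ}
    (hl₁ : l₁.Prime) (hl₂ : l₂.Prime) (hl₃ : l₃.Prime)
    (h12 : l₁ ≠ l₂) (h13 : l₁ ≠ l₃) (h23 : l₂ ≠ l₃)
    (hT : Nat.card T = l₁ ^ a₁ * l₂ ^ a₂ * l₃ ^ a₃)
    (h₁ : ∀ i, 0 < i → i ≤ a₁ → l₁ ^ i % p ≠ 1) (h₂ : ∀ i, 0 < i → i ≤ a₂ → l₂ ^ i % p ≠ 1)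
    (h₃ : ∀ i, 0 < i → i ≤ a₃ → l₃ ^ i % p ≠ 1) : p ∉ Cfsg.degreePrimes G := by
  have hRpos : 0 < Nat.card R := Nat.card_pos
  have hIpos : 0 < T.index := Nat.pos_of_ne_zero T.index_ne_zero_of_finite
  by_cases hpR : p ∣ Nat.card R
  · refine not_mem_of_small_normal R hp hp2 hpR (lt_of_le_of_lt ?_ hlt)
    rw [← hm]
    exact Nat.le_mul_of_pos_right _ hIpos
  have hpI : p ∣ T.index := (hp.dvd_mul.mp (hm ▸ hpm)).resolve_left hpR
  have hQ : Nat.card (G ⧸ R) = Nat.card T * T.index := T.card_mul_index.symm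
  refine not_mem_of_normalizer R hp hp2 ?_ ?_ (Nat.card T) hpT ?_ ?_
  · exact (hpI.trans (Subgroup.index_dvd_card T)).trans (Subgroup.card_quotient_dvd_card R)
  · have h1 := Nat.mul_le_mul_left (Nat.card R) (Nat.le_of_dvd hIpos hpI)
    rw [hm] at h1
    exact Nat.lt_of_mul_lt_mul_left (lt_of_le_of_lt (by rw [mul_comm]; exact h1) hlt)
  · intro P hP
    have hcop : ∀ {l l' : ℕ} (a b : ℕ), l.Prime → l'.Prime → l ≠ l' → (l ^ a).Coprime (l' ^ b) :=
      fun a b h h' hne => Nat.Coprime.pow a b ((Nat.coprime_primes h h').mpr hne)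
    have key : ∀ {l a k : ℕ}, l.Prime → Nat.card T = l ^ a * k → ¬ l ∣ k →
        (∀ i, 0 < i → i ≤ a → l ^ i % p ≠ 1) → l ^ a ∣ Nat.card (normalizer (P : Set (G ⧸ R))) := by
      intro l a k hl e hk hno
      refine pow_dvd_normalizer_of_noHit T hp hP hpT hl (e ▸ dvd_mul_right _ _) (fun h => hk ?_) hno
      rw [e, pow_succ] at h
      exact Nat.dvd_of_mul_dvd_mul_left (pow_pos hl.pos a) h
    have hnd : ∀ {l x y : ℕ} (a b : ℕ), l.Prime → x.Prime → y.Prime → l ≠ x → l ≠ y →
        ¬ l ∣ x ^ a * y ^ b := fun a b hl hx hy hlx hly h => by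
      rcases hl.dvd_mul.mp h with h | h
      · exact hlx ((Nat.prime_dvd_prime_iff_eq hl hx).mp (hl.dvd_of_dvd_pow h))
      · exact hly ((Nat.prime_dvd_prime_iff_eq hl hy).mp (hl.dvd_of_dvd_pow h))
    rw [hT]
    refine (Nat.Coprime.mul_left (hcop _ _ hl₁ hl₃ h13) (hcop _ _ hl₂ hl₃ h23)).mul_dvd_of_dvd_of_dvd
      ((hcop _ _ hl₁ hl₂ h12).mul_dvd_of_dvd_of_dvd ?_ ?_) ?_
    · exact key hl₁ (by rw [hT, mul_assoc]) (hnd _ _ hl₁ hl₂ hl₃ h12 h13) h₁
    · exact key hl₂ (k := l₁ ^ a₁ * l₃ ^ a₃) (by rw [hT]; ring)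
        (hnd _ _ hl₂ hl₁ hl₃ (Ne.symm h12) h23) h₂
    · exact key hl₃ (k := l₁ ^ a₁ * l₂ ^ a₂) (by rw [hT]; ring)
        (hnd _ _ hl₃ hl₁ hl₂ (Ne.symm h13) (Ne.symm h23)) h₃
  · rw [hQ]
    calc Nat.card T * T.index ≤ Nat.card T * m := Nat.mul_le_mul_left _ (by
          rw [← hm]; exact Nat.le_mul_of_pos_left _ hRpos)
      _ < Nat.card T * (p * (p + 1)) := Nat.mul_lt_mul_of_pos_left hlt Nat.card_pos
      _ = p * Nat.card T * (p + 1) := by ring

theorem card_eq_sixty {T : Type u} [Group T] [Finite T] [IsSimpleGroup T]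
    (hT : ¬ IsMulCommutative T) (h : Nat.card T ∣ 120) : Nat.card T = 60 := by
  have hle := Nat.le_of_dvd (by norm_num) h
  rcases S0496.result hT (by omega) with e | e | e | e | e | e <;> rw [e] at h <;>
    first | exact e | (norm_num at h)

theorem exists_normal_of_comap {Q : Type u} [Group Q] [Finite Q] (f : G →* Q) (hf : Function.Surjective f)
    (D : Subgroup Q) [D.Normal] {k : ℕ} (hk : Nat.card f.ker * Nat.card D = k) :
    ∃ C : Subgroup G, C.Normal ∧ Nat.card C = k := by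
  refine ⟨D.comap f, inferInstance, ?_⟩
  rw [← hk]
  apply Nat.eq_of_mul_eq_mul_right (Nat.pos_of_ne_zero D.index_ne_zero_of_finite)
  rw [mul_assoc, D.card_mul_index]
  conv_lhs => rw [← Subgroup.index_comap_of_surjective D hf]
  rw [Subgroup.card_mul_index, Subgroup.card_eq_card_quotient_mul_card_subgroup f.ker, mul_comm,
    Nat.card_congr (QuotientGroup.quotientKerEquivOfSurjective f hf).toEquiv]

/-- The case of a simple section of order 60 in a group of order 360. -/
theorem case_360 (hG : Nat.card G = 360) (hns : ¬ Group.IsSolvable G) (R : Subgroup G) [R.Normal]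
    (T : Subgroup (G ⧸ R)) [T.Normal] [IsSimpleGroup T] (hTc : ¬ IsMulCommutative T)
    (hT : Nat.card T = 60) (heq : Nat.card R * (Nat.card T * T.index) = Nat.card G) :
    (Cfsg.degreeGraph G).Adj 2 3 ∨ ¬ (Cfsg.degreeGraph G).Adj 2 5 := by
  haveI : Fact (Nat.Prime 5) := ⟨Nat.prime_five⟩
  by_cases hex : ∃ C : Subgroup G, C.Normal ∧ Nat.card C = 6
  · obtain ⟨C, hCn, hC⟩ := hex
    haveI := hCn
    exact six_case hG hns C hC
  have hn5 : ∀ {X : Type u} [Group X] [Finite X] (T : Subgroup X) [T.Normal] [IsSimpleGroup T],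
      ¬ IsMulCommutative T → Nat.card T = 60 → ¬ 5 ∣ T.index → Nat.card (Sylow 5 X) = 6 := by
    intro X _ _ T _ _ hTc hT hi
    rw [card_sylow_normal_eq T hi]
    have h1 := SmallGroups.card_sylow_mem_list (G := T) (p := 5) (a := 1) (m := 12)
      (by rw [hT]; norm_num) (by norm_num)
    rw [show (12 : ℕ).divisors.filter (fun d => d % 5 = 1) = {1, 6} by decide] at h1
    simp only [Finset.mem_insert, Finset.mem_singleton] at h1
    exact h1.resolve_left (SmallGroups.card_sylow_ne_one hTc (by rw [hT]; norm_num))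
  have hRe : Nat.card R * T.index = 6 := by rw [hT, hG] at heq; nlinarith
  have he5 : ¬ 5 ∣ T.index := fun h => by
    have := h.trans (Dvd.intro_left _ hRe)
    norm_num at this
  have hQ : Nat.card (G ⧸ R) = 60 * T.index := by rw [← T.card_mul_index, hT]
  have hQ2 : ¬ 5 ^ 2 ∣ Nat.card (G ⧸ R) := fun h => by
    have := h.trans (Subgroup.card_quotient_dvd_card R)
    rw [hG] at this; norm_num at this
  set D := (MulAction.toPermHom (G ⧸ R) (Sylow 5 (G ⧸ R))).ker with hD
  have hDe := card_dvd_index_of_inf_eq_bot D T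
    (ker_inf_eq_bot T hTc (by rw [hT]; norm_num) he5)
  have hpts := card_dvd_points (q := 5) (by rw [hQ]; exact dvd_mul_of_dvd_left (by norm_num) _) hQ2
    (hn5 T hTc hT he5)
  rw [hQ, ← hD] at hpts
  have he2 : T.index ∣ 2 * Nat.card D := by
    have : 60 * T.index ∣ 60 * (2 * Nat.card D) := hpts.trans (dvd_of_eq (by ring))
    exact Nat.dvd_of_mul_dvd_mul_left (by norm_num) this
  obtain ⟨C, hCn, hC⟩ := exists_normal_of_comap (QuotientGroup.mk' R) (QuotientGroup.mk'_surjective R) D rfl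
  rw [QuotientGroup.ker_mk'] at hC
  have hC6 : Nat.card C ∣ 6 := hC ▸ hRe ▸ mul_dvd_mul_left _ hDe
  have hC3 : 6 ∣ 2 * Nat.card C := by
    rw [hC, ← hRe, show 2 * (Nat.card R * Nat.card D) = Nat.card R * (2 * Nat.card D) by ring]
    exact mul_dvd_mul_left _ he2
  have hCc : Nat.card C = 3 := by
    have hle := Nat.le_of_dvd (by norm_num) hC6
    have hne : Nat.card C ≠ 6 := fun h => hex ⟨C, hCn, h⟩
    interval_cases h : Nat.card C <;> omega
  haveI := hCn
  -- the quotient of order 120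
  have hX : Nat.card (G ⧸ C) = 120 := by
    have h := Subgroup.card_eq_card_quotient_mul_card_subgroup C
    rw [hG, hCc] at h
    omega
  haveI : Group.IsSolvable C := isSolvable_of_lt (by rw [hCc]; norm_num) (by rw [hCc]; norm_num)
  have hXns : ¬ Group.IsSolvable (G ⧸ C) := fun h =>
    hns (Group.isSolvable_of_ker_le_range C.subtype (QuotientGroup.mk' C) (by simp))
  rcases exists_section hXns (fun T' _ _ _ hT' hd => Or.inr (by
      rw [hX] at hd ⊢
      rw [card_eq_sixty hT' hd]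
      norm_num)) with ⟨hs, hc⟩ | ⟨R', hR', T', hT'n, hT's, hT'c, -, heq'⟩
  · have := card_eq_sixty (T := G ⧸ C) hc (by rw [hX])
    omega
  haveI := hR'; haveI := hT'n; haveI := hT's
  have hT' : Nat.card T' = 60 := card_eq_sixty hT'c ⟨Nat.card R' * T'.index, by
    rw [← hX, ← heq']; ring⟩
  have hRe' : Nat.card R' * T'.index = 2 := by rw [hT', hX] at heq'; nlinarith
  have hcomap : ∀ {Y : Type u} [Group Y] [Finite Y] (f : G →* Y), Function.Surjective f →
      ∀ (E : Subgroup Y) [E.Normal], Nat.card f.ker * Nat.card E = 6 → False :=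
    fun f hf E _ h => hex (exists_normal_of_comap f hf E h)
  rcases (Nat.dvd_prime Nat.prime_two).mp (Dvd.intro _ hRe') with hR1 | hR1
  swap
  · exact (hcomap (QuotientGroup.mk' C) (QuotientGroup.mk'_surjective C) R'
      (by rw [QuotientGroup.ker_mk', hCc, hR1])).elim
  have he' : T'.index = 2 := by rw [hR1, one_mul] at hRe'; exact hRe'
  have hY : Nat.card ((G ⧸ C) ⧸ R') = 120 := by rw [← T'.card_mul_index, hT', he']
  have hn' := hn5 T' hT'c hT' (by rw [he']; norm_num)
  set D' := (MulAction.toPermHom ((G ⧸ C) ⧸ R') (Sylow 5 ((G ⧸ C) ⧸ R'))).ker with hD'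
  have hDe' := card_dvd_index_of_inf_eq_bot D' T'
    (ker_inf_eq_bot T' hT'c (by rw [hT']; norm_num) (by rw [he']; norm_num))
  rw [he'] at hDe'
  rcases (Nat.dvd_prime Nat.prime_two).mp hDe' with hD1 | hD1
  · left
    exact adj_of_quotient C (adj_of_quotient R' (adj_of_card_120 hY T' hT'c hT' hn'
      (hD' ▸ Subgroup.card_eq_one.mp hD1)))
  · refine (hcomap ((QuotientGroup.mk' R').comp (QuotientGroup.mk' C))
      ((QuotientGroup.mk'_surjective R').comp (QuotientGroup.mk'_surjective C)) D' ?_).elim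
    have hk : Nat.card ((QuotientGroup.mk' R').comp (QuotientGroup.mk' C)).ker = 3 := by
      rw [← MonoidHom.comap_ker, QuotientGroup.ker_mk', card_comap_mk, hCc, hR1]
    rw [hk, hD1]

/-- A group with the order and the degree graph of a small simple group is simple. -/
theorem simple_of_same_graph {S : Type v} {G : Type u} [Group S] [Finite S] [IsSimpleGroup S]
    (hS : ¬ IsMulCommutative S) [Group G] [Finite G]
    (hn : Nat.card S ∈ ([60, 168, 360, 504, 660, 1092, 2448, 2520, 3420, 4080, 5616] : List ℕ))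
    (hcard : Nat.card G = Nat.card S)
    (hΓ : Cfsg.degreePrimes G = Cfsg.degreePrimes S ∧ Cfsg.degreeGraph G = Cfsg.degreeGraph S)
    (hA7 : Nat.card S = 2520 → 5 ∈ Cfsg.degreePrimes S ∧ 7 ∈ Cfsg.degreePrimes S)
    (hL33 : Nat.card S = 5616 → 3 ∈ Cfsg.degreePrimes S ∧ 13 ∈ Cfsg.degreePrimes S) :
    IsSimpleGroup G ∧ ¬ IsMulCommutative G := by
  have hSns : ¬ Group.IsSolvable S := fun h =>
    hS (isMulCommutative_iff.mpr fun a b => (IsSimpleGroup.comm_iff_isSolvable.mpr h) a b)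
  obtain ⟨hv, hg⟩ := hΓ
  have hn' : Nat.card G ∈ smallList := hcard ▸ hn
  -- the vertices needed
  have hmem : ∀ n p, (n, p) ∈ ([(60, 5), (168, 2), (168, 7), (360, 5), (504, 2), (504, 7),
      (660, 11), (1092, 13), (2448, 17), (2520, 5), (2520, 7), (3420, 19), (4080, 17),
      (5616, 3), (5616, 13)] : List (ℕ × ℕ)) → Nat.card G = n → p ∈ Cfsg.degreePrimes G := by
    intro n p hnp he
    rw [hv]
    rw [hcard] at he
    simp only [List.mem_cons, List.not_mem_nil, or_false, Prod.mk.injEq] at hnp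
    have three : ∀ a b c, (∀ r ∈ (Nat.card S).divisors, r.Prime → r = a ∨ r = b ∨ r = c) →
        a ∈ Cfsg.degreePrimes S ∧ b ∈ Cfsg.degreePrimes S ∧ c ∈ Cfsg.degreePrimes S :=
      fun a b c h => mem_degreePrimes_of_three hSns fun r hr hd =>
        h r (Nat.mem_divisors.mpr ⟨hd, Nat.card_pos.ne'⟩) hr
    rcases hnp with ⟨rfl, rfl⟩ | ⟨rfl, rfl⟩ | ⟨rfl, rfl⟩ | ⟨rfl, rfl⟩ | ⟨rfl, rfl⟩ | ⟨rfl, rfl⟩ |
      ⟨rfl, rfl⟩ | ⟨rfl, rfl⟩ | ⟨rfl, rfl⟩ | ⟨rfl, rfl⟩ | ⟨rfl, rfl⟩ | ⟨rfl, rfl⟩ | ⟨rfl, rfl⟩ |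
      ⟨rfl, rfl⟩ | ⟨rfl, rfl⟩
    · exact (three 2 3 5 (by rw [he]; decide +kernel)).2.2
    · exact (three 2 3 7 (by rw [he]; decide +kernel)).1
    · exact (three 2 3 7 (by rw [he]; decide +kernel)).2.2
    · exact (three 2 3 5 (by rw [he]; decide +kernel)).2.2
    · exact (three 2 3 7 (by rw [he]; decide +kernel)).1
    · exact (three 2 3 7 (by rw [he]; decide +kernel)).2.2
    · exact mem_degreePrimes_of_card (by decide) he
    · exact mem_degreePrimes_of_card (by decide) he
    · exact mem_degreePrimes_of_card (by decide) he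
    · exact (hA7 he).1
    · exact (hA7 he).2
    · exact mem_degreePrimes_of_card (by decide) he
    · exact mem_degreePrimes_of_card (by decide) he
    · exact (hL33 he).1
    · exact (hL33 he).2
  by_cases hsol : Group.IsSolvable G
  · exfalso
    have one : ∀ n p, p.Prime → Nat.card G = n → p ∈ Cfsg.degreePrimes G →
        p ∣ n → ¬ p ^ 2 ∣ n → HitCheck p n 0 → False := fun n p hp he hm h1 h2 h3 =>
      not_mem_of_solvable hsol hp (he ▸ h1) (he ▸ h2) (he ▸ h3) hm
    have two : ∀ n p r j, p.Prime → r.Prime → r ≠ p → 0 < j → Nat.card G = n →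
        p ∈ Cfsg.degreePrimes G → r ∈ Cfsg.degreePrimes G → p ∣ n → ¬ p ^ 2 ∣ n → r ^ j ∣ n →
        ¬ r ^ (j + 1) ∣ n → HitCheck p n (r ^ j) → False :=
      fun n p r j hp hr hrp hj he hm hm' h1 h2 h3 h4 h5 =>
        (not_mem_or_of_solvable hsol hp hr hrp hj (he ▸ h1) (he ▸ h2) (he ▸ h3) (he ▸ h4)
          (he ▸ h5)).elim (fun h => h hm) (fun h => h hm')
    simp only [smallList, List.mem_cons, List.not_mem_nil, or_false] at hn'
    rcases hn' with e | e | e | e | e | e | e | e | e | e | e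
    · exact one 60 5 (by norm_num) e (hmem 60 5 (by decide) e) (by norm_num) (by norm_num)
        (by decide +kernel)
    · exact two 168 7 2 3 (by norm_num) (by norm_num) (by norm_num) (by norm_num) e
        (hmem 168 7 (by decide) e) (hmem 168 2 (by decide) e) (by norm_num) (by norm_num)
        (by norm_num) (by norm_num) (by decide +kernel)
    · exact one 360 5 (by norm_num) e (hmem 360 5 (by decide) e) (by norm_num) (by norm_num)
        (by decide +kernel)
    · exact two 504 7 2 3 (by norm_num) (by norm_num) (by norm_num) (by norm_num) e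
        (hmem 504 7 (by decide) e) (hmem 504 2 (by decide) e) (by norm_num) (by norm_num)
        (by norm_num) (by norm_num) (by decide +kernel)
    · exact one 660 11 (by norm_num) e (hmem 660 11 (by decide) e) (by norm_num) (by norm_num)
        (by decide +kernel)
    · exact one 1092 13 (by norm_num) e (hmem 1092 13 (by decide) e) (by norm_num) (by norm_num)
        (by decide +kernel)
    · exact one 2448 17 (by norm_num) e (hmem 2448 17 (by decide) e) (by norm_num) (by norm_num)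
        (by decide +kernel)
    · exact one 2520 5 (by norm_num) e (hmem 2520 5 (by decide) e) (by norm_num) (by norm_num)
        (by decide +kernel)
    · exact one 3420 19 (by norm_num) e (hmem 3420 19 (by decide) e) (by norm_num) (by norm_num)
        (by decide +kernel)
    · exact one 4080 17 (by norm_num) e (hmem 4080 17 (by decide) e) (by norm_num) (by norm_num)
        (by decide +kernel)
    · exact two 5616 13 3 3 (by norm_num) (by norm_num) (by norm_num) (by norm_num) e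
        (hmem 5616 13 (by decide) e) (hmem 5616 3 (by decide) e) (by norm_num) (by norm_num)
        (by norm_num) (by norm_num) (by decide +kernel)
  have hpairs : ∀ x ∈ sectionPairs, x.2 / x.1 < 168 ∧ ¬ 60 ∣ x.2 / x.1 := by decide
  rcases exists_section hsol (fun T _ _ _ hT hd =>
      (card_of_dvd hT hn' hd).imp_right fun h => hpairs (Nat.card T, Nat.card G) h) with
    h | ⟨R, hR, T, hTn, hTs, hTc, hne, heq⟩
  · exact h
  exfalso
  haveI := hR; haveI := hTn; haveI := hTs
  have hdvd : Nat.card T ∣ Nat.card G := ⟨Nat.card R * T.index, by rw [← heq]; ring⟩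
  have hpair := (card_of_dvd hTc hn' hdvd).resolve_left hne
  simp only [sectionPairs, List.mem_cons, List.not_mem_nil, or_false, Prod.mk.injEq] at hpair
  have hm : ∀ {d n : ℕ}, Nat.card T = d → Nat.card G = n → Nat.card R * T.index = n / d := by
    intro d n hd hn0
    rw [← hn0, ← heq, ← hd, show Nat.card R * (Nat.card T * T.index) =
      Nat.card T * (Nat.card R * T.index) by ring, Nat.mul_div_cancel_left _ Nat.card_pos]
  have hno : ∀ {p l a : ℕ}, (∀ i < a + 1, 0 < i → l ^ i % p ≠ 1) →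
      ∀ i, 0 < i → i ≤ a → l ^ i % p ≠ 1 := fun h i h0 hi => h i (Nat.lt_succ_of_le hi) h0
  rcases hpair with ⟨hT, hG⟩ | ⟨hT, hG⟩ | ⟨hT, hG⟩ | ⟨hT, hG⟩ | ⟨hT, hG⟩ | ⟨hT, hG⟩ |
    ⟨hT, hG⟩ | ⟨hT, hG⟩ | ⟨hT, hG⟩
  · -- 60, 360
    obtain ⟨h25, h23⟩ := graph_of_card_360 (S := S) (hcard ▸ hG)
    rw [← hg] at h25 h23
    rcases case_360 hG hsol R T hTc hT heq with h | h
    · exact h23 h
    · exact h h25
  · exact kill R T (p := 11) (l₁ := 2) (a₁ := 2) (l₂ := 3) (a₂ := 1) (l₃ := 5) (a₃ := 1)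
      (by norm_num) (by rw [hG]; norm_num) (hm hT hG) (by norm_num) (by norm_num)
      (by rw [hT]; norm_num) (by norm_num) (by norm_num) (by norm_num) (by norm_num) (by norm_num)
      (by norm_num) (by rw [hT]; norm_num) (hno (by decide)) (hno (by decide)) (hno (by decide))
      (hmem 660 11 (by decide) hG)
  · exact kill R T (p := 7) (l₁ := 2) (a₁ := 2) (l₂ := 3) (a₂ := 1) (l₃ := 5) (a₃ := 1)
      (by norm_num) (by rw [hG]; norm_num) (hm hT hG) (by norm_num) (by norm_num)
      (by rw [hT]; norm_num) (by norm_num) (by norm_num) (by norm_num) (by norm_num) (by norm_num)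
      (by norm_num) (by rw [hT]; norm_num) (hno (by decide)) (hno (by decide)) (hno (by decide))
      (hmem 2520 7 (by decide) hG)
  · exact kill R T (p := 19) (l₁ := 2) (a₁ := 2) (l₂ := 3) (a₂ := 1) (l₃ := 5) (a₃ := 1)
      (by norm_num) (by rw [hG]; norm_num) (hm hT hG) (by norm_num) (by norm_num)
      (by rw [hT]; norm_num) (by norm_num) (by norm_num) (by norm_num) (by norm_num) (by norm_num)
      (by norm_num) (by rw [hT]; norm_num) (hno (by decide)) (hno (by decide)) (hno (by decide))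
      (hmem 3420 19 (by decide) hG)
  · exact kill R T (p := 17) (l₁ := 2) (a₁ := 2) (l₂ := 3) (a₂ := 1) (l₃ := 5) (a₃ := 1)
      (by norm_num) (by rw [hG]; norm_num) (hm hT hG) (by norm_num) (by norm_num)
      (by rw [hT]; norm_num) (by norm_num) (by norm_num) (by norm_num) (by norm_num) (by norm_num)
      (by norm_num) (by rw [hT]; norm_num) (hno (by decide)) (hno (by decide)) (hno (by decide))
      (hmem 4080 17 (by decide) hG)
  · -- 168, 504
    obtain ⟨C, hCn, hC⟩ := exists_index_168 hG R T hTc hT heq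
    haveI := hCn
    haveI : Group.IsSolvable C := isSolvable_of_lt (by rw [hC]; norm_num) (by rw [hC]; norm_num)
    have hQns : ¬ Group.IsSolvable (G ⧸ C) := fun h =>
      hsol (Group.isSolvable_of_ker_le_range C.subtype (QuotientGroup.mk' C) (by simp))
    have hQ : Nat.card (G ⧸ C) = 168 := by
      have h := Subgroup.card_eq_card_quotient_mul_card_subgroup C
      rw [hG, hC] at h
      omega
    haveI := (isSimple_of_card hQns (Or.inr hQ)).1
    have h1 := adj_of_quotient C (adj_of_card_168 hQ)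
    rw [hg] at h1
    exact not_adj_of_card_504 (hcard ▸ hG) h1
  · exact kill R T (p := 5) (l₁ := 2) (a₁ := 3) (l₂ := 3) (a₂ := 1) (l₃ := 7) (a₃ := 1)
      (by norm_num) (by rw [hG]; norm_num) (hm hT hG) (by norm_num) (by norm_num)
      (by rw [hT]; norm_num) (by norm_num) (by norm_num) (by norm_num) (by norm_num) (by norm_num)
      (by norm_num) (by rw [hT]; norm_num) (hno (by decide)) (hno (by decide)) (hno (by decide))
      (hmem 2520 5 (by decide) hG)
  · exact not_mem_seven hG R T hT heq (hmem 2520 7 (by decide) hG)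
  · exact kill R T (p := 5) (l₁ := 2) (a₁ := 3) (l₂ := 3) (a₂ := 2) (l₃ := 7) (a₃ := 1)
      (by norm_num) (by rw [hG]; norm_num) (hm hT hG) (by norm_num) (by norm_num)
      (by rw [hT]; norm_num) (by norm_num) (by norm_num) (by norm_num) (by norm_num) (by norm_num)
      (by norm_num) (by rw [hT]; norm_num) (hno (by decide)) (hno (by decide)) (hno (by decide))
      (hmem 2520 5 (by decide) hG)

end Cfsg.Agent.SmallS16
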