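import Cfsg.Agent.S0675
import Cfsg.Agent.L33Rec.Basic
import Mathlib.GroupTheory.GroupAction.MultipleTransitivity
import Mathlib.GroupTheory.GroupAction.Quotient
import Mathlib.Tactic.NormNum.Prime

/-!
# A subgroup of index 13 in a simple group of order 5616
-/

set_option autoImplicit false
set_option linter.unusedSectionVars false

namespace Cfsg.Agent.SmallS16.L33

open Subgroup

variable {G : Type*} [Group G] [Finite G] [IsSimpleGroup G]

theorem index_thirteen (hcard : Nat.card G = 5616) {H : Subgroup G} (hH : Nat.card H = 432) :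
    H.index = 13 := by
  have h := H.card_mul_index
  rw [hH, hcard] at h
  omega

theorem ne_top_of_card (hcard : Nat.card G = 5616) {H : Subgroup G} (hH : Nat.card H = 432) :
    H ≠ ⊤ := by
  rintro rfl
  rw [card_top, hcard] at hH
  omega

theorem core_eq_bot (hcard : Nat.card G = 5616) {H : Subgroup G} (hH : Nat.card H = 432) {x : G}
    (h : ∀ g : G, x ∈ H.map (MulAut.conj g).toMonoidHom) : x = 1 := by
  have hx : x ∈ H.normalCore := by
    intro b
    obtain ⟨y, hy, he⟩ := h b⁻¹
    rw [show b * x * b⁻¹ = y by rw [← he]; simp [mul_assoc]]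
    exact hy
  rcases (H.normalCore_normal).eq_bot_or_eq_top with hb | hb
  · rwa [hb, mem_bot] at hx
  · exact absurd (top_le_iff.mp (hb ▸ H.normalCore_le)) (ne_top_of_card hcard hH)

theorem smul_coe_eq_iff {H : Subgroup G} {x g : G} :
    x • (g : G ⧸ H) = (g : G ⧸ H) ↔ x ∈ H.map (MulAut.conj g).toMonoidHom := by
  rw [MulAction.Quotient.smul_coe, smul_eq_mul, QuotientGroup.eq, mem_map_equiv, MulAut.conj_symm_apply,
    ← inv_mem_iff]
  simp [mul_assoc]

theorem two_transitive (hcard : Nat.card G = 5616) {H : Subgroup G} (hH : Nat.card H = 432) :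
    MulAction.IsMultiplyPretransitive G (G ⧸ H) 2 := by
  classical
  let _ : Fintype (G ⧸ H) := Fintype.ofFinite _
  have hα : Fintype.card (G ⧸ H) = 13 := by
    rw [← Nat.card_eq_fintype_card, ← index_eq_card, index_thirteen hcard hH]
  set φ := MulAction.toPermHom G (G ⧸ H)
  have hinj : Function.Injective φ := by
    rw [injective_iff_map_eq_one]
    intro x hx
    refine core_eq_bot hcard hH fun g => smul_coe_eq_iff.mp ?_
    have := Equiv.congr_fun hx (g : G ⧸ H)
    simpa [φ] using this
  haveI : MulAction.IsPretransitive φ.range (G ⧸ H) := by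
    refine ⟨fun p q => ?_⟩
    obtain ⟨g, hg⟩ := MulAction.exists_smul_eq G p q
    exact ⟨⟨φ g, g, rfl⟩, hg⟩
  rcases Cfsg.Agent.S0675.result (by rw [hα]; norm_num) φ.range with hs | h2
  · exfalso
    haveI : Group.IsSolvable φ.range := hs
    haveI : Group.IsSolvable G :=
      Group.isSolvable_of_isSolvable_injective (f := φ.rangeRestrict) (fun a b h => hinj (congrArg Subtype.val h))
    letI : CommGroup G :=
      { (inferInstance : Group G) with mul_comm := IsSimpleGroup.comm_iff_isSolvable.mpr this }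
    have hp := IsSimpleGroup.prime_card (α := G)
    rw [hcard] at hp
    exact absurd (hp.eq_one_or_self_of_dvd 2 (by norm_num)) (by norm_num)
  · rw [MulAction.is_two_pretransitive_iff] at h2 ⊢
    intro a b c d hab hcd
    obtain ⟨⟨_, g, rfl⟩, h1, h2⟩ := h2 hab hcd
    exact ⟨g, h1, h2⟩

theorem mem_double (hcard : Nat.card G = 5616) {H : Subgroup G} (hH : Nat.card H = 432) {g g' : G}
    (hg : g ∉ H) (hg' : g' ∉ H) : ∃ a ∈ H, ∃ b ∈ H, g' = a * g * b := by
  have hne : ∀ {u : G}, u ∉ H → ((1 : G) : G ⧸ H) ≠ (u : G ⧸ H) := fun {u} hu h => hu (by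
    simpa using QuotientGroup.eq.mp h)
  obtain ⟨a, ha, hga⟩ :=
    MulAction.is_two_pretransitive_iff.mp (two_transitive hcard hH) (hne hg) (hne hg')
  have ha' : a ∈ H := by
    rw [MulAction.Quotient.smul_coe, smul_eq_mul, mul_one] at ha
    simpa using QuotientGroup.eq.mp ha
  rw [MulAction.Quotient.smul_coe, smul_eq_mul] at hga
  exact ⟨a, ha', _, QuotientGroup.eq.mp hga, by group⟩

theorem card_inter_conj (hcard : Nat.card G = 5616) {H : Subgroup G} (hH : Nat.card H = 432) {g : G}
    (hg : g ∉ H) : Nat.card ↥(H ⊓ H.map (MulAut.conj g).toMonoidHom) = 36 := by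
  have hst : MulAction.stabilizer H (g : G ⧸ H)
      = (H ⊓ H.map (MulAut.conj g).toMonoidHom).subgroupOf H := by
    ext x
    rw [MulAction.mem_stabilizer_iff, mem_subgroupOf, mem_inf]
    exact (smul_coe_eq_iff (x := (x : G))).trans ⟨fun h => ⟨x.2, h⟩, fun h => h.2⟩
  have horb : MulAction.orbit H (g : G ⧸ H) = {((1 : G) : G ⧸ H)}ᶜ := by
    ext q
    induction q using QuotientGroup.induction_on with
    | _ u =>
      constructor
      · rintro ⟨x, hx⟩ h1
        refine hg ?_
        have : ((1 : G) : G ⧸ H) = ((x : G) * g : G) :=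
          (Set.mem_singleton_iff.mp h1).symm.trans hx.symm
        have h2 := QuotientGroup.eq.mp this
        rw [inv_one, one_mul] at h2
        exact (mul_mem_cancel_left x.2).mp h2
      · intro h1
        have hu : u ∉ H := fun h => h1 (QuotientGroup.eq.mpr (by simpa using inv_mem h))
        obtain ⟨a, ha, b, hb, rfl⟩ := mem_double hcard hH hg hu
        refine ⟨⟨a, ha⟩, ?_⟩
        show ((a * g : G) : G ⧸ H) = _
        exact QuotientGroup.eq.mpr (by simpa [mul_assoc] using hb)
  have hn := MulAction.index_stabilizer H (g : G ⧸ H)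
  rw [horb, Set.ncard_compl, Set.ncard_singleton, ← index_eq_card, index_thirteen hcard hH, hst]
    at hn
  have h := ((H ⊓ H.map (MulAut.conj g).toMonoidHom).subgroupOf H).card_mul_index
  rw [hn, hH, Nat.card_congr (subgroupOfEquivOfLe inf_le_left).toEquiv] at h
  omega

theorem normal_not_le (hcard : Nat.card G = 5616) {H R : Subgroup G} (hH : Nat.card H = 432)
    (hRH : R ≤ H) (hnorm : H ≤ normalizer (R : Set G)) (hR : R ≠ ⊥) {g : G} (hg : g ∉ H) :
    ¬ R ≤ H.map (MulAut.conj g).toMonoidHom := by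
  intro hle
  refine hR ((eq_bot_iff_forall R).mpr fun x hx => core_eq_bot hcard hH fun u => ?_)
  by_cases hu : u ∈ H
  · rw [mem_map_equiv, MulAut.conj_symm_apply]
    exact mul_mem (mul_mem (inv_mem hu) (hRH hx)) hu
  · obtain ⟨a, ha, b, hb, rfl⟩ := mem_double hcard hH hg hu
    have h1 : a⁻¹ * x * a ∈ R := by
      have := (mem_normalizer_iff.mp (hnorm (inv_mem ha)) x).mp hx
      simpa using this
    obtain ⟨y, hy, he⟩ := hle h1
    rw [mem_map_equiv, MulAut.conj_symm_apply]
    have he' : g * y * g⁻¹ = a⁻¹ * x * a := he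
    have : (a * g * b)⁻¹ * x * (a * g * b) = b⁻¹ * y * b := by
      calc (a * g * b)⁻¹ * x * (a * g * b) = b⁻¹ * (g⁻¹ * (a⁻¹ * x * a) * g) * b := by group
        _ = b⁻¹ * y * b := by rw [← he']; group
    rw [this]
    exact mul_mem (mul_mem (inv_mem hb) hy) hb

end Cfsg.Agent.SmallS16.L33
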