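import Cfsg.Agent.L33Rec.Main
import Cfsg.Agent.SmallS16.L33Base

/-!
# The projective plane data from a subgroup of order nine with normaliser of order `432`
-/

set_option autoImplicit false
set_option linter.unusedSectionVars false

namespace Cfsg.Agent.SmallS16.L33

open Subgroup

section tools
variable {G : Type*} [Group G]

theorem mem_conjMap {H : Subgroup G} {g x : G} :
    x ∈ H.map (MulAut.conj g).toMonoidHom ↔ g⁻¹ * x * g ∈ H := by
  rw [mem_map_equiv, MulAut.conj_symm_apply]

/-- The product formula for a subgroup normalised by another. -/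
theorem card_sup_mul_inf {D J : Subgroup G} (h : J ≤ normalizer (D : Set G)) :
    Nat.card ↥(D ⊔ J) * Nat.card ↥(D ⊓ J) = Nat.card D * Nat.card J := by
  haveI : (D.subgroupOf (D ⊔ J)).Normal :=
    normal_subgroupOf_of_le_normalizer (sup_le le_normalizer h)
  have h1 : D.relIndex (D ⊔ J) = D.relIndex J := by
    rw [← relIndex_subgroupOf (H := D) le_rfl,
      ← relIndex_subgroupOf (H := D) (K := J) (le_sup_right : J ≤ D ⊔ J),
      ← relIndex_sup_left (J.subgroupOf (D ⊔ J)) (D.subgroupOf (D ⊔ J)),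
      ← subgroupOf_sup le_sup_left le_sup_right]
  have h2 : Nat.card ↥(D ⊔ J) = Nat.card D * D.relIndex (D ⊔ J) := by
    rw [← relIndex_bot_left, ← relIndex_bot_left,
      relIndex_mul_relIndex _ _ _ bot_le le_sup_left]
  have h3 : Nat.card J = Nat.card ↥(D ⊓ J) * D.relIndex J := by
    rw [← inf_relIndex_right, ← relIndex_bot_left, ← relIndex_bot_left,
      relIndex_mul_relIndex _ _ _ bot_le inf_le_right]
  rw [h2, h3, h1]
  ring

/-- A `3`-element normalising a subgroup of order three centralises it. -/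
theorem centralises_of_normalises [Finite G] {L : Subgroup G} (hL : Nat.card L = 3) {g : G}
    (hg : g ∈ normalizer (L : Set G)) (hg3 : ∃ k : ℕ, g ^ (3 ^ k) = 1) {x : G} (hx : x ∈ L) :
    g * x = x * g := by
  haveI : Fact (Nat.Prime 3) := ⟨Nat.prime_three⟩
  rcases eq_or_ne x 1 with rfl | hx1
  · simp
  have hzx : zpowers x = L := by
    refine eq_of_le_of_card_ge (zpowers_le.mpr hx) ?_
    rw [hL, Nat.card_zpowers]
    have h := orderOf_dvd_natCard (⟨x, hx⟩ : L)
    rw [hL, Subgroup.orderOf_mk] at h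
    rcases (Nat.dvd_prime Nat.prime_three).mp h with h | h
    · exact absurd (orderOf_eq_one_iff.mp h) hx1
    · exact h.ge
  have hx3 : orderOf x = 3 := by rw [← Nat.card_zpowers, hzx, hL]
  have hgx : g * x * g⁻¹ ∈ zpowers x := hzx ▸ (mem_normalizer_iff.mp hg x).mp hx
  obtain ⟨i, hi, hgi⟩ := L33Rec.exists_pow_of_mem_zpowers (hx3 ▸ pow_orderOf_eq_one x) hgx
  interval_cases i
  · exact absurd (conj_eq_one_iff.mp (by rwa [pow_zero] at hgi)) hx1
  · rwa [pow_one, mul_inv_eq_iff_eq_mul] at hgi
  · exfalso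
    have key : ∀ n : ℕ, g ^ n * x * (g ^ n)⁻¹ = x ^ (2 ^ n) := by
      intro n
      induction n with
      | zero => simp
      | succ n ih =>
        rw [pow_succ', mul_inv_rev,
          show g * g ^ n * x * ((g ^ n)⁻¹ * g⁻¹) = g * (g ^ n * x * (g ^ n)⁻¹) * g⁻¹ by group,
          ih, ← conj_pow, hgi, ← pow_mul, pow_succ']
    obtain ⟨k, hk⟩ := hg3
    have h := key (3 ^ k)
    rw [hk, inv_one, one_mul, mul_one] at h
    have h' : x ^ 1 = x ^ (2 ^ (3 ^ k)) := by rw [pow_one]; exact h
    rw [pow_eq_pow_iff_modEq, hx3] at h'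
    have hodd : Odd (3 ^ k) := (by decide : Odd 3).pow
    obtain ⟨m, hm⟩ := hodd
    rw [hm, Nat.ModEq, Nat.pow_mod, pow_succ, pow_mul] at h'
    norm_num [Nat.pow_mod, Nat.mul_mod] at h'

end tools

variable {G : Type*} [Group G] [Finite G] [IsSimpleGroup G] (hcard : Nat.card G = 5616)
include hcard

/-- The trace on `D` of a conjugate of the normaliser of `D`, with the subgroup of order `108`
normalising it. -/
theorem line_data {D : Subgroup G} (hD : Nat.card D = 9)
    (hN : Nat.card (normalizer (D : Set G)) = 432) {g : G}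
    (hg : g ∉ normalizer (D : Set G)) :
    Nat.card ↥(D ⊓ (normalizer (D : Set G)).map (MulAut.conj g).toMonoidHom) = 3 ∧
    Nat.card ↥(D ⊔ (normalizer (D : Set G) ⊓
      (normalizer (D : Set G)).map (MulAut.conj g).toMonoidHom)) = 108 ∧
    D ⊔ (normalizer (D : Set G) ⊓ (normalizer (D : Set G)).map (MulAut.conj g).toMonoidHom) ≤
      normalizer (D : Set G) ⊓ normalizer
        ((D ⊓ (normalizer (D : Set G)).map (MulAut.conj g).toMonoidHom : Subgroup G) : Set G) := by
  haveI : Fact (Nat.Prime 3) := ⟨Nat.prime_three⟩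
  set H := normalizer (D : Set G) with hHdef
  set H' := H.map (MulAut.conj g).toMonoidHom with hH'
  have hDH : D ≤ H := le_normalizer
  have hcomm : ∀ x ∈ D, ∀ y ∈ D, x * y = y * x := fun x hx y hy =>
    congrArg Subtype.val
      (IsPGroup.commutative_of_card_eq_prime_sq (p := 3) (by rw [hD]; rfl) ⟨x, hx⟩ ⟨y, hy⟩)
  have hinf : D ⊓ (H ⊓ H') = D ⊓ H' := by rw [← inf_assoc, inf_eq_left.mpr hDH]
  have hmul : Nat.card ↥(D ⊔ (H ⊓ H')) * Nat.card ↥(D ⊓ H') = 324 := by
    rw [← hinf, card_sup_mul_inf inf_le_left, hD, card_inter_conj hcard hN hg]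
  have hne : ¬ D ≤ H' := normal_not_le hcard hN le_normalizer le_rfl (fun h => by rw [h, card_bot] at hD; omega) hg
  have h3 : Nat.card ↥(D ⊓ H') = 3 := by
    have hdvd : Nat.card ↥(D ⊓ H') ∣ 3 ^ 2 :=
      (card_dvd_of_le inf_le_left).trans (by rw [hD]; norm_num)
    obtain ⟨i, hi, he⟩ := (Nat.dvd_prime_pow Nat.prime_three).mp hdvd
    interval_cases i
    · exfalso
      rw [he, pow_zero, mul_one] at hmul
      have hle : D ⊔ (H ⊓ H') ≤ H := sup_le hDH inf_le_left
      have := card_dvd_of_le hle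
      rw [hmul, hN] at this
      norm_num at this
    · exact he
    · exfalso
      refine hne (le_trans (le_of_eq ?_) inf_le_right (b := D ⊓ H'))
      exact (eq_of_le_of_card_ge inf_le_left (by rw [hD, he]; norm_num)).symm
  refine ⟨h3, by rw [h3] at hmul; omega, le_inf (sup_le hDH inf_le_left) (sup_le ?_ ?_)⟩
  · refine fun x hx => mem_normalizer_iff.mpr fun y => ?_
    have hx' : ∀ z ∈ D, x * z * x⁻¹ = z := fun z hz => by
      rw [hcomm x hx z hz, mul_inv_cancel_right]
    constructor
    · intro hy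
      rw [hx' y hy.1]
      exact hy
    · intro hy
      have hyD : y ∈ D := (mem_normalizer_iff.mp (hDH hx) y).mpr hy.1
      rwa [hx' y hyD] at hy
  · refine fun x hx => mem_normalizer_iff.mpr fun y => ?_
    have h1 := mem_normalizer_iff.mp (show x ∈ normalizer (D : Set G) from hx.1) y
    have h2 : y ∈ H' ↔ x * y * x⁻¹ ∈ H' := by
      have hx2 : x ∈ H' := (mem_inf.mp hx).2
      refine ⟨fun hy => mul_mem (mul_mem hx2 hy) (inv_mem hx2), fun hy => ?_⟩
      have := mul_mem (mul_mem (inv_mem hx2) hy) hx2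
      rwa [show x⁻¹ * (x * y * x⁻¹) * x = y by group] at this
    exact and_congr h1 h2

/-- Some line: a subgroup of order three of `D` inside a conjugate of the normaliser of `D`. -/
theorem exists_line {D : Subgroup G} (hD : Nat.card D = 9)
    (hN : Nat.card (normalizer (D : Set G)) = 432) :
    ∃ L : Subgroup G, L ≤ D ∧ Nat.card L = 3 ∧
      ¬ normalizer (D : Set G) ≤ normalizer (L : Set G) ∧
      108 ∣ Nat.card ↥(normalizer (D : Set G) ⊓ normalizer (L : Set G)) ∧
      ∃ g ∉ normalizer (D : Set G),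
        L ≤ (normalizer (D : Set G)).map (MulAut.conj g).toMonoidHom := by
  obtain ⟨g, hg⟩ : ∃ g, g ∉ normalizer (D : Set G) := by
    by_contra h
    push Not at h
    rw [(eq_top_iff' _).mpr h, card_top, hcard] at hN
    omega
  obtain ⟨h3, h108, hle⟩ := line_data hcard hD hN hg
  refine ⟨_, inf_le_left, h3, fun h => ?_, h108 ▸ card_dvd_of_le hle, g, hg, inf_le_right⟩
  refine normal_not_le hcard hN (inf_le_left.trans le_normalizer) h (fun hb => ?_) hg inf_le_right
  rw [hb, card_bot] at h3
  omega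

/-- The plane data of a subgroup of order nine with normaliser of order `432`. -/
theorem planeData_of {D : Subgroup G} (hD : Nat.card D = 9)
    (hN : Nat.card (normalizer (D : Set G)) = 432)
    (hact : ∃ g ∈ normalizer (D : Set G), (∃ k : ℕ, g ^ (3 ^ k) = 1) ∧
      ∃ x ∈ D, g * x ≠ x * g) :
    L33Rec.PlaneData D := by
  haveI : Fact (Nat.Prime 3) := ⟨Nat.prime_three⟩
  obtain ⟨g0, hg0⟩ : ∃ g, g ∉ normalizer (D : Set G) := by
    by_contra h
    push Not at h
    rw [(eq_top_iff' _).mpr h, card_top, hcard] at hN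
    omega
  obtain ⟨h3, h108, hle⟩ := line_data hcard hD hN hg0
  obtain ⟨u, huH, hu3, x0, hx0, hux0⟩ := hact
  set H := normalizer (D : Set G) with hHdef
  set H' := H.map (MulAut.conj g0).toMonoidHom with hH'
  set L := D ⊓ H' with hLdef
  set M := H ⊓ normalizer (L : Set G) with hMdef
  have hDH : D ≤ H := le_normalizer
  have hLD : L ≤ D := inf_le_left
  have hLne : L ≠ ⊥ := fun hb => by rw [hb, card_bot] at h3; omega
  have hcomm : ∀ x ∈ D, ∀ y ∈ D, x * y = y * x := fun x hx y hy =>
    congrArg Subtype.val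
      (IsPGroup.commutative_of_card_eq_prime_sq (p := 3) (by rw [hD]; rfl) ⟨x, hx⟩ ⟨y, hy⟩)
  have hMH : M ≠ H := fun h => normal_not_le hcard hN (hLD.trans hDH) (inf_eq_left.mp h) hLne hg0 inf_le_right
  have hMd : 108 ∣ Nat.card M := h108 ▸ card_dvd_of_le hle
  have hM : Nat.card M = 108 ∨ Nat.card M = 216 := by
    obtain ⟨m, hm⟩ := hMd
    have hdvd := card_dvd_of_le (show M ≤ H from inf_le_left)
    rw [hN, hm] at hdvd
    have hm4 : m ∣ 4 := Nat.dvd_of_mul_dvd_mul_left (by norm_num : 0 < 108) hdvd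
    have hm4' : m ≤ 4 := Nat.le_of_dvd (by norm_num) hm4
    interval_cases m
    · norm_num at hm4
    · exact Or.inl hm
    · exact Or.inr hm
    · norm_num at hm4
    · exact absurd (eq_of_le_of_card_ge inf_le_left (by rw [hN, hm])) hMH
  have hconjD : ∀ a ∈ H, ∀ x ∈ D, a * x * a⁻¹ ∈ D := fun a ha x hx =>
    (mem_normalizer_iff.mp ha x).mp hx
  have hLgen : ∀ {x}, x ∈ L → x ≠ 1 → zpowers x = L := by
    intro x hx hx1
    refine eq_of_le_of_card_ge (zpowers_le.mpr hx) ?_
    have h := orderOf_dvd_natCard (⟨x, hx⟩ : L)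
    rw [h3, Subgroup.orderOf_mk] at h
    rcases (Nat.dvd_prime Nat.prime_three).mp h with h | h
    · exact absurd (orderOf_eq_one_iff.mp h) hx1
    · rw [h3, Nat.card_zpowers, h]
  -- the index of `M` in `H` is four
  have hM108 : Nat.card M = 108 := by
    rcases hM with h | h
    · exact h
    exfalso
    have h2 : (M.subgroupOf H).index = 2 := by
      have := (M.subgroupOf H).card_mul_index
      rw [Nat.card_congr (subgroupOfEquivOfLe (show M ≤ H from inf_le_left)).toEquiv, h, hN] at this
      omega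
    haveI := normal_of_index_eq_two h2
    have huM : u ∈ M := by
      have hsq : (⟨u, huH⟩ : H) ^ 2 ∈ M.subgroupOf H := by
        have := pow_index_mem (M.subgroupOf H) (⟨u, huH⟩ : H)
        rwa [h2] at this
      obtain ⟨k, hk⟩ := hu3
      obtain ⟨m, hm⟩ : Odd (3 ^ k) := (by decide : Odd 3).pow
      rw [hm, pow_succ, pow_mul] at hk
      have hu' : u = ((u ^ 2) ^ m)⁻¹ := eq_inv_of_mul_eq_one_right hk
      rw [hu']
      exact inv_mem (pow_mem (mem_subgroupOf.mp hsq) m)
    obtain ⟨a, haH, haM⟩ : ∃ a ∈ H, a ∉ M := by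
      by_contra hc
      push Not at hc
      exact hMH (le_antisymm inf_le_left hc)
    set L' := L.map (MulAut.conj a).toMonoidHom with hL'
    have hL'D : L' ≤ D := by
      rintro _ ⟨y, hy, rfl⟩
      exact hconjD a haH y (hLD hy)
    have hL'3 : Nat.card L' = 3 := by rw [hL', card_map_of_injective (MulEquiv.injective _), h3]
    have hLL' : L' ≠ L := fun hEq => haM (mem_inf.mpr ⟨haH, mem_normalizer_fintype (fun y hy =>
      hEq ▸ mem_map_of_mem (MulAut.conj a).toMonoidHom hy)⟩)
    have huL : u ∈ normalizer (L : Set G) := huM.2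
    have huL' : u ∈ normalizer (L' : Set G) := by
      have hc : a⁻¹ * u * a ∈ M := by
        have := Normal.conj_mem (inferInstance : (M.subgroupOf H).Normal)
          (⟨u, huH⟩ : H) (mem_subgroupOf.mpr huM) (⟨a, haH⟩ : H)⁻¹
        simpa [mem_subgroupOf] using this
      refine mem_normalizer_iff.mpr fun y => ?_
      rw [hL', mem_conjMap, mem_conjMap, mem_normalizer_iff.mp hc.2 (a⁻¹ * y * a),
        show a⁻¹ * u * a * (a⁻¹ * y * a) * (a⁻¹ * u * a)⁻¹ = a⁻¹ * (u * y * u⁻¹) * a by group]
    have hsup : L ⊔ L' = D := by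
      refine eq_of_le_of_card_ge (sup_le hLD hL'D) ?_
      have hn : L' ≤ normalizer (L : Set G) := fun x hx => mem_normalizer_fintype fun y hy => by
        rw [hcomm x (hL'D hx) y (hLD hy), mul_inv_cancel_right]
        exact hy
      have hi : Nat.card ↥(L ⊓ L') = 1 := by
        rcases (Nat.dvd_prime Nat.prime_three).mp (h3 ▸ card_dvd_of_le inf_le_left :
          Nat.card ↥(L ⊓ L') ∣ 3) with hi | hi
        · exact hi
        · exfalso
          have h5 : L ⊓ L' = L := eq_of_le_of_card_ge inf_le_left (by rw [h3, hi])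
          exact hLL' (eq_of_le_of_card_ge (inf_eq_left.mp h5) (by rw [h3, hL'3])).symm
      have h6 := card_sup_mul_inf hn
      rw [hi, h3, hL'3, mul_one] at h6
      rw [hD, h6]
    refine hux0 ?_
    have hcent : D ≤ centralizer {u} := by
      rw [← hsup]
      refine sup_le (fun y hy => ?_) (fun y hy => ?_) <;> rw [mem_centralizer_singleton_iff]
      · exact (centralises_of_normalises h3 huL hu3 hy).symm
      · exact (centralises_of_normalises hL'3 huL' hu3 hy).symm
    exact (mem_centralizer_singleton_iff.mp (hcent hx0)).symm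
  -- four conjugates of `L`
  have hidx : (M.subgroupOf H).index = 4 := by
    have := (M.subgroupOf H).card_mul_index
    rw [Nat.card_congr (subgroupOfEquivOfLe (show M ≤ H from inf_le_left)).toEquiv, hM108, hN]
      at this
    omega
  let f : H ⧸ M.subgroupOf H → Subgroup G := fun q => L.map (MulAut.conj (q.out : G)).toMonoidHom
  have hf : Function.Injective f := by
    intro p q hpq
    rw [← QuotientGroup.out_eq' p, ← QuotientGroup.out_eq' q, QuotientGroup.eq, mem_subgroupOf]
    refine mem_inf.mpr ⟨SetLike.coe_mem _, mem_normalizer_fintype fun y hy => ?_⟩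
    have hy' : (q.out : G) * y * (q.out : G)⁻¹ ∈ f p :=
      hpq ▸ mem_map_of_mem (MulAut.conj (q.out : G)).toMonoidHom hy
    rw [mem_conjMap] at hy'
    simpa [mul_assoc] using hy'
  have hfD : ∀ q, f q ≤ D := by
    rintro q _ ⟨y, hy, rfl⟩
    exact hconjD _ (SetLike.coe_mem _) y (hLD hy)
  have hf3 : ∀ q, Nat.card (f q) = 3 := fun q => by
    simp only [f]; rw [card_map_of_injective (MulEquiv.injective _), h3]
  have hq4 : Nat.card (H ⧸ M.subgroupOf H) = 4 := by rw [← index_eq_card, hidx]
  -- the conjugates of `L` cover `D`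
  have hcover : ∀ x ∈ D, x ≠ 1 → ∃ a ∈ H, a⁻¹ * x * a ∈ L := by
    let ψ : (H ⧸ M.subgroupOf H) × {y : L // y ≠ 1} → {y : D // y ≠ 1} := fun p =>
      ⟨⟨(p.1.out : G) * (p.2.1 : G) * (p.1.out : G)⁻¹,
          hconjD _ (SetLike.coe_mem _) _ (hLD p.2.1.2)⟩,
        fun h => p.2.2 (Subtype.ext (conj_eq_one_iff.mp (congrArg Subtype.val h)))⟩
    have hψ : Function.Injective ψ := by
      rintro ⟨p, y, hy⟩ ⟨q, z, hz⟩ h
      have h' : (p.out : G) * y * (p.out : G)⁻¹ = (q.out : G) * z * (q.out : G)⁻¹ :=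
        congrArg (fun t => ((t.1 : D) : G)) h
      have hy1 : (y : G) ≠ 1 := fun hh => hy (Subtype.ext hh)
      have hz1 : (z : G) ≠ 1 := fun hh => hz (Subtype.ext hh)
      have hfp : ∀ (p : H ⧸ M.subgroupOf H) (y : G), y ∈ L → y ≠ 1 →
          f p = zpowers ((p.out : G) * y * (p.out : G)⁻¹) := fun p y hy hy1 => by
        simp only [f]
        rw [← hLgen hy hy1, MonoidHom.map_zpowers]
        rfl
      have hpq : p = q := hf (by rw [hfp p y y.2 hy1, hfp q z z.2 hz1, h'])
      subst hpq
      have : (y : G) = z := mul_left_cancel (mul_right_cancel h')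
      obtain rfl : y = z := Subtype.ext this
      rfl
    have hcD : Nat.card {y : D // y ≠ 1} = 8 := by
      classical
      haveI := Fintype.ofFinite D
      rw [Nat.card_eq_fintype_card, Fintype.card_subtype_compl, Fintype.card_subtype_eq,
        ← Nat.card_eq_fintype_card, hD]
    have hcL : Nat.card {y : L // y ≠ 1} = 2 := by
      classical
      haveI := Fintype.ofFinite L
      rw [Nat.card_eq_fintype_card, Fintype.card_subtype_compl, Fintype.card_subtype_eq,
        ← Nat.card_eq_fintype_card, h3]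
    have hbij : Function.Bijective ψ := by
      rw [Nat.bijective_iff_injective_and_card]
      exact ⟨hψ, by rw [Nat.card_prod, hq4, hcL, hcD]⟩
    intro x hx hx1
    obtain ⟨⟨q, y⟩, hy⟩ := hbij.2 ⟨⟨x, hx⟩, fun h => hx1 (congrArg Subtype.val h)⟩
    refine ⟨(q.out : G), SetLike.coe_mem _, ?_⟩
    have hy' : (q.out : G) * (y.1 : G) * (q.out : G)⁻¹ = x :=
      congrArg (fun t => ((t.1 : D) : G)) hy
    rw [← hy']
    simpa [mul_assoc] using y.1.2
  have hexp : ∀ x ∈ D, x ^ 3 = 1 := by
    intro x hx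
    rcases eq_or_ne x 1 with rfl | hx1
    · simp
    obtain ⟨a, -, ha⟩ := hcover x hx hx1
    have h := pow_card_eq_one' (x := (⟨_, ha⟩ : L))
    rw [h3] at h
    have h' : (a⁻¹ * x * a) ^ 3 = 1 := by simpa using congrArg Subtype.val h
    have h'' := congrArg (fun t => a * t * a⁻¹) h'
    rw [show a⁻¹ * x * a = a⁻¹ * x * a⁻¹⁻¹ by rw [inv_inv], conj_pow] at h''
    simpa [mul_assoc] using h''
  -- `D` is its own centraliser
  set C := centralizer (D : Set G) with hCdef
  have hCH : C ≤ H := centralizer_le_normalizer _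
  have hDC : D ≤ C := fun x hx => mem_centralizer_iff.mpr fun y hy => hcomm y hy x hx
  have hCconj : ∀ a ∈ H, ∀ c ∈ C, a⁻¹ * c * a ∈ C := by
    intro a ha c hc
    refine mem_centralizer_iff.mpr fun y hy => ?_
    have hy' : a * y * a⁻¹ ∈ D := hconjD a ha y hy
    have := mem_centralizer_iff.mp hc _ hy'
    calc y * (a⁻¹ * c * a) = a⁻¹ * (a * y * a⁻¹ * c) * a := by group
      _ = a⁻¹ * (c * (a * y * a⁻¹)) * a := by rw [this]
      _ = a⁻¹ * c * a * y := by group
  have hCM : C ≤ M := fun c hc => mem_inf.mpr ⟨hCH hc, mem_normalizer_fintype fun y hy => by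
    rw [← mem_centralizer_iff.mp hc y (hLD hy), mul_inv_cancel_right]
    exact hy⟩
  have hMK : M = D ⊔ (H ⊓ H') :=
    (eq_of_le_of_card_ge hle (by rw [hM108, h108])).symm
  have hc0 : ∀ c ∈ C, c ^ 3 ∈ H' := by
    intro c hc
    have hcK : c ∈ ((D ⊔ (H ⊓ H') : Subgroup G) : Set G) := hMK ▸ hCM hc
    rw [coe_mul_of_right_le_normalizer_left D (H ⊓ H') inf_le_left] at hcK
    obtain ⟨d, hd, h, hh, rfl⟩ := hcK
    have hhC : h ∈ C := by
      have := mul_mem (inv_mem (hDC hd)) hc
      rwa [inv_mul_cancel_left] at this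
    have hdh : Commute d h := mem_centralizer_iff.mp hhC d hd
    rw [hdh.mul_pow, hexp d hd, one_mul]
    exact pow_mem hh.2 3
  have hCexp : ∀ c ∈ C, c ^ 3 = 1 := by
    intro c hc
    refine core_eq_bot hcard hN fun g => ?_
    rw [mem_conjMap]
    by_cases hg : g ∈ H
    · exact mul_mem (mul_mem (inv_mem hg) (pow_mem (hCH hc) 3)) hg
    obtain ⟨a, ha, b, hb, rfl⟩ := mem_double hcard hN hg0 hg
    have h1 := mem_conjMap.mp (hc0 _ (hCconj a ha c hc))
    rw [show a⁻¹ * c * a = a⁻¹ * c * a⁻¹⁻¹ by rw [inv_inv], conj_pow, inv_inv] at h1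
    have h2 := mul_mem (mul_mem (inv_mem hb) h1) hb
    rwa [show (a * g0 * b)⁻¹ * c ^ 3 * (a * g0 * b)
      = b⁻¹ * (g0⁻¹ * (a⁻¹ * c ^ 3 * a) * g0) * b by group]
  have hCD : C = D := by
    have hp : IsPGroup 3 C := fun c => ⟨1, Subtype.ext (by simpa using hCexp c c.2)⟩
    obtain ⟨n, hn⟩ := IsPGroup.iff_card.mp hp
    have h9 := card_dvd_of_le hDC
    have h432 := card_dvd_of_le hCH
    rw [hD, hn] at h9
    rw [hN, hn] at h432
    have hn4 : n < 4 := by
      by_contra hc
      have := Nat.dvd_trans (pow_dvd_pow 3 (not_lt.mp hc)) h432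
      norm_num at this
    interval_cases n
    · norm_num at h9
    · norm_num at h9
    · exact (eq_of_le_of_card_ge hDC (by rw [hD, hn]; norm_num)).symm
    · exfalso
      refine hux0 ?_
      suffices hu : u ∈ C from (mem_centralizer_iff.mp hu x0 hx0).symm
      haveI : (C.subgroupOf H).Normal := normal_subgroupOf_iff_le_normalizer hCH |>.mpr fun a ha =>
        mem_normalizer_fintype fun c hc => by simpa using hCconj a⁻¹ (inv_mem ha) c hc
      obtain ⟨k, hk⟩ := hu3
      have hcC : (C.subgroupOf H).index = 16 := by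
        have := (C.subgroupOf H).card_mul_index
        rw [Nat.card_congr (subgroupOfEquivOfLe hCH).toEquiv, hn, hN] at this
        omega
      let q : H ⧸ C.subgroupOf H := QuotientGroup.mk ⟨u, huH⟩
      have hq : q = 1 := by
        rw [← orderOf_eq_one_iff]
        have h1 : orderOf q ∣ 3 ^ k := orderOf_dvd_of_pow_eq_one (by
          rw [← QuotientGroup.mk_pow]
          exact (QuotientGroup.eq_one_iff _).mpr (by
            rw [mem_subgroupOf, SubgroupClass.coe_pow, hk]; exact one_mem _))
        have h2 : orderOf q ∣ 16 := by rw [← hcC, index_eq_card]; exact orderOf_dvd_natCard q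
        exact Nat.eq_one_of_dvd_coprimes (Nat.Coprime.pow_left k (by decide : Nat.Coprime 3 16)) h1 h2
      exact mem_subgroupOf.mp ((QuotientGroup.eq_one_iff _).mp hq)
  -- some element of `H` inverts `L`
  have hinv : ∀ y ∈ L, ∀ z ∈ L, y ≠ 1 → z ≠ 1 → ∃ m ∈ H, m * y * m⁻¹ = z := by
    intro y hy z hz hy1 hz1
    obtain ⟨m, hmM, hmy⟩ : ∃ m ∈ M, m * y ≠ y * m := by
      by_contra hc
      push Not at hc
      obtain ⟨w, hwD, hwL⟩ : ∃ w ∈ D, w ∉ L := by
        by_contra hw
        push Not at hw
        have := card_dvd_of_le (show D ≤ L from hw)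
        rw [hD, h3] at this
        norm_num at this
      let τ : M → {v : D // (v : G) ∉ L} := fun m =>
        ⟨⟨(m : G) * w * (m : G)⁻¹, hconjD _ m.2.1 w hwD⟩,
          fun hv => hwL ((mem_normalizer_iff.mp m.2.2 w).mpr hv)⟩
      have hfib : ∀ a b : M, τ a = τ b → ((a⁻¹ * b : M) : G) ∈ D := by
        intro a b hab
        rw [← hCD, hCdef, mem_centralizer_iff]
        have hw' : (a : G) * w * (a : G)⁻¹ = (b : G) * w * (b : G)⁻¹ :=
          congrArg (fun t => ((t.1 : D) : G)) hab
        set n : G := ((a⁻¹ * b : M) : G) with hn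
        have hnM : n ∈ M := SetLike.coe_mem _
        have h1 : n * y = y * n := hc n hnM
        have h2 : n * w = w * n := by
          have hne : n = (a : G)⁻¹ * b := by simp [hn]
          rw [hne]
          calc (a : G)⁻¹ * b * w = (a : G)⁻¹ * ((b : G) * w * (b : G)⁻¹) * b := by group
            _ = w * ((a : G)⁻¹ * b) := by rw [← hw']; group
        have hle' : D ≤ centralizer {n} := by
          have hn' : zpowers w ≤ normalizer (L : Set G) := zpowers_le.mpr
            (mem_normalizer_fintype fun v hv => by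
              rw [hcomm w hwD v (hLD hv), mul_inv_cancel_right]; exact hv)
          have hsup : L ⊔ zpowers w = D := by
            refine eq_of_le_of_card_ge (sup_le hLD (zpowers_le.mpr hwD)) ?_
            have hdiv := card_dvd_of_le (sup_le hLD (zpowers_le.mpr hwD))
            rw [hD, show (9 : ℕ) = 3 ^ 2 from rfl] at hdiv
            obtain ⟨i, hi, he⟩ := (Nat.dvd_prime_pow Nat.prime_three).mp hdiv
            interval_cases i
            · have := card_dvd_of_le (show L ≤ L ⊔ zpowers w from le_sup_left)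
              rw [h3, he] at this
              norm_num at this
            · exfalso
              refine hwL ((eq_of_le_of_card_ge le_sup_left (by rw [h3, he]; norm_num) : L = L ⊔ zpowers w).symm ▸
                mem_sup_right (mem_zpowers w))
            · rw [hD, he]; norm_num
          rw [← hsup]
          refine sup_le ?_ (zpowers_le.mpr (mem_centralizer_singleton_iff.mpr h2.symm))
          rw [← hLgen hy hy1]
          exact zpowers_le.mpr (mem_centralizer_singleton_iff.mpr h1.symm)
        exact fun v hv => mem_centralizer_singleton_iff.mp (hle' hv)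
      have hc6 : Nat.card {v : D // (v : G) ∉ L} = 6 := by
        classical
        haveI := Fintype.ofFinite D
        rw [Nat.card_eq_fintype_card, Fintype.card_subtype_compl, ← Nat.card_eq_fintype_card,
          hD, ← Nat.card_eq_fintype_card]
        have : Nat.card {v : D // (v : G) ∈ L} = 3 :=
          (Nat.card_congr (subgroupOfEquivOfLe hLD).toEquiv).trans h3
        omega
      have hinj : Function.Injective (fun m : M =>
          ((τ m, (⟨((Function.invFun τ (τ m))⁻¹ * m : M), hfib _ _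
            (Function.invFun_eq ⟨m, rfl⟩)⟩ : D)) : {v : D // (v : G) ∉ L} × D)) := by
        intro a b hab
        obtain ⟨h1, h2⟩ := Prod.ext_iff.mp hab
        have h2' := congrArg Subtype.val h2
        simp only at h1 h2'
        rw [h1] at h2'
        exact mul_left_cancel (Subtype.ext h2')
      have := Nat.card_le_card_of_injective _ hinj
      rw [Nat.card_prod, hc6, hD, hM108] at this
      omega
    have hy' : m * y * m⁻¹ ∈ L := (mem_normalizer_iff.mp hmM.2 y).mp hy
    obtain ⟨i, hi, he⟩ := L33Rec.exists_pow_of_mem_zpowers (hexp y (hLD hy))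
      (hLgen hy hy1 ▸ hy' : m * y * m⁻¹ ∈ zpowers y)
    obtain ⟨j, hj, hje⟩ := L33Rec.exists_pow_of_mem_zpowers (hexp y (hLD hy))
      (hLgen hy hy1 ▸ hz : z ∈ zpowers y)
    interval_cases j
    · exact absurd (by simpa using hje) hz1
    · exact ⟨1, one_mem _, by simpa using hje.symm⟩
    · interval_cases i
      · rw [pow_zero, conj_eq_one_iff] at he
        exact absurd he hy1
      · rw [pow_one, mul_inv_eq_iff_eq_mul] at he
        exact absurd he hmy
      · exact ⟨m, hmM.1, he.trans hje.symm⟩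
  refine ⟨hD, hexp, fun x hx y hy => hcomm x hx y hy, fun g hg => ?_, ?_, ?_⟩
  · rw [← hCD]
    exact mem_centralizer_iff.mpr fun x hx => (hg x hx).symm
  · have := H.card_mul_index
    rw [hN, hcard] at this
    exact Nat.eq_of_mul_eq_mul_left (by norm_num : 0 < 432) (this.trans (by norm_num))
  · intro x hx hx1 y hy hy1
    obtain ⟨a, ha, hax⟩ := hcover x hx hx1
    obtain ⟨b, hb, hby⟩ := hcover y hy hy1
    obtain ⟨m, hm, hme⟩ := hinv _ hax _ hby
      (fun h => hx1 (by simpa using conj_eq_one_iff.mp (by simpa using h : a⁻¹ * x * a⁻¹⁻¹ = 1)))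
      (fun h => hy1 (by simpa using conj_eq_one_iff.mp (by simpa using h : b⁻¹ * y * b⁻¹⁻¹ = 1)))
    refine ⟨b * m * a⁻¹, mul_mem (mul_mem hb hm) (inv_mem ha), ?_⟩
    calc b * m * a⁻¹ * x * (b * m * a⁻¹)⁻¹ = b * (m * (a⁻¹ * x * a) * m⁻¹) * b⁻¹ := by group
      _ = y := by rw [hme]; group

end Cfsg.Agent.SmallS16.L33
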