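import Cfsg.Agent.L33Rec.Lines
import Cfsg.Agent.SmallS16.L33Base
import Cfsg.Agent.SmallS16.L33Plane
import Mathlib.GroupTheory.SpecificGroups.Cyclic
import Mathlib.GroupTheory.IndexNormal

/-!
In a simple group of order 5616 the normalizer of a subgroup of order three does not have order 432
with more than one Sylow 3-subgroup.
-/

set_option autoImplicit false
set_option linter.style.haveILetI false
set_option linter.unusedSectionVars false
set_option maxHeartbeats 1000000

namespace Cfsg.Agent.SmallS16.L33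

open Subgroup
open scoped Pointwise

variable {G : Type*} [Group G] [Finite G]

theorem mem_of_conj_mem {H R : Subgroup G} (hHR : H ≤ normalizer (R : Set G)) {h x : G}
    (hh : h ∈ H) (hx : x ∈ R) : h * x * h⁻¹ ∈ R :=
  (mem_normalizer_iff.1 (hHR hh) x).1 hx

theorem le_normalizer_map_subtype {H : Subgroup G} {M₀ : Subgroup ↥H} (hMn : M₀.Normal) :
    H ≤ normalizer (M₀.map H.subtype : Set G) := by
  intro h hh
  refine mem_normalizer_iff.2 fun x => ⟨?_, ?_⟩
  · rintro ⟨y, hy, rfl⟩
    exact ⟨⟨h, hh⟩ * y * ⟨h, hh⟩⁻¹, hMn.conj_mem y hy ⟨h, hh⟩, rfl⟩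
  · rintro ⟨y, hy, e⟩
    refine ⟨⟨h, hh⟩⁻¹ * y * ⟨h, hh⟩, hMn.conj_mem' y hy ⟨h, hh⟩, ?_⟩
    change h⁻¹ * (y : G) * h = x
    rw [show (y : G) = h * x * h⁻¹ from e]
    group

/-- A group has at most four subgroups of order three inside a subgroup of order nine. -/
theorem card_lines_le {M : Subgroup G} (hM : Nat.card M = 9) :
    Nat.card {L : Subgroup G // L ≤ M ∧ Nat.card L = 3} ≤ 4 := by
  classical
  haveI := Fintype.ofFinite {L : Subgroup G // L ≤ M ∧ Nat.card L = 3}
  let f : (Σ L : {L : Subgroup G // L ≤ M ∧ Nat.card L = 3}, {x : ↥L.1 // x ≠ 1}) →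
      {x : ↥M // x ≠ 1} :=
    fun p => ⟨⟨p.2.1.1, p.1.2.1 p.2.1.2⟩, fun h => p.2.2 (Subtype.ext (congrArg Subtype.val h :))⟩
  have hf : Function.Injective f := by
    rintro ⟨⟨L, hL, hL3⟩, ⟨⟨x, hx⟩, hx1⟩⟩ ⟨⟨L', hL', hL3'⟩, ⟨⟨x', hx'⟩, hx1'⟩⟩ h
    have e : x = x' := congrArg (fun q : {x : ↥M // x ≠ 1} => (q.1 : G)) h
    subst e
    haveI : Fact (Nat.Prime 3) := ⟨Nat.prime_three⟩
    have key : ∀ K : Subgroup G, Nat.card K = 3 → x ∈ K → K = zpowers x := by
      intro K hK hxK
      refine (eq_of_le_of_card_ge (zpowers_le.2 hxK) ?_).symm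
      rw [hK, Nat.card_zpowers]
      have hd : orderOf x ∣ 3 := hK ▸ Subgroup.orderOf_dvd_natCard K hxK
      rcases (Nat.dvd_prime Nat.prime_three).1 hd with h1 | h1
      · exact absurd (Subtype.ext (orderOf_eq_one_iff.1 h1)) hx1
      · rw [h1]
    have : L = L' := (key L hL3 hx).trans (key L' hL3' hx').symm
    subst this
    rfl
  have h1 := Nat.card_le_card_of_injective f hf
  have h2 : ∀ L : {L : Subgroup G // L ≤ M ∧ Nat.card L = 3}, Nat.card {x : ↥L.1 // x ≠ 1} = 2 := by
    intro L
    haveI := Fintype.ofFinite ↥L.1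
    rw [Nat.card_eq_fintype_card, Fintype.card_subtype_compl, Fintype.card_subtype_eq,
      ← Nat.card_eq_fintype_card, L.2.2]
  have h3 : Nat.card {x : ↥M // x ≠ 1} = 8 := by
    haveI := Fintype.ofFinite ↥M
    rw [Nat.card_eq_fintype_card, Fintype.card_subtype_compl, Fintype.card_subtype_eq,
      ← Nat.card_eq_fintype_card, hM]
  rw [Nat.card_sigma, Finset.sum_congr rfl fun L _ => h2 L, Finset.sum_const, Finset.card_univ,
    ← Nat.card_eq_fintype_card, smul_eq_mul, h3] at h1
  omega

/-- A subgroup of order three in a subgroup of order nine normalized by `H` has fewer than four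
conjugates under `H`, if another one is normalized by `H`. -/
theorem relIndex_lt_four {H M R L : Subgroup G} (hM : Nat.card M = 9) (hHM : H ≤ normalizer (M : Set G))
    (hRM : R ≤ M) (hR : Nat.card R = 3) (hHR : H ≤ normalizer (R : Set G)) (hLM : L ≤ M)
    (hL : Nat.card L = 3) (hHL : ¬ H ≤ normalizer (L : Set G)) :
    (normalizer (L : Set G)).relIndex H < 4 := by
  classical
  have hconj : ∀ h ∈ H, L.map (MulAut.conj h).toMonoidHom ≤ M := by
    rintro h hh _ ⟨x, hx, rfl⟩
    exact mem_of_conj_mem hHM hh (hLM hx)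
  let F : ↥H → {K : Subgroup G // K ≤ M ∧ Nat.card K = 3} := fun h =>
    ⟨L.map (MulAut.conj (h : G)).toMonoidHom, hconj _ h.2,
      by rw [card_map_of_injective (MulAut.conj (h : G)).injective, hL]⟩
  have hF : ∀ a b : ↥H, (a : ↥H ⧸ (normalizer (L : Set G)).subgroupOf H) = b → F a = F b := by
    intro a b hab
    rw [QuotientGroup.eq] at hab
    refine Subtype.ext (SetLike.ext fun x => ?_)
    have hn := mem_normalizer_iff.1 (show (a : G)⁻¹ * b ∈ normalizer (L : Set G) from hab)
    simp only [F, Subgroup.mem_map_equiv, MulAut.conj_symm_apply]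
    rw [hn ((b : G)⁻¹ * x * b)]
    simp [mul_assoc]
  have hF' : ∀ a b : ↥H, F a = F b → (a : ↥H ⧸ (normalizer (L : Set G)).subgroupOf H) = b := by
    intro a b hab
    rw [QuotientGroup.eq]
    refine mem_normalizer_iff.2 fun x => ?_
    have h1 := SetLike.ext_iff.1 (congrArg Subtype.val hab) ((b : G) * x * (b : G)⁻¹)
    simp only [F, Subgroup.mem_map_equiv, MulAut.conj_symm_apply] at h1
    constructor <;> intro hx
    · simpa [mul_assoc] using h1.2 (by simpa [mul_assoc] using hx)
    · simpa [mul_assoc] using h1.1 (by simpa [mul_assoc] using hx)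
  let q : Option (↥H ⧸ (normalizer (L : Set G)).subgroupOf H) →
      {K : Subgroup G // K ≤ M ∧ Nat.card K = 3} := fun o =>
    match o with
    | none => ⟨R, hRM, hR⟩
    | some c => Quotient.liftOn' c F fun a b h => hF a b (Quotient.sound' h)
  have hq : Function.Injective q := by
    have hne : ∀ a : ↥H, F a ≠ ⟨R, hRM, hR⟩ := by
      intro a hab
      apply hHL
      have hab' : L.map (MulAut.conj (a : G)).toMonoidHom = R := congrArg Subtype.val hab
      have hLR : L = R := by
        refine eq_of_le_of_card_ge (fun x hx => ?_) (by rw [hR, hL])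
        have : (a : G) * x * (a : G)⁻¹ ∈ R := hab' ▸ mem_map_of_mem _ hx
        exact (mem_normalizer_iff.1 (hHR a.2) x).2 this
      rw [hLR]; exact hHR
    rintro (_ | c) (_ | c') h
    · rfl
    · induction c' using QuotientGroup.induction_on with
      | _ a => exact absurd h.symm (hne a)
    · induction c using QuotientGroup.induction_on with
      | _ a => exact absurd h (hne a)
    · induction c using QuotientGroup.induction_on with
      | _ a => induction c' using QuotientGroup.induction_on with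
        | _ b => exact congrArg some (hF' a b h)
  have h1 := (Nat.card_le_card_of_injective q hq).trans (card_lines_le hM)
  rw [Finite.card_option] at h1
  rw [Subgroup.relIndex, index_eq_card]
  omega

variable [IsSimpleGroup G] (hcard : Nat.card G = 5616)
include hcard

/-- A proper subgroup whose order is a multiple of 216 and exceeds 216 has order 432. -/
theorem card_eq_432 {K : Subgroup G} (hK : K ≠ ⊤) (h1 : 216 ∣ Nat.card K) (h2 : 216 < Nat.card K) :
    Nat.card K = 432 := by
  have h8 := L33Rec.eight_lt_index hcard hK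
  have hm := K.card_mul_index
  rw [hcard] at hm
  obtain ⟨k, hk⟩ := h1
  have hk2 : 2 ≤ k := by omega
  have hk3 : k < 3 := by
    by_contra hc
    nlinarith
  omega

theorem normalizer_ne_top_of_card {X : Subgroup G} (h1 : 1 < Nat.card X) (h2 : Nat.card X < 5616) :
    normalizer (X : Set G) ≠ ⊤ := by
  intro h
  rcases (normalizer_eq_top_iff.1 h).eq_bot_or_eq_top with h' | h'
  · rw [h'] at h1; simp at h1
  · rw [h', card_top, hcard] at h2; omega

/-- If `N(R)` has order 432 for `|R| = 3`, then it has only one Sylow 3-subgroup of `G`. -/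
theorem no_normal_line_of (hline : ∀ D : Subgroup G, Nat.card D = 9 → Nat.card ↥(normalizer (D : Set G)) = 432 →
      ∃ L : Subgroup G, L ≤ D ∧ Nat.card L = 3 ∧
        ¬ normalizer (D : Set G) ≤ normalizer (L : Set G) ∧
        108 ∣ Nat.card ↥(normalizer (D : Set G) ⊓ normalizer (L : Set G)) ∧
        ∃ g ∉ normalizer (D : Set G),
          L ≤ (normalizer (D : Set G)).map (MulAut.conj g).toMonoidHom)
    {R : Subgroup G} (hR : Nat.card R = 3)
    (hN : Nat.card ↥(normalizer (R : Set G)) = 432) {P Q : Sylow 3 G} (hne : P ≠ Q)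
    (hP : (P : Subgroup G) ≤ normalizer (R : Set G))
    (hQ : (Q : Subgroup G) ≤ normalizer (R : Set G)) : False := by
  classical
  haveI : Fact (Nat.Prime 3) := ⟨Nat.prime_three⟩
  set H := normalizer (R : Set G) with hH
  have hRH : R ≤ H := le_normalizer
  have hR1 : R ≠ ⊥ := by rintro rfl; simp at hR
  haveI : IsCyclic ↥R := isCyclic_of_prime_card hR
  have hRC : R ≤ centralizer (R : Set G) := fun x hx =>
    mem_centralizer_iff.2 fun y hy => congrArg Subtype.val
      ((IsCyclic.isMulCommutative (α := ↥R)).is_comm.comm ⟨y, hy⟩ ⟨x, hx⟩)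
  obtain ⟨g₀, hg₀⟩ : ∃ g, g ∉ H := by
    by_contra hc
    push Not at hc
    rw [show H = ⊤ from (eq_top_iff' H).2 hc, card_top, hcard] at hN
    omega
  -- the subgroup `R(H ∩ H^g)`
  set C : G → Subgroup G := fun g => H ⊓ H.map (MulAut.conj g).toMonoidHom with hC
  set W : G → Subgroup G := fun g => C g ⊔ R with hW
  have hWH : ∀ g, W g ≤ H := fun g => sup_le inf_le_left hRH
  have hdisj : ∀ g, g ∉ H → Disjoint (C g) R := by
    intro g hg
    rw [disjoint_iff_inf_le]
    intro x hx
    rw [mem_bot]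
    by_contra hx1
    refine normal_not_le hcard hN hRH le_rfl hR1 hg fun y hy => ?_
    have hxy : (⟨y, hy⟩ : ↥R) ∈ zpowers (⟨x, (mem_inf.1 hx).2⟩ : ↥R) := by
      rw [zpowers_eq_top_of_prime_card hR (fun h => hx1 (congrArg Subtype.val h))]
      trivial
    obtain ⟨k, hk⟩ := mem_zpowers_iff.1 hxy
    have : y = x ^ k := by simpa using (congrArg Subtype.val hk).symm
    rw [this]
    exact (H.map _).zpow_mem (mem_inf.1 (mem_inf.1 hx).1).2 k
  have hWcard : 108 ≤ Nat.card ↥(W g₀) := by
    let e : ↥(C g₀) × ↥R → ↥(W g₀) := fun p =>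
      ⟨p.1 * p.2, (W g₀).mul_mem (mem_sup_left p.1.2) (mem_sup_right p.2.2)⟩
    have he : Function.Injective e := fun a b h =>
      mul_injective_of_disjoint (hdisj g₀ hg₀) (congrArg Subtype.val h)
    have := Nat.card_le_card_of_injective e he
    rwa [Nat.card_prod, hR, card_inter_conj hcard hN hg₀] at this
  set N₀ := ((W g₀).subgroupOf H).normalCore with hN₀
  have hN₀i : N₀.index ∣ 24 := by
    have hi : ((W g₀).subgroupOf H).index ≤ 4 := by
      have hm := ((W g₀).subgroupOf H).card_mul_index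
      rw [Nat.card_congr (subgroupOfEquivOfLe (hWH g₀)).toEquiv, hN] at hm
      nlinarith
    rw [hN₀, normalCore_eq_ker, index_ker]
    refine (card_subgroup_dvd_card _).trans ?_
    rw [Nat.card_perm, ← index_eq_card]
    exact Nat.factorial_dvd_factorial hi
  set C₀ := (centralizer (R : Set G)).subgroupOf H with hC₀
  have hC₀i : C₀.index ∣ 2 := by
    rw [hC₀, ← normalizerMonoidHom_ker, index_ker]
    refine (card_subgroup_dvd_card _).trans ?_
    rw [IsCyclic.card_mulAut, hR, Nat.totient_prime Nat.prime_three]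
  haveI : C₀.Normal := by rw [hC₀, ← normalizerMonoidHom_ker]; exact MonoidHom.normal_ker _
  set M₀ := N₀ ⊓ C₀ with hM₀
  have hMn : M₀.Normal := Subgroup.normal_inf_normal N₀ C₀
  set M := M₀.map H.subtype with hM
  have hMH : M ≤ H := map_subtype_le M₀
  have hHM : H ≤ normalizer (M : Set G) := le_normalizer_map_subtype hMn
  have hRM : R ≤ M := by
    intro r hr
    refine ⟨⟨r, hRH hr⟩, ⟨fun b => ?_, hRC hr⟩, rfl⟩
    exact (mem_sup_right (mem_of_conj_mem le_rfl b.2 hr) : (b : G) * r * (b : G)⁻¹ ∈ W g₀)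
  -- `M` has exponent three
  have hexp : ∀ m ∈ M, m ^ 3 = 1 := by
    rintro _ ⟨⟨m, hmH⟩, ⟨hm1, hm2⟩, rfl⟩
    refine core_eq_bot hcard hN fun g => ?_
    by_cases hg : g ∈ H
    · exact ⟨g⁻¹ * m ^ 3 * g, H.mul_mem (H.mul_mem (H.inv_mem hg) (H.pow_mem hmH 3)) hg,
        by simp [mul_assoc]⟩
    obtain ⟨a, ha, b, hb, rfl⟩ := mem_double hcard hN hg₀ hg
    have hma : a⁻¹ * m * a ∈ W g₀ := by
      have := mem_subgroupOf.1 (hm1 ⟨a, ha⟩⁻¹)
      simpa [mul_assoc] using this
    have hco : ((W g₀ : Subgroup G) : Set G) = (C g₀ : Set G) * (R : Set G) :=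
      coe_mul_of_left_le_normalizer_right _ _ inf_le_left
    rw [← SetLike.mem_coe, hco] at hma
    obtain ⟨h, hh, r, hr, e⟩ := Set.mem_mul.1 hma
    have hr3 : r ^ 3 = 1 := by
      have := congrArg Subtype.val (pow_card_eq_one' (x := (⟨r, hr⟩ : ↥R)))
      rwa [hR] at this
    have hma2 : a⁻¹ * m * a ∈ centralizer (R : Set G) := by
      refine mem_centralizer_iff.2 fun y hy => ?_
      have h1 : a * y * a⁻¹ * m = m * (a * y * a⁻¹) :=
        mem_centralizer_iff.1 hm2 (a * y * a⁻¹) (mem_of_conj_mem le_rfl ha hy)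
      calc y * (a⁻¹ * m * a) = a⁻¹ * (a * y * a⁻¹ * m) * a := by group
        _ = a⁻¹ * (m * (a * y * a⁻¹)) * a := by rw [h1]
        _ = a⁻¹ * m * a * y := by group
    have hcm : Commute h r := by
      have h1 : r * (a⁻¹ * m * a) = a⁻¹ * m * a * r := mem_centralizer_iff.1 hma2 r hr
      rw [← e, ← mul_assoc] at h1
      exact (mul_right_cancel h1).symm
    have h3 : a⁻¹ * m ^ 3 * a = h ^ 3 := by
      have : (a⁻¹ * m * a) ^ 3 = a⁻¹ * m ^ 3 * a := by simpa using conj_pow (i := 3) (a := a⁻¹) (b := m)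
      rw [← this, ← e, hcm.mul_pow, hr3, mul_one]
    obtain ⟨y, hy, hye⟩ := (mem_inf.1 hh).2
    refine ⟨b⁻¹ * y ^ 3 * b, H.mul_mem (H.mul_mem (H.inv_mem hb) (H.pow_mem hy 3)) hb, ?_⟩
    simp only [MulEquiv.coe_toMonoidHom, MulAut.conj_apply] at hye ⊢
    have hy3 : g₀ * y ^ 3 * g₀⁻¹ = h ^ 3 := by rw [← hye, conj_pow]
    calc a * g₀ * b * (b⁻¹ * y ^ 3 * b) * (a * g₀ * b)⁻¹ = a * (g₀ * y ^ 3 * g₀⁻¹) * a⁻¹ := by group
      _ = a * (a⁻¹ * m ^ 3 * a) * a⁻¹ := by rw [hy3, h3]
      _ = H.subtype ⟨m, hmH⟩ ^ 3 := by simp [mul_assoc]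
  have hM3 : IsPGroup 3 ↥M := fun m => ⟨1, Subtype.ext (by simpa using hexp m.1 m.2)⟩
  have hM9 : Nat.card M = 9 := by
    obtain ⟨n, hn⟩ := (IsPGroup.iff_card).1 hM3
    have hlow : 9 ≤ Nat.card M := by
      rw [hM, card_map_of_injective H.subtype_injective]
      have h1 : M₀.index ≤ 48 := (index_inf_le (H := N₀) (K := C₀)).trans
        (Nat.mul_le_mul (Nat.le_of_dvd (by norm_num) hN₀i) (Nat.le_of_dvd (by norm_num) hC₀i))
      have h2 := M₀.card_mul_index
      rw [hN] at h2
      nlinarith
    have hdvd : Nat.card M ∣ 5616 := hcard ▸ card_subgroup_dvd_card M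
    rw [hn] at hlow hdvd
    have hn2 : 2 ≤ n := by
      by_contra hc
      interval_cases n <;> omega
    have hn4 : n < 4 := by
      by_contra hc
      have : 3 ^ 4 ∣ 5616 := (pow_dvd_pow 3 (not_lt.1 hc)).trans hdvd
      omega
    interval_cases n
    · simpa using hn
    · exfalso
      apply hne
      have key : ∀ S : Sylow 3 G, (S : Subgroup G) ≤ H → (S : Subgroup G) = M := by
        intro S hS
        have hSM : IsPGroup 3 ↥((S : Subgroup G) ⊔ M) :=
          S.isPGroup'.to_sup_of_normal_right' hM3 (hS.trans hHM)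
        have e1 := S.is_maximal' hSM le_sup_left
        refine (eq_of_le_of_card_ge (le_sup_right.trans e1.le) ?_).symm
        rw [hn, S.card_eq_multiplicity, hcard]
        refine Nat.pow_le_pow_right (by norm_num) ?_
        refine le_of_eq ?_
        rw [show (5616 : ℕ) = 3 ^ 3 * 208 by norm_num, Nat.factorization_mul (by norm_num) (by norm_num),
          Nat.Prime.factorization_pow Nat.prime_three]
        simp [Nat.factorization_eq_zero_of_not_dvd (show ¬ 3 ∣ 208 by norm_num)]
      exact Sylow.ext ((key P hP).trans (key Q hQ).symm)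
  have hNM : normalizer (M : Set G) = H := by
    refine (eq_of_le_of_card_ge hHM ?_).symm
    rw [hN, card_eq_432 hcard (normalizer_ne_top_of_card hcard (by omega) (by omega)) ?_ ?_]
    · exact Dvd.dvd.trans (by rw [hN]; norm_num) (card_dvd_of_le hHM)
    · exact lt_of_lt_of_le (by rw [hN]; norm_num) (Subgroup.card_le_of_le hHM)
  obtain ⟨L, hLM, hL3, hLn, h108, g, hg, hLg⟩ := hline M hM9 (by rw [hNM, hN])
  rw [hNM] at hLn h108 hg hLg
  -- `N(L)` meets `H` in a subgroup of order 216
  set I := H ⊓ normalizer (L : Set G) with hI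
  have hIcard : Nat.card I = 216 := by
    have h4 := relIndex_lt_four hM9 hHM hRM hR le_rfl hLM hL3 hLn
    have hne1 : (normalizer (L : Set G)).relIndex H ≠ 1 := fun h => hLn (relIndex_eq_one.1 h)
    have hm := ((normalizer (L : Set G)).subgroupOf H).card_mul_index
    rw [show Nat.card ↥((normalizer (L : Set G)).subgroupOf H) = Nat.card I from ?_, hN] at hm
    · change Nat.card I * (normalizer (L : Set G)).relIndex H = 432 at hm
      obtain ⟨k, hk⟩ := h108
      rw [hk] at hm ⊢
      generalize (normalizer (L : Set G)).relIndex H = j at h4 hne1 hm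
      interval_cases j <;> omega
    · rw [← card_map_of_injective H.subtype_injective, subgroupOf_map_subtype, inf_comm]
  -- a conjugate of `R` normalizes `L` and lies outside `H`
  have hR'L : R.map (MulAut.conj g).toMonoidHom ≤ normalizer (L : Set G) := by
    rintro _ ⟨x, hx, rfl⟩
    refine centralizer_le_normalizer (L : Set G) (mem_centralizer_iff.2 fun l hl => ?_)
    obtain ⟨h, hh, rfl⟩ := hLg hl
    rw [← map_mul, ← map_mul]
    congr 1
    by_cases hx1 : x = 1
    · simp [hx1]
    have hx3 : x ^ 3 = 1 := by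
      have := congrArg Subtype.val (pow_card_eq_one' (x := (⟨x, hx⟩ : ↥R)))
      rwa [hR] at this
    have hh3 : h ^ 3 = 1 := by
      have := congrArg Subtype.val (pow_card_eq_one' (x := (⟨_, hl⟩ : ↥L)))
      rw [hL3] at this
      simp only [SubmonoidClass.coe_pow, OneMemClass.coe_one, MulEquiv.coe_toMonoidHom] at this
      exact (MulAut.conj g).injective (by rw [map_pow, this, map_one])
    refine L33Rec.commute_of_normalises hh3 hx3 hx1 ?_
    have : zpowers x = R := by
      refine eq_of_le_of_card_ge (zpowers_le.2 hx) ?_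
      rw [hR, Nat.card_zpowers, L33Rec.orderOf_eq_three hx3 hx1]
    rw [this]
    exact mem_of_conj_mem le_rfl hh hx
  have hR'H : ¬ R.map (MulAut.conj g).toMonoidHom ≤ H := by
    intro h
    refine normal_not_le hcard hN hRH le_rfl hR1 (g := g⁻¹) (fun h' => hg (by simpa using H.inv_mem h'))
      fun x hx => ⟨g * x * g⁻¹, h ⟨x, hx, rfl⟩, by simp [mul_assoc]⟩
  have hLtop : normalizer (L : Set G) ≠ ⊤ :=
    normalizer_ne_top_of_card hcard (by omega) (by omega)
  have hNL : Nat.card ↥(normalizer (L : Set G)) = 432 := by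
    refine card_eq_432 hcard hLtop (hIcard ▸ card_dvd_of_le inf_le_right) ?_
    refine hIcard ▸ lt_of_le_of_ne (Subgroup.card_le_of_le inf_le_right) fun h => hR'H ?_
    have e : I = normalizer (L : Set G) := eq_of_le_of_card_ge inf_le_right h.ge
    exact hR'L.trans (e ▸ inf_le_left)
  have two : ∀ K : Subgroup G, I ≤ K → Nat.card K = 432 → K ≤ normalizer (I : Set G) := by
    intro K hIK hK
    have hi : (I.subgroupOf K).index = 2 := by
      have hm := (I.subgroupOf K).card_mul_index
      rw [Nat.card_congr (subgroupOfEquivOfLe hIK).toEquiv, hIcard, hK] at hm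
      omega
    exact (normal_subgroupOf_iff_le_normalizer hIK).1 (normal_of_index_eq_two hi)
  have h1 := two H inf_le_left hN
  have h2 := two _ inf_le_right hNL
  have hItop : normalizer (I : Set G) ≠ ⊤ :=
    normalizer_ne_top_of_card hcard (by omega) (by omega)
  have e : H = normalizer (I : Set G) := by
    refine eq_of_le_of_card_ge h1 ?_
    rw [hN, card_eq_432 hcard hItop ?_ ?_]
    · exact Dvd.dvd.trans (by rw [hN]; norm_num) (card_dvd_of_le h1)
    · exact lt_of_lt_of_le (by rw [hN]; norm_num) (Subgroup.card_le_of_le h1)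
  exact hR'H (hR'L.trans (h2.trans e.ge))

/-- If `N(R)` has order 432 for `|R| = 3`, then it has only one Sylow 3-subgroup of `G`. -/
theorem no_normal_line {R : Subgroup G} (hR : Nat.card R = 3)
    (hN : Nat.card ↥(normalizer (R : Set G)) = 432) {P Q : Sylow 3 G} (hne : P ≠ Q)
    (hP : (P : Subgroup G) ≤ normalizer (R : Set G))
    (hQ : (Q : Subgroup G) ≤ normalizer (R : Set G)) : False :=
  no_normal_line_of hcard (fun _ hD hND => exists_line hcard hD hND) hR hN hne hP hQ

end Cfsg.Agent.SmallS16.L33
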