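import Cfsg.Agent.SmallS16.L33Arith
import Cfsg.Agent.SmallS16.L33Base
import Cfsg.Agent.SmallS16.L33Line
import Cfsg.Agent.SmallS16.L33Plane

/-!
# The Sylow 3-subgroup of a simple group of order 5616 is not abelian
-/

set_option autoImplicit false
set_option linter.style.haveILetI false

namespace Cfsg.Agent.SmallS16.L33

open Subgroup SmallGroups
open scoped Pointwise

variable {G : Type*} [Group G] [Finite G] [IsSimpleGroup G] (hcard : Nat.card G = 5616)

include hcard

omit [IsSimpleGroup G] in
private theorem not_normalized {P Q : Sylow 3 G} (hne : P ≠ Q)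
    (hQ : (Q : Subgroup G) ≤ normalizer ((P : Subgroup G) : Set G)) : False := by
  haveI : Fact (Nat.Prime 3) := ⟨Nat.prime_three⟩
  have h : (Q : Subgroup G) ⊓ normalizer ((P : Subgroup G) : Set G) = (Q : Subgroup G) ⊓ P :=
    Q.2.inf_normalizer_sylow P
  rw [inf_eq_left.2 hQ] at h
  refine hne (Sylow.ext ?_).symm
  exact eq_of_le_of_card_ge (h.le.trans inf_le_right)
    (by rw [card_sylow hcard, card_sylow hcard])

theorem comm_absurd_of
    (hline : ∀ D : Subgroup G, Nat.card D = 9 → Nat.card (normalizer (D : Set G)) = 432 →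
      ∃ L : Subgroup G, L ≤ D ∧ Nat.card L = 3 ∧
        ∃ g ∉ normalizer (D : Set G),
          L ≤ (normalizer (D : Set G)).map (MulAut.conj g).toMonoidHom)
    (hnorm : ∀ (R : Subgroup G) (P Q : Sylow 3 G), Nat.card R = 3 →
      Nat.card (normalizer (R : Set G)) = 432 → P ≠ Q →
      (P : Subgroup G) ≤ normalizer (R : Set G) → (Q : Subgroup G) ≤ normalizer (R : Set G) → False)
    (P : Sylow 3 G)
    (hc : ∀ a ∈ (P : Subgroup G), ∀ b ∈ (P : Subgroup G), Commute a b) : False := by
  classical
  haveI : Fact (Nat.Prime 3) := ⟨Nat.prime_three⟩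
  have hG := not_comm hcard
  have hn := card_normalizer_mul P
  rw [hcard] at hn
  have hab : ∀ R : Sylow 3 G, ∀ a ∈ (R : Subgroup G), ∀ b ∈ (R : Subgroup G), Commute a b := by
    intro R a ha b hb
    obtain ⟨g, rfl⟩ := MulAction.exists_smul_eq G P R
    rw [Sylow.coe_subgroup_smul, Subgroup.mem_pointwise_smul_iff_inv_smul_mem] at ha hb
    have h := (hc _ ha _ hb).map (MulAut.conj g).toMonoidHom
    simpa [mul_assoc] using h
  -- the case of 208 Sylow subgroups
  by_cases h208 : Nat.card (Sylow 3 G) = 208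
  · refine not_normalizer_le_centralizer hG (p := 3) (by rw [hcard]; norm_num) P ?_
    rw [h208] at hn
    have hP : (P : Subgroup G) = normalizer ((P : Subgroup G) : Set G) :=
      eq_of_le_of_card_ge le_normalizer (by rw [card_sylow hcard]; omega)
    rw [← hP]
    exact fun a ha b hb => (hc b hb a ha).eq
  obtain ⟨Q, hPQ, h9⟩ := exists_cut hcard h208 P
  set D : Subgroup G := (P : Subgroup G) ⊓ (Q : Subgroup G) with hDdef
  set C := centralizer (D : Set G) with hCdef
  have hPC : (P : Subgroup G) ≤ C := fun a ha b hb => (hc b (mem_inf.1 hb).1 a ha).eq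
  have hQC : (Q : Subgroup G) ≤ C := fun a ha b hb => (hab Q b (mem_inf.1 hb).2 a ha).eq
  have hD1 : D ≠ ⊥ := fun h => by rw [h, card_bot] at h9; omega
  have hzc : ∀ z : G, z ≠ 1 → centralizer ({z} : Set G) ≠ ⊤ := fun z hz h => hz (by
    have hzz : z ∈ center G := mem_center_iff.2 fun g =>
      mem_centralizer_singleton_iff.1 (h ▸ mem_top g)
    rwa [center_eq_bot_of_not_comm hG, mem_bot] at hzz)
  have hCle : ∀ z ∈ D, C ≤ centralizer ({z} : Set G) := fun z hz =>
    centralizer_le (Set.singleton_subset_iff.2 hz)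
  -- no element of `D` has a centralizer of order 432
  have hz432 : ∀ z ∈ D, z ≠ 1 → Nat.card (centralizer ({z} : Set G)) ≠ 432 := by
    intro z hzD hz h432
    obtain ⟨w, hwz, hw3⟩ : ∃ w ∈ zpowers z, orderOf w = 3 := by
      obtain ⟨k, hk⟩ := IsPGroup.iff_orderOf.1 P.2 ⟨z, (mem_inf.1 hzD).1⟩
      rw [Subgroup.orderOf_mk] at hk
      obtain ⟨j, rfl⟩ : ∃ j, k = j + 1 :=
        Nat.exists_eq_succ_of_ne_zero fun h0 => hz (by
          rwa [h0, pow_zero, orderOf_eq_one_iff] at hk)
      refine ⟨z ^ 3 ^ j, pow_mem (mem_zpowers z) _, ?_⟩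
      rw [orderOf_pow' z (pow_ne_zero _ (by norm_num)), hk,
        Nat.gcd_eq_right (pow_dvd_pow 3 (Nat.le_succ j)), pow_succ,
        Nat.mul_div_cancel_left _ (pow_pos (by norm_num) j)]
    have hw1 : w ≠ 1 := fun e => by rw [e, orderOf_one] at hw3; omega
    have hle : centralizer ({z} : Set G) ≤ normalizer ((zpowers w : Subgroup G) : Set G) := by
      refine le_trans ?_ (centralizer_le_normalizer _)
      intro a ha b hb
      obtain ⟨i, rfl⟩ := mem_zpowers_iff.1 hb
      obtain ⟨j, rfl⟩ := mem_zpowers_iff.1 hwz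
      exact ((Commute.symm (mem_centralizer_singleton_iff.1 ha)).zpow_left j).zpow_left i |>.eq
    have htop : normalizer ((zpowers w : Subgroup G) : Set G) ≠ ⊤ :=
      normalizer_ne_top (fun h => hw1 (mem_bot.1 (h ▸ mem_zpowers w))) fun h => by
        have := Nat.card_zpowers w
        rw [h, card_top, hcard, hw3] at this
        omega
    have hN : Nat.card (normalizer ((zpowers w : Subgroup G) : Set G)) = 432 := by
      have h1 := card_dvd_of_le hle
      have h2 := Nat.le_of_dvd Nat.card_pos h1
      rw [h432] at h1 h2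
      rcases card_mem hcard htop ((by norm_num : 27 ∣ 432).trans h1) with
        e | e | e | e | e | e <;> omega
    exact hnorm _ P Q (by rw [Nat.card_zpowers, hw3]) hN hPQ
      (hPC.trans ((hCle z hzD).trans hle)) (hQC.trans ((hCle z hzD).trans hle))
  -- the Sylow subgroups meeting `D` centralize it
  have hkey : ∀ z ∈ D, z ≠ 1 → ∀ R : Sylow 3 G, z ∈ (R : Subgroup G) → (R : Subgroup G) ≤ C := by
    intro z hzD hz R hzR
    have hRz : (R : Subgroup G) ≤ centralizer ({z} : Set G) := fun a ha =>
      mem_centralizer_singleton_iff.2 (hab R a ha z hzR).eq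
    have hCz := hCle z hzD
    have hC' : C ≠ ⊤ := fun h => hzc z hz (top_le_iff.1 (h.ge.trans hCz))
    have hcz : Nat.card (centralizer ({z} : Set G)) = 108 ∨
        Nat.card (centralizer ({z} : Set G)) = 216 := by
      rcases card_of_two_sylow hcard (hzc z hz) hPQ (hPC.trans hCz) (hQC.trans hCz) with
        e | e | e
      · exact Or.inl e
      · exact Or.inr e
      · exact absurd e (hz432 z hzD hz)
    have hcC : Nat.card C = 108 ∨ Nat.card C = 216 := by
      have hle := Nat.le_of_dvd Nat.card_pos (card_dvd_of_le hCz)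
      rcases card_of_two_sylow hcard hC' hPQ hPC hQC with e | e | e <;> omega
    have e1 : {R : Sylow 3 G | (R : Subgroup G) ≤ C} =
        {R : Sylow 3 G | (R : Subgroup G) ≤ centralizer ({z} : Set G)} := by
      refine Set.eq_of_subset_of_ncard_le (fun S hS => le_trans hS hCz) ?_
      rw [← Nat.card_coe_set_eq, ← Nat.card_coe_set_eq]
      exact ((four_sylow hcard hcz hPQ (hPC.trans hCz) (hQC.trans hCz)).trans
        (four_sylow hcard hcC hPQ hPC hQC).symm).le
    exact (Set.ext_iff.1 e1 R).2 hRz
  have hDR : ∀ R : Sylow 3 G, (R : Subgroup G) ≤ C → D ≤ (R : Subgroup G) := by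
    intro R hR
    have hp := IsPGroup.to_sup_of_normal_right' R.2 (P.2.to_le (inf_le_left : D ≤ P))
      (hR.trans (centralizer_le_normalizer _))
    exact le_sup_right.trans (R.3 hp le_sup_left).le
  -- the normalizer of `P` normalizes `D`
  have hNP : ∀ g ∈ normalizer ((P : Subgroup G) : Set G), ∀ x ∈ D, g * x * g⁻¹ ∈ D := by
    intro g hg x hx
    set D2 := D.map (MulAut.conj g).toMonoidHom with hD2
    have hcD2 : Nat.card D2 = 9 := by
      rw [hD2, card_map_of_injective (MulAut.conj g).injective, h9]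
    have hD2P : D2 ≤ (P : Subgroup G) := by
      rintro _ ⟨y, hy, rfl⟩
      exact (mem_normalizer_iff.1 hg y).1 (mem_inf.1 hy).1
    obtain ⟨z, hzD, hzD2, hz⟩ : ∃ z, z ∈ D ∧ z ∈ D2 ∧ z ≠ 1 := by
      by_contra hall
      push Not at hall
      have hdis : Disjoint D D2 := disjoint_def.2 fun h1 h2 => hall _ h1 h2
      have h81 := Nat.card_le_card_of_injective
        (fun a : D × D2 => (⟨(a.1 : G) * (a.2 : G), mul_mem (mem_inf.1 a.1.2).1 (hD2P a.2.2)⟩ :
          (P : Subgroup G)))
        (fun a b e => mul_injective_of_disjoint hdis (congrArg Subtype.val e))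
      rw [Nat.card_prod, h9, hcD2, card_sylow hcard] at h81
      omega
    obtain ⟨y, hy, hyz⟩ := hzD2
    have hzQ : z ∈ ((g • Q : Sylow 3 G) : Subgroup G) := by
      rw [← hyz, Sylow.coe_subgroup_smul]
      exact smul_mem_pointwise_smul _ _ _ (mem_inf.1 hy).2
    have hle : D ≤ D2 := fun d hd => by
      have h1 := hDR _ (hkey z hzD hz _ hzQ) hd
      rw [Sylow.coe_subgroup_smul, mem_pointwise_smul_iff_inv_smul_mem] at h1
      refine ⟨(MulAut.conj g)⁻¹ • d, mem_inf.2 ⟨?_, h1⟩, by simp [mul_assoc]⟩
      have h2 := (mem_normalizer_iff.1 (inv_mem hg) d).1 (mem_inf.1 hd).1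
      simpa using h2
    rw [eq_of_le_of_card_ge hle (by rw [hcD2, h9])]
    exact ⟨x, hx, rfl⟩
  set H := normalizer (D : Set G) with hHdef
  have hNH : normalizer ((P : Subgroup G) : Set G) ≤ H := fun g hg => by
    rw [hHdef, mem_normalizer_iff]
    refine fun x => ⟨hNP g hg x, fun h => ?_⟩
    have := hNP g⁻¹ (inv_mem hg) _ h
    simpa [mul_assoc] using this
  have hH : H ≠ ⊤ := normalizer_ne_top hD1 fun h => by
    rw [h, card_top, hcard] at h9
    omega
  have hQH : (Q : Subgroup G) ≤ H := hQC.trans (centralizer_le_normalizer _)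
  have hdN := card_dvd_of_le hNH
  rcases card_sylow_cases hcard with h | h | h
  · rw [h] at hn
    have hc432 := card_of_two_sylow hcard hH hPQ (hPC.trans (centralizer_le_normalizer _)) hQH
    have e := eq_of_le_of_card_ge hNH (by
      have := Nat.le_of_dvd Nat.card_pos hdN; omega)
    exact not_normalized hcard hPQ (e ▸ hQH)
  · rw [h] at hn
    rcases card_of_two_sylow hcard hH hPQ (hPC.trans (centralizer_le_normalizer _)) hQH with
      e | e | e
    · exact not_normalized hcard hPQ
        (eq_of_le_of_card_ge hNH (by omega) ▸ hQH)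
    · refine not_normalized hcard hPQ fun q hq => ?_
      refine L33Rec.mem_of_odd_of_double hNH (by omega) (hQH hq) ?_
      have hd := Subgroup.orderOf_dvd_natCard _ hq
      rw [card_sylow hcard] at hd
      exact Odd.of_dvd_nat (by decide) hd
    · obtain ⟨L, hLD, hL3, g, hg, hLg⟩ := hline D h9 e
      obtain ⟨z, hzL, hz⟩ : ∃ z ∈ L, z ≠ 1 := by
        by_contra hall
        push Not at hall
        rw [(eq_bot_iff_forall L).2 hall, card_bot] at hL3
        omega
      set H' := H.map (MulAut.conj g).toMonoidHom with hH'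
      have hcH' : Nat.card H' = 432 := by
        rw [hH', card_map_of_injective (MulAut.conj g).injective, e]
      have hzH' : z ∈ H' := hLg hzL
      have hzp : IsPGroup 3 (zpowers (⟨z, hzH'⟩ : H')) := by
        refine IsPGroup.of_card (n := 1) ?_
        rw [Nat.card_zpowers, Subgroup.orderOf_mk, pow_one]
        have hd : orderOf z ∣ 3 := hL3 ▸ Subgroup.orderOf_dvd_natCard _ hzL
        exact ((Nat.dvd_prime Nat.prime_three).1 hd).resolve_left (fun h1 => hz (orderOf_eq_one_iff.1 h1))
      obtain ⟨S, hS⟩ := hzp.exists_le_sylow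
      have hcS : Nat.card (S : Subgroup H') = 27 :=
        card_sylow_eq (a := 3) (m := 16) (by rw [hcH']; norm_num) (by norm_num) S
      have hSG : Nat.card ((S : Subgroup H').map H'.subtype) =
          3 ^ (Nat.card G).factorization 3 := by
        rw [card_map_of_injective (subtype_injective H'), hcS, hcard,
          show 5616 = 3 ^ 3 * 208 by norm_num, Nat.factorization_mul (by norm_num) (by norm_num),
          Finsupp.add_apply, Nat.Prime.factorization_pow (by norm_num),
          Nat.factorization_eq_zero_of_not_dvd (by norm_num : ¬ 3 ∣ 208)]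
        simp
      let R : Sylow 3 G := Sylow.ofCard _ hSG
      have hzR : z ∈ (R : Subgroup G) := ⟨_, hS (mem_zpowers _), rfl⟩
      have hRH : (R : Subgroup G) ≤ H :=
        (hkey z (hLD hzL) hz R hzR).trans (centralizer_le_normalizer _)
      have hd := card_dvd_of_le (le_inf hRH (map_subtype_le _ : (R : Subgroup G) ≤ H'))
      rw [card_inter_conj hcard e hg, card_sylow hcard] at hd
      omega
  · exact h208 h

/-- The Sylow 3-subgroups of a simple group of order 5616 are not abelian. -/
theorem comm_absurd (P : Sylow 3 G)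
    (hc : ∀ a ∈ (P : Subgroup G), ∀ b ∈ (P : Subgroup G), Commute a b) : False :=
  comm_absurd_of hcard
    (fun _ hD hN =>
      let ⟨L, h1, h2, _, _, h5⟩ := exists_line hcard hD hN
      ⟨L, h1, h2, h5⟩)
    (fun _ _ _ hR hN hne hP hQ =>
      no_normal_line_of hcard (fun _ hD hN => exists_line hcard hD hN) hR hN hne hP hQ)
    P hc

end Cfsg.Agent.SmallS16.L33
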