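import Cfsg.Agent.SmallS16.L33Nonab
import Cfsg.Agent.SmallS16.L33Abelian

/-!
# Simple groups of order 5616 are isomorphic
-/

set_option autoImplicit false

universe u v

namespace Cfsg.Agent.SmallS16

open L33

theorem exists_planeData_5616 {G : Type u} [Group G] [Finite G] [IsSimpleGroup G]
    (hcard : Nat.card G = 5616) : ∃ E : Subgroup G, L33Rec.PlaneData E := by
  obtain ⟨P⟩ := (inferInstance : Nonempty (Sylow 3 G))
  by_cases hP : L33.Nab P
  · exact exists_planeData_of_nab hcard hP
  · exact (comm_absurd hcard P (not_not.mp hP)).elim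

/-- Two simple groups of order 5616 are isomorphic. -/
theorem mulEquiv_5616 {G : Type u} [Group G] [Finite G] [IsSimpleGroup G] {H : Type v} [Group H]
    [Finite H] [IsSimpleGroup H] (hG : Nat.card G = 5616) (hH : Nat.card H = 5616) :
    Nonempty (G ≃* H) := by
  obtain ⟨E, hE⟩ := exists_planeData_5616 hG
  obtain ⟨F, hF⟩ := exists_planeData_5616 hH
  obtain ⟨e⟩ := L33Rec.nonempty_mulEquiv_model hG hE
  obtain ⟨f⟩ := L33Rec.nonempty_mulEquiv_model hH hF
  exact ⟨e.trans f.symm⟩

end Cfsg.Agent.SmallS16
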