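import Cfsg.Agent.L33Rec.Basic
import Cfsg.Agent.Lib.SmallGroups.Basic

/-!
# Arithmetic of the subgroups containing a Sylow 3-subgroup in a simple group of order 5616
-/

set_option autoImplicit false
set_option linter.style.haveILetI false

namespace Cfsg.Agent.SmallS16.L33

open Subgroup SmallGroups
open scoped Pointwise

variable {G : Type*} [Group G] [Finite G] [IsSimpleGroup G] (hcard : Nat.card G = 5616)

omit [Finite G] in
theorem normalizer_ne_top {X : Subgroup G} (h1 : X ≠ ⊥) (h2 : X ≠ ⊤) :
    normalizer (X : Set G) ≠ ⊤ := fun h =>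
  h1 ((Subgroup.normalizer_eq_top_iff.1 h).eq_bot_or_eq_top.resolve_right h2)

include hcard

theorem not_comm : ¬ IsMulCommutative G :=
  not_comm_of_not_prime (by rw [hcard]; norm_num)

theorem card_mem {K : Subgroup G} (hK : K ≠ ⊤) (h27 : 27 ∣ Nat.card K) :
    Nat.card K = 27 ∨ Nat.card K = 54 ∨ Nat.card K = 108 ∨ Nat.card K = 216 ∨
      Nat.card K = 351 ∨ Nat.card K = 432 := by
  have hm := K.card_mul_index
  rw [hcard] at hm
  have h8 := L33Rec.eight_lt_index hcard hK
  obtain ⟨c, hc⟩ := h27
  have hi : K.index ∣ 208 := ⟨c, by rw [hc] at hm; linarith⟩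
  have hmem : K.index ∈ Nat.divisors 208 := Nat.mem_divisors.2 ⟨hi, by norm_num⟩
  rw [show Nat.divisors 208 = {1, 2, 4, 8, 13, 16, 26, 52, 104, 208} by decide +kernel] at hmem
  simp only [Finset.mem_insert, Finset.mem_singleton] at hmem
  rcases hmem with h | h | h | h | h | h | h | h | h | h <;> rw [h] at hm h8 <;> omega

omit [IsSimpleGroup G] in
theorem card_sylow (P : Sylow 3 G) : Nat.card (P : Subgroup G) = 27 := by
  haveI : Fact (Nat.Prime 3) := ⟨Nat.prime_three⟩
  exact card_sylow_eq (a := 3) (m := 208) (by rw [hcard]; norm_num) (by norm_num) P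

theorem card_sylow_cases :
    Nat.card (Sylow 3 G) = 13 ∨ Nat.card (Sylow 3 G) = 52 ∨ Nat.card (Sylow 3 G) = 208 := by
  classical
  haveI : Fact (Nat.Prime 3) := ⟨Nat.prime_three⟩
  haveI : Fact (Nat.Prime 13) := ⟨by norm_num⟩
  have hG := not_comm hcard
  have h1 := card_sylow_ne_one hG (p := 3) (by rw [hcard]; norm_num)
  have hmem := card_sylow_mem_list (G := G) (p := 3) (a := 3) (m := 208)
    (by rw [hcard]; norm_num) (by norm_num)
  rw [show (Nat.divisors 208).filter (fun d => d % 3 = 1) = {1, 4, 13, 16, 52, 208} by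
    decide +kernel] at hmem
  simp only [Finset.mem_insert, Finset.mem_singleton] at hmem
  obtain ⟨P⟩ := (inferInstance : Nonempty (Sylow 3 G))
  set N := normalizer ((P : Subgroup G) : Set G) with hN
  have hindex : N.index = Nat.card (Sylow 3 G) := P.card_eq_index_normalizer.symm
  have hNtop : N ≠ ⊤ := fun h => h1 (by rw [← hindex, h, index_top])
  rcases hmem with h | h | h | h | h | h
  · exact absurd h h1
  · exact absurd (L33Rec.eight_lt_index hcard hNtop) (by rw [hindex, h]; norm_num)
  · exact Or.inl h
  · exfalso
    have hcN : Nat.card N = 351 := by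
      have := N.card_mul_index
      rw [hindex, h, hcard] at this
      omega
    obtain ⟨x, hx⟩ := exists_prime_orderOf_dvd_card' (G := N) 13 (by rw [hcN]; norm_num)
    have hx13 : orderOf (x : G) = 13 := by rwa [Subgroup.orderOf_coe]
    -- `x` fixes every Sylow subgroup
    have hfix : ∀ R : Sylow 3 G, (x : G) • R = R := by
      intro R
      by_cases hR : R = P
      · exact hR ▸ Sylow.smul_eq_iff_mem_normalizer.2 x.2
      have hlen : Nat.card (MulAction.orbit N R) ∣ 351 := by
        rw [Nat.card_coe_set_eq, ← MulAction.index_stabilizer, ← hcN]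
        exact index_dvd_card _
      have hle : Nat.card (MulAction.orbit N R) ≤ 15 := by
        have hsub : MulAction.orbit N R ⊆ ({P}ᶜ : Set (Sylow 3 G)) := by
          rintro _ ⟨n, rfl⟩ (hn : (n : G) • R = P)
          exact hR (by
            rw [← inv_smul_smul (n : G) R, hn]
            exact Sylow.smul_eq_iff_mem_normalizer.2 (inv_mem n.2))
        have hcompl := Set.ncard_compl ({P} : Set (Sylow 3 G))
        rw [Set.ncard_singleton, h] at hcompl
        rw [Nat.card_coe_set_eq]
        exact (Set.ncard_le_ncard hsub).trans hcompl.le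
      have hnot : Nat.card (MulAction.orbit N R) ≠ 1 ∧ Nat.card (MulAction.orbit N R) ≠ 13 := by
        constructor <;> intro hc <;> apply hR <;>
          rw [Nat.card_coe_set_eq, ← MulAction.index_stabilizer] at hc <;>
          have hS := (MulAction.stabilizer N R).card_mul_index <;> rw [hc, hcN] at hS
        all_goals
          set S := (MulAction.stabilizer N R).map N.subtype with hSdef
          have hcS : Nat.card S = Nat.card (MulAction.stabilizer N R) :=
            card_map_of_injective (subtype_injective N)
          have hfixP : (P : Subgroup G) ≤ S → (R = P) := fun hle' => by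
            have hPR : (P : Subgroup G) ≤ normalizer ((R : Subgroup G) : Set G) := fun g hg => by
              obtain ⟨s, hs, rfl⟩ := hle' hg
              exact Sylow.smul_eq_iff_mem_normalizer.1 (MulAction.mem_stabilizer_iff.1 hs)
            refine Sylow.ext (P.3 R.2 ?_)
            have h2 : (P : Subgroup G) ⊓ normalizer ((R : Subgroup G) : Set G) =
                (P : Subgroup G) ⊓ R := P.2.inf_normalizer_sylow R
            rw [inf_eq_left.2 hPR] at h2
            exact h2.le.trans inf_le_right
        · refine hfixP fun g hg => ⟨⟨g, le_normalizer hg⟩, ?_, rfl⟩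
          rw [SetLike.mem_coe, index_eq_one.1 hc]
          exact mem_top _
        · have hSp : IsPGroup 3 S := IsPGroup.of_card (n := 3) (by rw [hcS]; omega)
          have hSN : S ≤ N := map_subtype_le _
          have h2 : S ⊓ normalizer ((P : Subgroup G) : Set G) = S ⊓ P :=
            hSp.inf_normalizer_sylow P
          rw [← hN, inf_eq_left.2 hSN] at h2
          refine hfixP (eq_of_le_of_card_ge (h2.le.trans inf_le_right) ?_).ge
          rw [hcS, card_sylow hcard P]
          omega
      have hlt : Nat.card (MulAction.orbit N R) < 13 := by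
        have hd : Nat.card (MulAction.orbit N R) ∈ Nat.divisors 351 :=
          Nat.mem_divisors.2 ⟨hlen, by norm_num⟩
        rw [show Nat.divisors 351 = {1, 3, 9, 13, 27, 39, 117, 351} by decide +kernel] at hd
        simp only [Finset.mem_insert, Finset.mem_singleton] at hd
        omega
      have horb : MulAction.orbit (zpowers (x : G)) R ⊆ MulAction.orbit N R := by
        rintro _ ⟨y, rfl⟩
        exact ⟨⟨y, zpowers_le.2 x.2 y.2⟩, rfl⟩
      have hle' := Set.ncard_le_ncard horb
      rw [Nat.card_coe_set_eq] at hlt
      have hdvd : (MulAction.orbit (zpowers (x : G)) R).ncard ∣ 13 := by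
        rw [← MulAction.index_stabilizer, ← hx13, ← Nat.card_zpowers]
        exact index_dvd_card _
      rcases (Nat.dvd_prime (by norm_num)).1 hdvd with h13 | h13
      · obtain ⟨a, ha⟩ := Set.ncard_eq_one.1 h13
        have e1 : (x : G) • R ∈ MulAction.orbit (zpowers (x : G)) R :=
          ⟨⟨x, mem_zpowers _⟩, rfl⟩
        have e2 : R ∈ MulAction.orbit (zpowers (x : G)) R := MulAction.mem_orbit_self R
        rw [ha, Set.mem_singleton_iff] at e1 e2
        rw [e1, ← e2]
      · omega
    have hker : (x : G) ∈ (MulAction.toPermHom G (Sylow 3 G)).ker :=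
      Equiv.ext fun R => hfix R
    rcases (MulAction.toPermHom G (Sylow 3 G)).normal_ker.eq_bot_or_eq_top with hk | hk
    · rw [hk, mem_bot] at hker
      rw [hker, orderOf_one] at hx13
      norm_num at hx13
    · refine hNtop (top_le_iff.1 fun g _ => Sylow.smul_eq_iff_mem_normalizer.1 ?_)
      have hg : g ∈ (MulAction.toPermHom G (Sylow 3 G)).ker := by
        rw [hk]
        exact mem_top g
      exact Equiv.congr_fun (MonoidHom.mem_ker.1 hg) P
  · exact Or.inr (Or.inl h)
  · exact Or.inr (Or.inr h)

theorem not_card_351 (K : Subgroup G) : Nat.card K ≠ 351 := by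
  intro hK
  haveI : Fact (Nat.Prime 3) := ⟨Nat.prime_three⟩
  haveI : Fact (Nat.Prime 13) := ⟨by norm_num⟩
  obtain ⟨S⟩ := (inferInstance : Nonempty (Sylow 13 K))
  have hmK : Nat.card K = 13 ^ 1 * 27 := by rw [hK]; norm_num
  have hS : Nat.card (S : Subgroup K) = 13 :=
    (card_sylow_eq hmK (by norm_num) S).trans (pow_one 13)
  have hn := card_sylow_mem_list hmK (by norm_num)
  rw [show (Nat.divisors 27).filter (fun d => d % 13 = 1) = {1, 27} by decide +kernel] at hn
  simp only [Finset.mem_insert, Finset.mem_singleton] at hn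
  have key : ∀ X : Subgroup G, X ≤ K → (X.subgroupOf K).Normal →
      K ≤ normalizer (X : Set G) := fun X hX hn =>
    @Subgroup.le_normalizer_of_normal_subgroupOf G _ X K hn hX
  rcases hn with hn | hn
  · have hnorm := normal_of_card_sylow_eq_one hn S
    have hSG : Nat.card ((S : Subgroup K).map K.subtype) = 13 ^ (Nat.card G).factorization 13 := by
      rw [card_map_of_injective (subtype_injective K), hS, hcard,
        show 5616 = 13 ^ 1 * 432 by norm_num, Nat.factorization_mul (by norm_num) (by norm_num),
        Finsupp.add_apply, Nat.Prime.factorization_pow (by norm_num),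
        Nat.factorization_eq_zero_of_not_dvd (by norm_num : ¬ 13 ∣ 432)]
      simp
    let T : Sylow 13 G := Sylow.ofCard _ hSG
    have hT : K ≤ normalizer ((T : Subgroup G) : Set G) := by
      refine key _ (map_subtype_le _) ?_
      have e : ((T : Subgroup G)).subgroupOf K = (S : Subgroup K) :=
        comap_map_eq_self_of_injective (subtype_injective K) _
      rw [e]
      exact hnorm
    have h1 := card_sylow_ne_one (not_comm hcard) (p := 13) (by rw [hcard]; norm_num)
    have hmem := card_sylow_mem_list (G := G) (p := 13) (a := 1) (m := 432)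
      (by rw [hcard]; norm_num) (by norm_num)
    rw [show (Nat.divisors 432).filter (fun d => d % 13 = 1) = {1, 27, 144} by decide +kernel]
      at hmem
    simp only [Finset.mem_insert, Finset.mem_singleton] at hmem
    have hd := card_dvd_of_le hT
    have hm := card_normalizer_mul T
    rw [hcard] at hm
    rw [hK] at hd
    rcases hmem with h | h | h
    · exact h1 h
    all_goals
      rw [h] at hm
      obtain ⟨c, hc⟩ := hd
      omega
  · have hN : Nat.card (normalizer ((S : Subgroup K) : Set K)) = 13 :=
      normalizer_conj_eq_card S hn (by rw [hK])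
    have hSN : (S : Subgroup K) = normalizer ((S : Subgroup K) : Set K) :=
      eq_of_le_of_card_ge le_normalizer (by rw [hN, hS])
    haveI : IsCyclic (S : Subgroup K) := isCyclic_of_prime_card hS
    have hNC : normalizer ((S : Subgroup K) : Set K) ≤ centralizer ((S : Subgroup K) : Set K) := by
      rw [← hSN]
      intro a ha b hb
      letI := IsCyclic.commGroup (α := (S : Subgroup K))
      exact congrArg Subtype.val (mul_comm (⟨b, hb⟩ : (S : Subgroup K)) ⟨a, ha⟩)
    have hc := MonoidHom.ker_transferSylow_isComplement' S hNC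
    set Z := (MonoidHom.transferSylow S hNC).ker
    have hZ : Nat.card Z = 27 := by
      have := hc.card_mul_card
      rw [hS, hK] at this
      omega
    have hZG : Nat.card (Z.map K.subtype) = 3 ^ (Nat.card G).factorization 3 := by
      rw [card_map_of_injective (subtype_injective K), hZ, hcard,
        show 5616 = 3 ^ 3 * 208 by norm_num, Nat.factorization_mul (by norm_num) (by norm_num),
        Finsupp.add_apply, Nat.Prime.factorization_pow (by norm_num),
        Nat.factorization_eq_zero_of_not_dvd (by norm_num : ¬ 3 ∣ 208)]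
      simp
    let T : Sylow 3 G := Sylow.ofCard _ hZG
    have hT : K ≤ normalizer ((T : Subgroup G) : Set G) := by
      refine key _ (map_subtype_le _) ?_
      have e : ((T : Subgroup G)).subgroupOf K = Z :=
        comap_map_eq_self_of_injective (subtype_injective K) _
      rw [e]
      infer_instance
    have hd := card_dvd_of_le hT
    have hm := card_normalizer_mul T
    rw [hcard] at hm
    rw [hK] at hd
    obtain ⟨c, hc⟩ := hd
    rcases card_sylow_cases hcard with h | h | h <;> rw [h] at hm <;> omega

theorem card_of_two_sylow {K : Subgroup G} (hK : K ≠ ⊤) {P Q : Sylow 3 G} (hne : P ≠ Q)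
    (hP : (P : Subgroup G) ≤ K) (hQ : (Q : Subgroup G) ≤ K) :
    Nat.card K = 108 ∨ Nat.card K = 216 ∨ Nat.card K = 432 := by
  haveI : Fact (Nat.Prime 3) := ⟨Nat.prime_three⟩
  have h27 : 27 ∣ Nat.card K := card_sylow hcard P ▸ card_dvd_of_le hP
  rcases card_mem hcard hK h27 with h | h | h | h | h | h
  · have e : ∀ R : Sylow 3 G, (R : Subgroup G) ≤ K → (R : Subgroup G) = K := fun R hR =>
      eq_of_le_of_card_ge hR (by rw [h, card_sylow hcard R])
    exact absurd (Sylow.ext ((e P hP).trans (e Q hQ).symm)) hne
  · refine absurd (Sylow.ext ?_) hne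
    refine (eq_of_le_of_card_ge (fun q hq => ?_) (by rw [card_sylow hcard, card_sylow hcard])).symm
    refine L33Rec.mem_of_odd_of_double hP (by rw [h, card_sylow hcard]) (hQ hq) ?_
    have hd := Subgroup.orderOf_dvd_natCard _ hq
    rw [card_sylow hcard] at hd
    exact Odd.of_dvd_nat (by decide) hd
  · exact Or.inl h
  · exact Or.inr (Or.inl h)
  · exact absurd h (not_card_351 hcard K)
  · exact Or.inr (Or.inr h)

omit [IsSimpleGroup G] in
theorem four_sylow {K : Subgroup G} (h : Nat.card K = 108 ∨ Nat.card K = 216) {P Q : Sylow 3 G}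
    (hne : P ≠ Q) (hP : (P : Subgroup G) ≤ K) (hQ : (Q : Subgroup G) ≤ K) :
    Nat.card {R : Sylow 3 G // (R : Subgroup G) ≤ K} = 4 := by
  haveI : Fact (Nat.Prime 3) := ⟨Nat.prime_three⟩
  have e : {R : Sylow 3 G // (R : Subgroup G) ≤ K} ≃ Sylow 3 K := by
    refine Equiv.ofBijective (fun R => R.1.subtype R.2) ⟨fun R R' hRR => ?_, fun S => ?_⟩
    · exact Subtype.ext (Sylow.subtype_injective hRR)
    · have hS : Nat.card (S : Subgroup K) = 27 := by
        rcases h with h | h
        · exact card_sylow_eq (a := 3) (m := 4) (by rw [h]; norm_num) (by norm_num) S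
        · exact card_sylow_eq (a := 3) (m := 8) (by rw [h]; norm_num) (by norm_num) S
      have hSG : Nat.card ((S : Subgroup K).map K.subtype) =
          3 ^ (Nat.card G).factorization 3 := by
        rw [card_map_of_injective (subtype_injective K), hS, hcard,
          show 5616 = 3 ^ 3 * 208 by norm_num, Nat.factorization_mul (by norm_num) (by norm_num),
          Finsupp.add_apply, Nat.Prime.factorization_pow (by norm_num),
          Nat.factorization_eq_zero_of_not_dvd (by norm_num : ¬ 3 ∣ 208)]
        simp
      refine ⟨⟨Sylow.ofCard _ hSG, map_subtype_le _⟩, Sylow.ext ?_⟩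
      exact comap_map_eq_self_of_injective (subtype_injective K) _
  rw [Nat.card_congr e]
  have hn : Nat.card (Sylow 3 K) ≠ 1 := by
    rw [← Nat.card_congr e]
    intro h1
    exact hne (congrArg Subtype.val ((Nat.card_eq_one_iff_unique.1 h1).1.elim ⟨P, hP⟩ ⟨Q, hQ⟩))
  rcases h with h | h
  · have hmem := card_sylow_mem_list (G := K) (p := 3) (a := 3) (m := 4) (by rw [h]; norm_num)
      (by norm_num)
    rw [show (Nat.divisors 4).filter (fun d => d % 3 = 1) = {1, 4} by decide +kernel] at hmem
    simp only [Finset.mem_insert, Finset.mem_singleton] at hmem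
    omega
  · have hmem := card_sylow_mem_list (G := K) (p := 3) (a := 3) (m := 8) (by rw [h]; norm_num)
      (by norm_num)
    rw [show (Nat.divisors 8).filter (fun d => d % 3 = 1) = {1, 4} by decide +kernel] at hmem
    simp only [Finset.mem_insert, Finset.mem_singleton] at hmem
    omega

theorem exists_cut (h : Nat.card (Sylow 3 G) ≠ 208) (P : Sylow 3 G) :
    ∃ Q : Sylow 3 G, P ≠ Q ∧ Nat.card ↥((P : Subgroup G) ⊓ Q) = 9 := by
  haveI : Fact (Nat.Prime 3) := ⟨Nat.prime_three⟩
  obtain ⟨P₀, R, hne, hidx⟩ := exists_small_index_inter (G := G) (p := 3) 2 (by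
    rcases card_sylow_cases hcard with e | e | e
    · rw [e]; decide
    · rw [e]; decide
    · exact absurd e h)
  have hm := ((R : Subgroup G).subgroupOf (P₀ : Subgroup G)).card_mul_index
  rw [card_sylow hcard] at hm
  have hinter : Nat.card ↥((P₀ : Subgroup G) ⊓ R) =
      Nat.card ((R : Subgroup G).subgroupOf (P₀ : Subgroup G)) := by
    rw [← card_map_of_injective (subtype_injective (P₀ : Subgroup G))
      (K := (R : Subgroup G).subgroupOf (P₀ : Subgroup G)), subgroupOf_map_subtype, inf_comm]
  have h9 : Nat.card ↥((P₀ : Subgroup G) ⊓ R) = 9 := by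
    rw [hinter]
    obtain ⟨j, hj⟩ := P₀.2.index ((R : Subgroup G).subgroupOf (P₀ : Subgroup G))
    rw [hj] at hidx hm
    have hj1 : j ≤ 1 := (Nat.pow_le_pow_iff_right (by norm_num)).1 hidx
    interval_cases j
    · exfalso
      refine hne (Sylow.ext (eq_of_le_of_card_ge (fun g hg => ?_)
        (by rw [card_sylow hcard, card_sylow hcard])))
      have htop := index_eq_one.1 hj
      exact mem_subgroupOf.1 (htop ▸ mem_top (⟨g, hg⟩ : (P₀ : Subgroup G)))
    · omega
  obtain ⟨g, hg⟩ := MulAction.exists_smul_eq G P₀ P
  refine ⟨g • R, fun e => hne (MulAction.injective g (hg.trans e)), ?_⟩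
  rw [← hg, Sylow.coe_subgroup_smul, Sylow.coe_subgroup_smul, ← Subgroup.smul_inf]
  rw [← h9]
  exact (Nat.card_congr (Subgroup.equivSMul _ _).toEquiv).symm

end Cfsg.Agent.SmallS16.L33
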