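import Cfsg.Agent.SmallS16.L33Arith
import Cfsg.Agent.SmallS16.L33Base
import Cfsg.Agent.SmallS16.L33Plane
import Cfsg.Agent.SmallS16.L33Line
import Cfsg.Agent.L33Rec.Main
import Cfsg.Agent.Lib.Transfer.Focal
import Cfsg.Agent.Lib.CharCore.Burnside

/-!
# A simple group of order 5616 with non-abelian Sylow 3-subgroups has plane data
-/

set_option autoImplicit false
set_option linter.unusedSectionVars false

namespace Cfsg.Agent.SmallS16.L33

open Subgroup
open Cfsg.Agent.Involution (mem_centralizer_singleton)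

variable {G : Type*} [Group G] [Finite G] [IsSimpleGroup G] (hcard : Nat.card G = 5616)

/-- The centre of `P`, as a subgroup of `G`. -/
def zc (P : Subgroup G) : Subgroup G := P ⊓ centralizer (P : Set G)

theorem zc_le (P : Subgroup G) : zc P ≤ P := inf_le_left

theorem commute_zc {P : Subgroup G} {z y : G} (hz : z ∈ zc P) (hy : y ∈ P) : Commute y z :=
  mem_centralizer_iff.mp (mem_inf.mp hz).2 y hy

theorem mem_zc_iff {P : Subgroup G} {z : G} :
    z ∈ zc P ↔ z ∈ P ∧ ∀ y ∈ P, y * z = z * y := by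
  rw [zc, mem_inf, mem_centralizer_iff]
  rfl

theorem conj_zc {P : Subgroup G} {g z : G} (hg : g ∈ normalizer (P : Set G)) (hz : z ∈ zc P) :
    g * z * g⁻¹ ∈ zc P := by
  refine mem_zc_iff.mpr ⟨(mem_normalizer_iff.mp hg z).mp (zc_le P hz), fun y hy => ?_⟩
  have h1 : g⁻¹ * y * g ∈ P := by
    have := (mem_normalizer_iff.mp (inv_mem hg) y).mp hy
    simpa using this
  calc y * (g * z * g⁻¹) = g * ((g⁻¹ * y * g) * z) * g⁻¹ := by group
    _ = g * (z * (g⁻¹ * y * g)) * g⁻¹ := by rw [(commute_zc hz h1).eq]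
    _ = g * z * g⁻¹ * y := by group

theorem normalizer_le_normalizer_zc (P : Subgroup G) :
    normalizer (P : Set G) ≤ normalizer (zc P : Set G) :=
  fun _ hg => mem_normalizer_fintype fun _ hz => conj_zc hg hz

theorem smul_coe (g : G) (P : Sylow 3 G) :
    ((g • P : Sylow 3 G) : Subgroup G) = (P : Subgroup G).map (MulAut.conj g).toMonoidHom := rfl

theorem conj_mem_smul {g x : G} {P : Sylow 3 G} (hx : x ∈ (P : Subgroup G)) :
    g * x * g⁻¹ ∈ ((g • P : Sylow 3 G) : Subgroup G) := by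
  rw [smul_coe]; exact ⟨x, hx, rfl⟩

theorem comm_transfer {P Q : Sylow 3 G}
    (hP : ∀ a ∈ (P : Subgroup G), ∀ b ∈ (P : Subgroup G), Commute a b) :
    ∀ a ∈ (Q : Subgroup G), ∀ b ∈ (Q : Subgroup G), Commute a b := by
  haveI : Fact (Nat.Prime 3) := ⟨Nat.prime_three⟩
  obtain ⟨g, rfl⟩ := MulAction.exists_smul_eq G P Q
  intro a ha b hb
  rw [smul_coe] at ha hb
  obtain ⟨x, hx, rfl⟩ := ha
  obtain ⟨y, hy, rfl⟩ := hb
  exact (hP x hx y hy).map (MulAut.conj g).toMonoidHom

/-- Non-commutativity of a Sylow subgroup. -/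
def Nab (P : Sylow 3 G) : Prop :=
  ¬ ∀ a ∈ (P : Subgroup G), ∀ b ∈ (P : Subgroup G), Commute a b

include hcard

theorem eq_of_card_nine_subset {A B : Subgroup G} (hA : Nat.card A = 9) (hB : Nat.card B = 9)
    (h : A ≤ B) : A = B :=
  eq_of_le_of_card_ge h (by omega)

theorem mul_self_comm_nine {D : Subgroup G} (hD : Nat.card D = 9) {x y : G} (hx : x ∈ D)
    (hy : y ∈ D) : Commute x y := by
  haveI : Fact (Nat.Prime 3) := ⟨Nat.prime_three⟩
  exact congrArg Subtype.val
    (IsPGroup.commutative_of_card_eq_prime_sq (p := 3) (G := D) (by rw [hD]; rfl) ⟨x, hx⟩ ⟨y, hy⟩)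

theorem card_dvd_27 {P : Sylow 3 G} {K : Subgroup G} (hK : K ≤ (P : Subgroup G)) :
    ∃ k, k ≤ 3 ∧ Nat.card K = 3 ^ k := by
  have h := card_dvd_of_le hK
  rw [card_sylow hcard P, show (27 : ℕ) = 3 ^ 3 from rfl] at h
  exact (Nat.dvd_prime_pow Nat.prime_three).mp h

theorem card_zc {P : Sylow 3 G} (hP : Nab P) : Nat.card (zc (P : Subgroup G)) = 3 := by
  obtain ⟨k, hk, he⟩ := card_dvd_27 hcard (zc_le (P : Subgroup G))
  obtain ⟨z, hz, hoz, hzc⟩ := L33Rec.exists_central_three (card_sylow hcard P)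
  have h1 : 3 ∣ Nat.card (zc (P : Subgroup G)) :=
    hoz.symm.dvd.trans ((zc (P : Subgroup G)).orderOf_dvd_natCard
      (mem_zc_iff.mpr ⟨hz, fun y hy => hzc y hy⟩))
  rw [he] at h1 ⊢
  have h27 := card_sylow hcard P
  interval_cases k
  · norm_num at h1
  · rfl
  · exfalso
    exact hP (L33Rec.commute_of_central_nine (zc_le (P : Subgroup G)) (by rw [he]; rfl) h27
      fun x hx p hp => (commute_zc hx hp).symm)
  · exfalso
    have : zc (P : Subgroup G) = (P : Subgroup G) :=
      eq_of_le_of_card_ge (zc_le _) (by rw [he, h27]; norm_num)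
    exact hP fun a ha b hb => commute_zc (this.symm ▸ hb) ha

theorem not_central_nine {P : Sylow 3 G} (hP : Nab P) {D : Subgroup G}
    (hD : D ≤ (P : Subgroup G)) (h9 : Nat.card D = 9) :
    ∃ g ∈ (P : Subgroup G), ∃ x ∈ D, g * x ≠ x * g := by
  by_contra h
  push Not at h
  exact hP (L33Rec.commute_of_central_nine hD h9 (card_sylow hcard P)
    fun x hx p hp => (h p hp x hx).symm)

theorem zc_le_nine {P : Sylow 3 G} (hP : Nab P) {D : Subgroup G}
    (hD : D ≤ (P : Subgroup G)) (h9 : Nat.card D = 9) : zc (P : Subgroup G) ≤ D := by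
  intro z hz
  by_contra hzD
  obtain ⟨g, hg, x, hx, hne⟩ := not_central_nine hcard hP hD h9
  set K : Subgroup G := (P : Subgroup G) ⊓ centralizer ({x} : Set G)
  have hDK : D ≤ K :=
    le_inf hD fun y hy => mem_centralizer_singleton.mpr (mul_self_comm_nine hcard h9 hy hx).eq
  have hzK : z ∈ K :=
    mem_inf.mpr ⟨zc_le _ hz, mem_centralizer_singleton.mpr (commute_zc hz (hD hx)).symm.eq⟩
  obtain ⟨k, hk, he⟩ := card_dvd_27 hcard (inf_le_left : K ≤ (P : Subgroup G))
  have hlt : 9 < Nat.card K := by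
    refine lt_of_le_of_ne (h9 ▸ Nat.le_of_dvd Nat.card_pos (card_dvd_of_le hDK)) fun h => hzD ?_
    exact (eq_of_le_of_card_ge hDK (by omega)).symm ▸ hzK
  rw [he] at hlt
  interval_cases k <;> try omega
  have : K = (P : Subgroup G) :=
    eq_of_le_of_card_ge inf_le_left (by rw [he, card_sylow hcard P]; norm_num)
  exact hne (mem_centralizer_singleton.mp (mem_inf.mp (this.symm ▸ hg : g ∈ K)).2)

theorem le_normalizer_nine {P : Sylow 3 G} {D : Subgroup G}
    (hD : D ≤ (P : Subgroup G)) (h9 : Nat.card D = 9) :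
    (P : Subgroup G) ≤ normalizer (D : Set G) :=
  fun _ hp => mem_normalizer_fintype fun _ hx =>
    L33Rec.conj_mem_of_nine hD h9 (card_sylow hcard P) hp hx

theorem ne_bot_top {D : Subgroup G} {n : ℕ} (h : Nat.card D = n) (h1 : n ≠ 1) (h2 : n ≠ 5616) :
    D ≠ ⊥ ∧ D ≠ ⊤ := by
  constructor
  · rintro rfl; rw [Subgroup.card_bot] at h; exact h1 h.symm
  · rintro rfl; rw [card_top, hcard] at h; exact h2 h.symm

theorem normalizer_small_ne_top {D : Subgroup G} {n : ℕ} (h : Nat.card D = n) (h1 : n ≠ 1)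
    (h2 : n ≠ 5616) : normalizer (D : Set G) ≠ ⊤ :=
  normalizer_ne_top (ne_bot_top hcard h h1 h2).1 (ne_bot_top hcard h h1 h2).2

theorem exists_sylow_le {K X : Subgroup G} (hK : 27 ∣ Nat.card K) (hX : X ≤ K) {m : ℕ}
    (hXc : Nat.card X = 3 ^ m) (hm : m ≤ 3) :
    ∃ R : Sylow 3 G, X ≤ (R : Subgroup G) ∧ (R : Subgroup G) ≤ K := by
  haveI : Fact (Nat.Prime 3) := ⟨Nat.prime_three⟩
  obtain ⟨R, hR, hXR⟩ := Sylow.exists_subgroup_card_pow_prime_le 3 (G := K) (m := 3)
    (by simpa using hK) (X.subgroupOf K)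
    (by rw [Nat.card_congr (subgroupOfEquivOfLe hX).toEquiv, hXc]) hm
  have hc : Nat.card (R.map K.subtype) = 3 ^ 3 := by
    rw [← Nat.card_congr (R.equivMapOfInjective K.subtype K.subtype_injective).toEquiv, hR]
  refine ⟨Sylow.ofCard (R.map K.subtype) (hc.trans ?_), ?_, map_subtype_le R⟩
  · obtain ⟨P₀⟩ := (inferInstance : Nonempty (Sylow 3 G))
    rw [← P₀.card_eq_multiplicity, card_sylow hcard P₀]
    rfl
  · intro x hx
    exact ⟨⟨x, hX hx⟩, hXR hx, rfl⟩

/-- If a Sylow subgroup is normal in a normal subgroup of `K`, it is normal in `K`. -/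
theorem le_normalizer_of_normal_sup {P : Sylow 3 G} {K X : Subgroup G}
    (hXK : K ≤ normalizer (X : Set G)) (hPX : (P : Subgroup G) ≤ X)
    (hX : X ≤ normalizer ((P : Subgroup G) : Set G)) :
    K ≤ normalizer ((P : Subgroup G) : Set G) := by
  haveI : Fact (Nat.Prime 3) := ⟨Nat.prime_three⟩
  intro g hg
  refine (Sylow.smul_eq_iff_mem_normalizer (P := P)).mp ?_
  have hle : ((g • P : Sylow 3 G) : Subgroup G) ≤ normalizer ((P : Subgroup G) : Set G) := by
    rw [smul_coe]
    rintro _ ⟨x, hx, rfl⟩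
    exact hX ((mem_normalizer_iff.mp (hXK hg) x).mp (hPX hx))
  apply Sylow.ext
  have h := P.2.inf_normalizer_sylow (g • P)
  have h2 : ((g • P : Sylow 3 G) : Subgroup G) ≤ (P : Subgroup G) := by
    intro x hx
    have hp := (g • P : Sylow 3 G).2.inf_normalizer_sylow P
    exact (mem_inf.mp (hp.le ⟨hx, hle hx⟩)).2
  exact eq_of_le_of_card_ge h2 (by rw [card_sylow hcard, card_sylow hcard])

theorem card_normalizer_cases {P : Sylow 3 G} :
    (Nat.card (Sylow 3 G) = 13 ∧ Nat.card (normalizer ((P : Subgroup G) : Set G)) = 432) ∨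
      (Nat.card (Sylow 3 G) = 52 ∧ Nat.card (normalizer ((P : Subgroup G) : Set G)) = 108) ∨
      (Nat.card (Sylow 3 G) = 208 ∧ Nat.card (normalizer ((P : Subgroup G) : Set G)) = 27) := by
  haveI : Fact (Nat.Prime 3) := ⟨Nat.prime_three⟩
  have h := SmallGroups.card_normalizer_mul P
  rw [hcard] at h
  rcases card_sylow_cases hcard with h1 | h1 | h1 <;> rw [h1] at h ⊢
  · exact Or.inl ⟨rfl, by omega⟩
  · exact Or.inr (Or.inl ⟨rfl, by omega⟩)
  · exact Or.inr (Or.inr ⟨rfl, by omega⟩)

/-- Non-abelian Sylow subgroups: there are not 13 of them. -/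
theorem not_thirteen {P : Sylow 3 G} (hP : Nab P) : Nat.card (Sylow 3 G) ≠ 13 := by
  intro h13
  haveI : Fact (Nat.Prime 3) := ⟨Nat.prime_three⟩
  obtain ⟨-, hH⟩ : _ ∧ Nat.card (normalizer ((P : Subgroup G) : Set G)) = 432 := by
    rcases card_normalizer_cases hcard (P := P) with h | h | h
    · exact h
    all_goals exact absurd h.1 (by omega)
  obtain ⟨Q, hne, h9⟩ := exists_cut hcard (by omega) P
  obtain ⟨g, rfl⟩ := MulAction.exists_smul_eq G P Q
  set H := normalizer ((P : Subgroup G) : Set G)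
  have hgH : g ∉ H := fun h => hne (Sylow.smul_eq_iff_mem_normalizer.mpr h).symm
  obtain ⟨⟨z, hz⟩, hz1'⟩ := ne_bot_iff_exists_ne_one.mp
    (ne_bot_top hcard (card_zc hcard hP) (by norm_num) (by norm_num)).1
  refine hz1' (Subtype.ext (core_eq_bot hcard hH fun u => ?_))
  show z ∈ _
  rw [mem_map_equiv, MulAut.conj_symm_apply]
  by_cases hu : u ∈ H
  · exact mul_mem (mul_mem (inv_mem hu) (le_normalizer (zc_le _ hz))) hu
  · obtain ⟨a, ha, b, hb, rfl⟩ := mem_double hcard hH hgH hu
    have h1 : a⁻¹ * z * a ∈ zc (P : Subgroup G) := by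
      have := conj_zc (inv_mem ha) hz
      simpa using this
    have h2 := (mem_inf.mp (zc_le_nine hcard hP inf_le_left h9 h1)).2
    rw [smul_coe, mem_map_equiv, MulAut.conj_symm_apply] at h2
    rw [show (a * g * b)⁻¹ * z * (a * g * b) = b⁻¹ * (g⁻¹ * (a⁻¹ * z * a) * g) * b by group]
    exact mul_mem (mul_mem (inv_mem hb) (le_normalizer h2)) hb

omit hcard

theorem exists_gen_of_card_three {Z : Subgroup G} (h : Nat.card Z = 3) :
    ∃ z, orderOf z = 3 ∧ zpowers z = Z := by
  haveI : Fact (Nat.Prime 3) := ⟨Nat.prime_three⟩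
  obtain ⟨z, hz⟩ := exists_prime_orderOf_dvd_card' 3 (by rw [h] : 3 ∣ Nat.card Z)
  have hz' : orderOf (z : G) = 3 := by rw [orderOf_submonoid, hz]
  exact ⟨z, hz', eq_of_le_of_card_ge (zpowers_le.mpr z.2) (by rw [h, Nat.card_zpowers, hz'])⟩

theorem zpowers_cases {z x : G} (hz : orderOf z = 3) (hx : x ∈ zpowers z) (h1 : x ≠ 1) :
    x = z ∨ x = z⁻¹ := by
  have h3 : z ^ 3 = 1 := hz ▸ pow_orderOf_eq_one z
  obtain ⟨i, hi, rfl⟩ := L33Rec.exists_pow_of_mem_zpowers h3 hx
  rcases (show i = 0 ∨ i = 1 ∨ i = 2 by omega) with rfl | rfl | rfl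
  · exact absurd (pow_zero z) h1
  · exact Or.inl (pow_one z)
  · exact Or.inr (eq_inv_of_mul_eq_one_left (by rw [← pow_succ, h3]))

theorem conj_pow_pair {z w : G} {b : ℕ} {p : G} (hpz : Commute p z)
    (h : p * w * p⁻¹ = z ^ b * w) (k : ℕ) : p ^ k * w * (p ^ k)⁻¹ = z ^ (k * b) * w := by
  induction k with
  | zero => simp
  | succ k ih =>
    calc p ^ (k + 1) * w * (p ^ (k + 1))⁻¹ = p * (p ^ k * w * (p ^ k)⁻¹) * p⁻¹ := by
          rw [pow_succ']; group
      _ = (p * z ^ (k * b) * p⁻¹) * (p * w * p⁻¹) := by rw [ih]; group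
      _ = z ^ (k * b) * (z ^ b * w) := by rw [L33Rec.conj_eq_iff.mpr (hpz.pow_right _).eq, h]
      _ = _ := by rw [← mul_assoc, ← pow_add, Nat.succ_mul]

include hcard

theorem exists_move {P : Sylow 3 G} (hP : Nab P) {D : Subgroup G} (hD : D ≤ (P : Subgroup G))
    (h9 : Nat.card D = 9) {z w : G} (hz : z ^ 3 = 1) (hw : w ^ 3 = 1) (hzw : Commute z w)
    (hw0 : ∀ i : ℕ, w ≠ z ^ i) (hDe : D = L33Rec.pair3 z w hz hw hzw)
    (hzc : z ∈ zc (P : Subgroup G)) :
    ∃ p ∈ (P : Subgroup G), ∃ b : ℕ, b ≠ 0 ∧ b < 3 ∧ p * w * p⁻¹ = z ^ b * w := by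
  obtain ⟨p, hp, x, hx, hne⟩ := not_central_nine hcard hP hD h9
  have hpz : Commute p z := commute_zc hzc hp
  have hwD : w ∈ D := hDe ▸ L33Rec.right_mem_pair3 hz hw hzw
  obtain ⟨b, hb, he⟩ := L33Rec.conj_right_pair3 hz hw hzw hw0 (p := p)
    (L33Rec.odd_orderOf_mem (by rw [card_sylow hcard P]; decide) hp) hpz.eq
    (hDe ▸ L33Rec.conj_mem_of_nine hD h9 (card_sylow hcard P) hp hwD)
  refine ⟨p, hp, b, fun h0 => hne ?_, hb, he⟩
  rw [h0, pow_zero, one_mul, L33Rec.conj_eq_iff] at he
  obtain ⟨i, j, rfl⟩ := (hDe ▸ hx : x ∈ L33Rec.pair3 z w hz hw hzw)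
  exact ((hpz.pow_right i).mul_right ((show Commute p w from he).pow_right j)).eq

/-- Two Sylow subgroups with different centres meeting in order nine. -/
theorem exists_planeData_of_pair {P Q : Sylow 3 G} (hP : Nab P) (hQ : Nab Q)
    (h9 : Nat.card ↥((P : Subgroup G) ⊓ Q) = 9)
    (hne : zc (P : Subgroup G) ≠ zc (Q : Subgroup G)) :
    ∃ E : Subgroup G, L33Rec.PlaneData E := by
  haveI : Fact (Nat.Prime 3) := ⟨Nat.prime_three⟩
  set D : Subgroup G := (P : Subgroup G) ⊓ Q with hDdef
  have hDP : D ≤ (P : Subgroup G) := inf_le_left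
  have hDQ : D ≤ (Q : Subgroup G) := inf_le_right
  set H := normalizer (D : Set G) with hHdef
  have hPH : (P : Subgroup G) ≤ H := le_normalizer_nine hcard hDP h9
  have hQH : (Q : Subgroup G) ≤ H := le_normalizer_nine hcard hDQ h9
  have hPQ : P ≠ Q := fun h => hne (by rw [h])
  have hHne : H ≠ ⊤ := normalizer_small_ne_top hcard h9 (by norm_num) (by norm_num)
  obtain ⟨g₁, hg₁, x₁, hx₁, hne₁⟩ := not_central_nine hcard hP hDP h9
  rcases card_of_two_sylow hcard hHne hPQ hPH hQH with h108 | h216 | h432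
  rotate_left 2
  · exact ⟨D, planeData_of hcard h9 h432 ⟨g₁, hPH hg₁,
      ⟨3, orderOf_dvd_iff_pow_eq_one.mp (by
        have := (P : Subgroup G).orderOf_dvd_natCard hg₁
        rwa [card_sylow hcard P] at this)⟩, x₁, hx₁, hne₁⟩⟩
  all_goals exfalso
  all_goals
    obtain ⟨z, hzo, hzZ⟩ := exists_gen_of_card_three (card_zc hcard hP)
    obtain ⟨w, hwo, hwZ⟩ := exists_gen_of_card_three (card_zc hcard hQ)
    have hz : z ^ 3 = 1 := hzo ▸ pow_orderOf_eq_one z
    have hw : w ^ 3 = 1 := hwo ▸ pow_orderOf_eq_one w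
    have hzc : z ∈ zc (P : Subgroup G) := hzZ ▸ mem_zpowers z
    have hwc : w ∈ zc (Q : Subgroup G) := hwZ ▸ mem_zpowers w
    have hzD : z ∈ D := zc_le_nine hcard hP hDP h9 hzc
    have hwD : w ∈ D := zc_le_nine hcard hQ hDQ h9 hwc
    have hzw : Commute z w := mul_self_comm_nine hcard h9 hzD hwD
    have hz1 : z ≠ 1 := fun h => by rw [h, orderOf_one] at hzo; omega
    have hw1 : w ≠ 1 := fun h => by rw [h, orderOf_one] at hwo; omega
    have hw0 : ∀ i : ℕ, w ≠ z ^ i := fun i h => hne (by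
      rw [← hzZ, ← hwZ]
      exact L33Rec.zpowers_eq_of_mem hz hw1 (h ▸ pow_mem (mem_zpowers z) i) |>.symm)
    have hz0 : ∀ i : ℕ, z ≠ w ^ i := fun i h => hne (by
      rw [← hzZ, ← hwZ]
      exact L33Rec.zpowers_eq_of_mem hw hz1 (h ▸ pow_mem (mem_zpowers w) i))
    have hDe : D = L33Rec.pair3 z w hz hw hzw :=
      (eq_of_card_nine_subset hcard (L33Rec.card_pair3 hz hw hzw hw0 hz1) h9
        (L33Rec.pair3_le hz hw hzw hzD hwD)).symm
    have hDe' : D = L33Rec.pair3 w z hw hz hzw.symm :=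
      (eq_of_card_nine_subset hcard (L33Rec.card_pair3 hw hz hzw.symm hz0 hw1) h9
        (L33Rec.pair3_le hw hz hzw.symm hwD hzD)).symm
    obtain ⟨p, hpP, b, hb0, hb3, hpw⟩ := exists_move hcard hP hDP h9 hz hw hzw hw0 hDe hzc
    obtain ⟨q, hqQ, a, ha0, ha3, hqz⟩ := exists_move hcard hQ hDQ h9 hw hz hzw.symm hz0 hDe' hwc
    have hp' : ∀ k i j : ℕ, p ^ k * (z ^ i * w ^ j) * (p ^ k)⁻¹ = z ^ (i + k * b * j) * w ^ j := by
      intro k i j
      rw [← conj_mul, ← conj_pow, ← conj_pow, conj_pow_pair (commute_zc hzc hpP) hpw k,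
        L33Rec.conj_eq_iff.mpr ((commute_zc hzc hpP).pow_left k).eq,
        (hzw.pow_left (k * b)).mul_pow, ← pow_mul, ← mul_assoc, ← pow_add]
    have hq' : ∀ k i j : ℕ, q ^ k * (z ^ i * w ^ j) * (q ^ k)⁻¹ = z ^ i * w ^ (j + k * a * i) := by
      intro k i j
      rw [← conj_mul, ← conj_pow, ← conj_pow, conj_pow_pair (commute_zc hwc hqQ) hqz k,
        L33Rec.conj_eq_iff.mpr ((commute_zc hwc hqQ).pow_left k).eq,
        (hzw.symm.pow_left (k * a)).mul_pow, ← pow_mul,
        ((hzw.pow_pow i (k * a * i)).symm).eq, mul_assoc, ← pow_add, add_comm]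
    have horb : ∀ x ∈ D, x ≠ 1 → ∃ h ∈ H, h * z * h⁻¹ = x := by
      have hA : ∀ j : ℕ, ∃ h ∈ H, h * z * h⁻¹ = z * w ^ j := by
        intro j
        refine ⟨q ^ (a * j), pow_mem (hQH hqQ) _, ?_⟩
        have := hq' (a * j) 1 0
        rw [pow_one, pow_zero, mul_one] at this
        rw [this, L33Rec.pow_mod_three hw, L33Rec.pow_mod_three hw j]
        congr 2
        interval_cases a <;> first | omega | simp_all [Nat.mul_mod]
      have hB : ∀ i j : ℕ, j % 3 ≠ 0 → ∃ h ∈ H, h * z * h⁻¹ = z ^ i * w ^ j := by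
        intro i j hj
        obtain ⟨h, hh, e⟩ := hA j
        refine ⟨p ^ ((i + 2) * b * j) * h, mul_mem (pow_mem (hPH hpP) _) hh, ?_⟩
        have := hp' ((i + 2) * b * j) 1 j
        rw [pow_one] at this
        rw [show p ^ ((i + 2) * b * j) * h * z * (p ^ ((i + 2) * b * j) * h)⁻¹ =
          p ^ ((i + 2) * b * j) * (h * z * h⁻¹) * (p ^ ((i + 2) * b * j))⁻¹ by group, e, this,
          L33Rec.pow_mod_three hz, L33Rec.pow_mod_three hz i]
        congr 2
        have h1 : (b * b) % 3 = 1 := by interval_cases b <;> first | omega | rfl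
        have h2 : (j * j) % 3 = 1 := by
          rw [Nat.mul_mod]
          rcases (show j % 3 = 1 ∨ j % 3 = 2 by omega) with h | h <;> rw [h]
        rw [show 1 + (i + 2) * b * j * b * j = 1 + (i + 2) * ((b * b) * (j * j)) by ring]
        have h3 : ((b * b) * (j * j)) % 3 = 1 := by rw [Nat.mul_mod, h1, h2]
        rw [Nat.add_mod, Nat.mul_mod, h3]
        omega
      intro x hx hx1
      obtain ⟨i, j, hi, hj, rfl⟩ := L33Rec.exists_lt_of_mem_pair3 hz hw hzw (hDe ▸ hx)
      by_cases hj0 : j = 0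
      · subst hj0
        rcases (show i = 0 ∨ i = 1 ∨ i = 2 by omega) with rfl | rfl | rfl
        · simp at hx1
        · exact ⟨1, one_mem H, by simp⟩
        · obtain ⟨h, hh, e⟩ := hB 2 1 (by norm_num)
          refine ⟨q ^ a * h, mul_mem (pow_mem (hQH hqQ) _) hh, ?_⟩
          rw [show q ^ a * h * z * (q ^ a * h)⁻¹ = q ^ a * (h * z * h⁻¹) * (q ^ a)⁻¹ by group,
            e, hq' a 2 1, L33Rec.pow_mod_three hw]
          congr 2
          interval_cases a <;> omega
      · exact hB i j (by omega)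
    -- the conjugates of `z` fill `D`
    set C : Subgroup G := H ⊓ centralizer ({z} : Set G) with hC
    have hPC : (P : Subgroup G) ≤ C :=
      le_inf hPH fun y hy => mem_centralizer_singleton.mpr (commute_zc hzc hy).eq
    have hidx : (C.subgroupOf H).index = 8 := by
      have hD8 : Nat.card {x : G // x ∈ D ∧ x ≠ 1} = 8 := by
        have : Nat.card {x : G // x ∈ D ∧ x ≠ 1} = ((D : Set G) \ {1}).ncard :=
          Nat.card_coe_set_eq ((D : Set G) \ {1})
        rw [this, Set.ncard_sdiff_singleton_of_mem D.one_mem]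
        rw [← Nat.card_coe_set_eq]
        show Nat.card D - 1 = 8
        rw [h9]
      let f : H ⧸ C.subgroupOf H → {x : G // x ∈ D ∧ x ≠ 1} := fun c =>
        Quotient.liftOn' c (fun h => ⟨(h : G) * z * (h : G)⁻¹,
          (mem_normalizer_iff.mp h.2 z).mp hzD, fun e => hz1 (conj_eq_one_iff.mp e)⟩) (by
            intro h h' e
            have e' : (h : G)⁻¹ * h' ∈ C := mem_subgroupOf.mp (QuotientGroup.leftRel_apply.mp e)
            have hc := mem_centralizer_singleton.mp (mem_inf.mp e').2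
            apply Subtype.ext
            calc (h : G) * z * (h : G)⁻¹ = (h : G) * (z * ((h : G)⁻¹ * h')) * (h' : G)⁻¹ := by
                  group
              _ = (h : G) * (((h : G)⁻¹ * h') * z) * (h' : G)⁻¹ := by rw [hc]
              _ = _ := by group)
      have hf : Function.Bijective f := by
        refine ⟨?_, fun x => ?_⟩
        · intro c c'
          induction c, c' using Quotient.inductionOn₂' with | _ h h'
          intro e
          have e1 : (h : G) * z * (h : G)⁻¹ = (h' : G) * z * (h' : G)⁻¹ := congrArg Subtype.val e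
          refine Quotient.sound' (QuotientGroup.leftRel_apply.mpr ?_)
          refine mem_inf.mpr ⟨mul_mem (inv_mem h.2) h'.2, mem_centralizer_singleton.mpr ?_⟩
          calc (h : G)⁻¹ * h' * z = (h : G)⁻¹ * ((h' : G) * z * (h' : G)⁻¹) * h' := by group
            _ = z * ((h : G)⁻¹ * h') := by rw [← e1]; group
        · obtain ⟨h, hh, e⟩ := horb x x.2.1 x.2.2
          exact ⟨Quotient.mk'' ⟨h, hh⟩, Subtype.ext e⟩
      rw [index_eq_card, Nat.card_eq_of_bijective f hf, hD8]
    have hCH := (C.subgroupOf H).card_mul_index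
    rw [hidx, Nat.card_congr (subgroupOfEquivOfLe (show C ≤ H from inf_le_left)).toEquiv] at hCH
    have hPCd : 27 ∣ Nat.card C := card_sylow hcard P ▸ card_dvd_of_le hPC
  · rw [h108] at hCH; omega
  -- order 216
  rw [h216] at hCH
  have hC27 : Nat.card C = 27 := by omega
  have hCP : C = (P : Subgroup G) :=
    (eq_of_le_of_card_ge hPC (by rw [card_sylow hcard P]; omega)).symm
  obtain ⟨u, huH, hu⟩ := horb z⁻¹ (inv_mem hzD) (inv_ne_one.mpr hz1)
  have huu : u * u ∈ C := mem_inf.mpr ⟨mul_mem huH huH, mem_centralizer_singleton.mpr (by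
    have hu' : u * z⁻¹ * u⁻¹ = z := by
      calc u * z⁻¹ * u⁻¹ = (u * z * u⁻¹)⁻¹ := by group
        _ = z := by rw [hu, inv_inv]
    calc u * u * z = u * (u * z * u⁻¹) * u := by group
      _ = (u * z⁻¹ * u⁻¹) * (u * u) := by rw [hu]; group
      _ = z * (u * u) := by rw [hu'])⟩
  set t := u ^ 27 with ht
  have htH : t ∈ H := pow_mem huH _
  have htt : t * t = 1 := by
    have h := C.orderOf_dvd_natCard huu
    rw [hC27, orderOf_dvd_iff_pow_eq_one] at h
    rw [ht, ← (Commute.refl u).mul_pow]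
    exact h
  have hti : t⁻¹ = t := inv_eq_of_mul_eq_one_right htt
  have htz : t * z * t = z⁻¹ := by
    have hc := mem_centralizer_singleton.mp (mem_inf.mp (pow_mem huu 13)).2
    calc t * z * t = t * z * t⁻¹ := by rw [hti]
      _ = u * ((u * u) ^ 13 * z * ((u * u) ^ 13)⁻¹) * u⁻¹ := by
        rw [ht, ← pow_two, ← pow_mul, show (27 : ℕ) = (2 * 13) + 1 from rfl, pow_succ']
        group
      _ = z⁻¹ := by rw [L33Rec.conj_eq_iff.mpr hc, hu]
  have hne_inv : z⁻¹ ≠ z := fun h => by
    have h2 : z * z = 1 := by nth_rewrite 1 [← h]; exact inv_mul_cancel z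
    have := orderOf_dvd_of_pow_eq_one (show z ^ 2 = 1 by rw [pow_two, h2])
    rw [hzo] at this
    norm_num at this
  have ht2 : orderOf t = 2 := by
    refine orderOf_eq_prime (by rw [pow_two, htt]) fun h => hne_inv ?_
    rw [h, one_mul, mul_one] at htz
    exact htz.symm
  have htP : t ∉ (P : Subgroup G) := fun h => by
    have := (P : Subgroup G).orderOf_dvd_natCard h
    rw [ht2, card_sylow hcard P] at this
    norm_num at this
  -- `t` inverts `D`
  have hinv : ∀ x ∈ D, t * x * t = x⁻¹ := fun x hx => by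
    refine L33Rec.inverts_of_fixfree htt (fun n hn => ?_) (fun n hn hnt => ?_) hx
    · have := (mem_normalizer_iff.mp htH n).mp hn
      rwa [hti] at this
    · by_contra hn1
      obtain ⟨h, hh, e⟩ := horb n hn hn1
      have hmem : h⁻¹ * t * h ∈ C := mem_inf.mpr ⟨mul_mem (mul_mem (inv_mem hh) htH) hh,
        mem_centralizer_singleton.mpr (by
          calc h⁻¹ * t * h * z = h⁻¹ * (t * (h * z * h⁻¹)) * h := by group
            _ = h⁻¹ * ((h * z * h⁻¹) * t) * h := by rw [e, hnt]
            _ = z * (h⁻¹ * t * h) := by group)⟩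
      have ho := C.orderOf_dvd_natCard hmem
      rw [hC27, show h⁻¹ * t * h = MulAut.conj h⁻¹ t by rw [MulAut.conj_apply, inv_inv],
        MulEquiv.orderOf_eq, ht2] at ho
      norm_num at ho
  -- `t` normalises `P`
  have hCn : ∀ y ∈ C, t * y * t⁻¹ ∈ C := fun y hy => mem_inf.mpr
    ⟨mul_mem (mul_mem htH (mem_inf.mp hy).1) (inv_mem htH), mem_centralizer_singleton.mpr (by
      have h1 : t * z⁻¹ * t⁻¹ = z := by
        rw [hti]
        calc t * z⁻¹ * t = (t⁻¹ * z * t⁻¹)⁻¹ := by group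
          _ = z := by rw [hti, htz, inv_inv]
      have hc : y * z⁻¹ = z⁻¹ * y :=
        (Commute.inv_right (mem_centralizer_singleton.mp (mem_inf.mp hy).2 : Commute y z)).eq
      calc t * y * t⁻¹ * z = t * y * t⁻¹ * (t * z⁻¹ * t⁻¹) := by rw [h1]
        _ = t * (y * z⁻¹) * t⁻¹ := by group
        _ = (t * z⁻¹ * t⁻¹) * (t * y * t⁻¹) := by rw [hc]; group
        _ = z * (t * y * t⁻¹) := by rw [h1])⟩
  have htN : t ∈ normalizer ((P : Subgroup G) : Set G) :=
    mem_normalizer_fintype fun y hy => hCP ▸ hCn y (hCP.symm ▸ hy)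
  have hN2 : 2 ∣ Nat.card (normalizer ((P : Subgroup G) : Set G)) :=
    ht2 ▸ (normalizer ((P : Subgroup G) : Set G)).orderOf_dvd_natCard htN
  obtain ⟨-, hN108⟩ : _ ∧ Nat.card (normalizer ((P : Subgroup G) : Set G)) = 108 := by
    rcases card_normalizer_cases hcard (P := P) with h | h | h
    · exact absurd h.1 (not_thirteen hcard hP)
    · exact h
    · omega
  set N := normalizer ((P : Subgroup G) : Set G) with hNdef
  set S := N ⊓ H with hSdef
  have hPS : (P : Subgroup G) ≤ S := le_inf le_normalizer hPH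
  have hsplit : ∀ s ∈ S, s ∉ (P : Subgroup G) → t * s ∈ (P : Subgroup G) := by
    intro s hs hsP
    have hsz : s * z * s⁻¹ = z⁻¹ := by
      rcases zpowers_cases hzo (hzZ ▸ conj_zc (mem_inf.mp hs).1 hzc)
        (fun e => hz1 (conj_eq_one_iff.mp e)) with e | e
      · refine absurd ?_ hsP
        rw [← hCP]
        exact mem_inf.mpr ⟨(mem_inf.mp hs).2, mem_centralizer_singleton.mpr
          (L33Rec.conj_eq_iff.mp e)⟩
      · exact e
    rw [← hCP]
    refine mem_inf.mpr ⟨mul_mem htH (mem_inf.mp hs).2,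
      mem_centralizer_singleton.mpr (L33Rec.conj_eq_iff.mp ?_)⟩
    calc t * s * z * (t * s)⁻¹ = t * (s * z * s⁻¹) * t⁻¹ := by group
      _ = t * z⁻¹ * t := by rw [hsz, hti]
      _ = (t⁻¹ * z * t⁻¹)⁻¹ := by group
      _ = z := by rw [hti, htz, inv_inv]
  have htS : t ∈ S := mem_inf.mpr ⟨htN, htH⟩
  have hS54 : Nat.card S = 54 := by
    have hle : Nat.card S ≤ 54 := by
      classical
      let f : S → Fin 2 × (P : Subgroup G) := fun s =>
        if h : (s : G) ∈ (P : Subgroup G) then (0, ⟨s, h⟩) else (1, ⟨t * s, hsplit s s.2 h⟩)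
      have hf : Function.Injective f := by
        intro s s' e
        simp only [f] at e
        split_ifs at e with h1 h2 h3
        · exact Subtype.ext (congrArg (fun v : Fin 2 × (P : Subgroup G) => (v.2 : G)) e)
        · exact absurd (congrArg Prod.fst e) (by simp)
        · exact absurd (congrArg Prod.fst e) (by simp)
        · exact Subtype.ext (mul_left_cancel
            (congrArg (fun v : Fin 2 × (P : Subgroup G) => (v.2 : G)) e))
      have := Nat.card_le_card_of_injective f hf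
      rwa [Nat.card_prod, Nat.card_fin, card_sylow hcard P] at this
    have h2 : 54 ∣ Nat.card S := Nat.Coprime.mul_dvd_of_dvd_of_dvd (by norm_num)
      (ht2 ▸ S.orderOf_dvd_natCard htS) (card_sylow hcard P ▸ card_dvd_of_le hPS)
    have := Nat.le_of_dvd Nat.card_pos h2
    omega
  haveI hSnorm : (S.subgroupOf N).Normal := normal_of_index_eq_two (by
    have h := (S.subgroupOf N).card_mul_index
    rw [Nat.card_congr (subgroupOfEquivOfLe inf_le_left).toEquiv, hS54, hN108] at h
    omega)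
  obtain ⟨g, hgN, hgS⟩ := SetLike.not_le_iff_exists.mp (fun h : N ≤ S => by
    have := Subgroup.card_le_of_le h; omega)
  have hgH : g ∉ H := fun h => hgS (mem_inf.mpr ⟨hgN, h⟩)
  set D2 := D.map (MulAut.conj g).toMonoidHom with hD2
  have hD2c : Nat.card D2 = 9 := by
    rw [hD2, ← Nat.card_congr (equivMapOfInjective D _ (MulAut.conj g).injective).toEquiv, h9]
  have hD2P : D2 ≤ (P : Subgroup G) := by
    rintro _ ⟨x, hx, rfl⟩; exact (mem_normalizer_iff.mp hgN x).mp (hDP hx)
  have hzD2 : z ∈ D2 := zc_le_nine hcard hP hD2P hD2c hzc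
  obtain ⟨x, hx2, hxD⟩ := SetLike.not_le_iff_exists.mp (fun h : D2 ≤ D => hgH (by
    have e := eq_of_card_nine_subset hcard hD2c h9 h
    refine mem_normalizer_fintype fun y hy => ?_
    show g * y * g⁻¹ ∈ D
    rw [← e]; exact ⟨y, hy, rfl⟩))
  have hxP := hD2P hx2
  have hx3 : x ^ 3 = 1 := by
    obtain ⟨y, hy, rfl⟩ := hx2
    rw [← map_pow, L33Rec.pow_three_pair3 hz hw hzw (hDe ▸ hy), map_one]
  have hx0 : ∀ i : ℕ, x ≠ z ^ i := fun i h => hxD (h ▸ pow_mem hzD i)
  have hzx : Commute z x := (commute_zc hzc hxP).symm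
  have hD2e : D2 = L33Rec.pair3 z x hz hx3 hzx :=
    (eq_of_card_nine_subset hcard (L33Rec.card_pair3 hz hx3 hzx hx0 hz1) hD2c
      (L33Rec.pair3_le hz hx3 hzx hzD2 hx2)).symm
  have hinv2 : ∀ y ∈ D2, (g * t * g⁻¹) * y * (g * t * g⁻¹) = y⁻¹ := by
    rintro _ ⟨y, hy, rfl⟩
    show (g * t * g⁻¹) * (g * y * g⁻¹) * (g * t * g⁻¹) = (g * y * g⁻¹)⁻¹
    calc (g * t * g⁻¹) * (g * y * g⁻¹) * (g * t * g⁻¹) = g * (t * y * t) * g⁻¹ := by group
      _ = (g * y * g⁻¹)⁻¹ := by rw [hinv y hy]; group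
  have ht'S : g * t * g⁻¹ ∈ S := hSnorm.conj_mem ⟨t, htN⟩ htS ⟨g, hgN⟩
  set t' := g * t * g⁻¹ with ht'
  have ht't' : t' * t' = 1 := by
    rw [ht', show g * t * g⁻¹ * (g * t * g⁻¹) = g * (t * t) * g⁻¹ by group, htt]; group
  have ht'P : t' ∉ (P : Subgroup G) := fun h => htP (by
    have h2 := (mem_normalizer_iff.mp hgN t).mpr (show g * t * g⁻¹ ∈ (P : Subgroup G) from h)
    exact h2)
  set p0 := t * t' with hp0
  have hp0P : p0 ∈ (P : Subgroup G) := hsplit t' ht'S ht'P
  obtain ⟨c, hc3, hcx⟩ := L33Rec.conj_right_pair3 hz hx3 hzx hx0 (p := p0)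
    (L33Rec.odd_orderOf_mem (by rw [card_sylow hcard P]; decide) hp0P) (commute_zc hzc hp0P).eq
    (hD2e ▸ L33Rec.conj_mem_of_nine hD2P hD2c (card_sylow hcard P) hp0P hx2)
  set c' := z ^ c with hc'
  have hc'c : ∀ y ∈ (P : Subgroup G), Commute y c' := fun y hy => (commute_zc hzc hy).pow_right c
  -- the action of `t` on `x`
  have htx : t * x * t = c'⁻¹ * x⁻¹ := by
    have e1 : t = p0 * t' := by
      rw [hp0, mul_assoc, ht't', mul_one]
    have e2 : t = t' * p0⁻¹ := by
      rw [hp0, _root_.mul_inv_rev, hti, ← mul_assoc, show t'⁻¹ = t' from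
        inv_eq_of_mul_eq_one_right ht't', ht't', one_mul]
    calc t * x * t = (p0 * t') * x * (t' * p0⁻¹) := by rw [← e1, ← e2]
      _ = p0 * (t' * x * t') * p0⁻¹ := by group
      _ = (p0 * x * p0⁻¹)⁻¹ := by rw [hinv2 x hx2]; group
      _ = x⁻¹ * c'⁻¹ := by rw [hcx, _root_.mul_inv_rev]
      _ = c'⁻¹ * x⁻¹ := ((hc'c x hxP).inv_inv).eq
  have hxC : ∀ u ∈ D, Commute u x := by
    intro u hu
    have hux : u * x * u⁻¹ ∈ D2 :=
      L33Rec.conj_mem_of_nine hD2P hD2c (card_sylow hcard P) (hDP hu) hx2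
    set k := u * x * u⁻¹ * x⁻¹ with hk
    have hkD : k ∈ D := by
      rw [show k = u * (x * u⁻¹ * x⁻¹) by rw [hk]; group]
      exact mul_mem hu
        (L33Rec.conj_mem_of_nine hDP h9 (card_sylow hcard P) hxP (inv_mem hu))
    have hkD2 : k ∈ D2 := mul_mem hux (inv_mem hx2)
    have hku : Commute u k := mul_self_comm_nine hcard h9 hu hkD
    have hkx : Commute x k := mul_self_comm_nine hcard hD2c hx2 hkD2
    have hcu : Commute u c' := hc'c u (hDP hu)
    have hcx' : Commute x c' := hc'c x hxP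
    have h1 : t * k * t = (t * u * t) * (t * x * t) * (t * u⁻¹ * t) * (t * x⁻¹ * t) := by
      calc t * k * t = t * u * (t * t) * x * (t * t) * u⁻¹ * (t * t) * x⁻¹ * t := by
            rw [htt, hk]; group
        _ = _ := by group
    have htx' : t * x⁻¹ * t = x * c' := by
      calc t * x⁻¹ * t = (t⁻¹ * x * t⁻¹)⁻¹ := by group
        _ = x * c' := by rw [hti, htx, _root_.mul_inv_rev, inv_inv, inv_inv]
    rw [hinv u hu, hinv u⁻¹ (inv_mem hu), htx, htx', inv_inv, hinv k hkD] at h1
    have h2 : u⁻¹ * x⁻¹ * u * x = k := by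
      have e1 : x⁻¹ * k * x = k := by rw [mul_assoc, ← hkx.eq, inv_mul_cancel_left]
      have e2 : u⁻¹ * k * u = k := by rw [mul_assoc, ← hku.eq, inv_mul_cancel_left]
      calc u⁻¹ * x⁻¹ * u * x = u⁻¹ * (x⁻¹ * k * x) * u := by rw [hk]; group
        _ = k := by rw [e1, e2]
    have h3 : u⁻¹ * (c'⁻¹ * x⁻¹) * u * (x * c') = k := by
      calc u⁻¹ * (c'⁻¹ * x⁻¹) * u * (x * c') = (u⁻¹ * c'⁻¹) * (x⁻¹ * u * x) * c' := by group
        _ = (c'⁻¹ * u⁻¹) * (x⁻¹ * u * x) * c' := by rw [hcu.inv_inv.eq]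
        _ = c'⁻¹ * (u⁻¹ * x⁻¹ * u * x) * c' := by group
        _ = k := by
          rw [h2, mul_assoc, (hc'c k (hDP hkD)).eq, inv_mul_cancel_left]
    rw [h3] at h1
    have hk3 : k ^ 3 = 1 := L33Rec.pow_three_pair3 hz hw hzw (hDe ▸ hkD)
    have hk1 : k = 1 := by
      have hkk : k * k = 1 := by nth_rewrite 1 [← h1]; exact inv_mul_cancel k
      calc k = k * (k * k) := by rw [hkk, mul_one]
        _ = k ^ 3 := by rw [pow_succ', pow_two]
        _ = 1 := hk3
    exact mul_inv_eq_iff_eq_mul.mp (mul_inv_eq_one.mp hk1)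
  set K : Subgroup G := (P : Subgroup G) ⊓ centralizer ({x} : Set G)
  have hDK : D ≤ K := le_inf hDP fun u hu => mem_centralizer_singleton.mpr (hxC u hu).eq
  obtain ⟨k, hk, he⟩ := card_dvd_27 hcard (inf_le_left : K ≤ (P : Subgroup G))
  have hlt : 9 < Nat.card K := by
    refine lt_of_le_of_ne (h9 ▸ Nat.le_of_dvd Nat.card_pos (card_dvd_of_le hDK)) fun h => hxD ?_
    have : x ∈ K := mem_inf.mpr ⟨hxP, mem_centralizer_singleton.mpr rfl⟩
    exact (eq_of_le_of_card_ge hDK (by omega)).symm ▸ this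
  rw [he] at hlt
  interval_cases k <;> try omega
  have hKP : K = (P : Subgroup G) :=
    eq_of_le_of_card_ge inf_le_left (by rw [he, card_sylow hcard P]; norm_num)
  exact hxD (zc_le_nine hcard hP hDP h9 (mem_zc_iff.mpr ⟨hxP, fun y hy =>
    mem_centralizer_singleton.mp (mem_inf.mp (hKP.symm ▸ hy : y ∈ K)).2⟩))

theorem three_index_normalizer_zc {P : Sylow 3 G} (hP : Nab P) {Q : Sylow 3 G} (hne : P ≠ Q)
    (hQ : (Q : Subgroup G) ≤ normalizer (zc (P : Subgroup G) : Set G)) :
    Nat.card (normalizer (zc (P : Subgroup G) : Set G)) = 108 ∨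
      Nat.card (normalizer (zc (P : Subgroup G) : Set G)) = 216 := by
  have hP' : (P : Subgroup G) ≤ normalizer (zc (P : Subgroup G) : Set G) :=
    le_normalizer.trans (normalizer_le_normalizer_zc _)
  rcases card_of_two_sylow hcard
    (normalizer_small_ne_top hcard (card_zc hcard hP) (by norm_num) (by norm_num)) hne hP' hQ with
    h | h | h
  · exact Or.inl h
  · exact Or.inr h
  · exact (no_normal_line hcard (card_zc hcard hP) h hne hP' hQ).elim

/-- With 52 Sylow subgroups two of them meeting in order nine have different centres. -/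
theorem centres_ne_of_fifty_two {P Q : Sylow 3 G} (hP : Nab P) (hne : P ≠ Q)
    (h52 : Nat.card (Sylow 3 G) = 52) :
    zc (P : Subgroup G) ≠ zc (Q : Subgroup G) := by
  intro he
  haveI : Fact (Nat.Prime 3) := ⟨Nat.prime_three⟩
  have hQ : (Q : Subgroup G) ≤ normalizer (zc (P : Subgroup G) : Set G) := by
    rw [he]; exact le_normalizer.trans (normalizer_le_normalizer_zc _)
  have hN : Nat.card (normalizer ((P : Subgroup G) : Set G)) = 108 := by
    rcases card_normalizer_cases hcard (P := P) with h | h | h <;> omega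
  set A := normalizer (zc (P : Subgroup G) : Set G)
  set N := normalizer ((P : Subgroup G) : Set G)
  have hNA : N ≤ A := normalizer_le_normalizer_zc _
  have hAN : A ≤ N := by
    have hor : Nat.card A = 108 ∨ Nat.card A = 216 := three_index_normalizer_zc hcard hP hne hQ
    rcases hor with h | h
    · exact (eq_of_le_of_card_ge hNA (by omega)).symm.le
    · haveI : (N.subgroupOf A).Normal := normal_of_index_eq_two (by
        have h1 := (N.subgroupOf A).card_mul_index
        rw [Nat.card_congr (subgroupOfEquivOfLe hNA).toEquiv, hN, h] at h1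
        omega)
      exact le_normalizer_of_normal_sup hcard (X := N)
        ((normal_subgroupOf_iff_le_normalizer hNA).mp inferInstance) le_normalizer le_rfl
  have hQP : (Q : Subgroup G) ≤ (P : Subgroup G) := by
    intro y hy
    exact (mem_inf.mp (Q.2.inf_normalizer_sylow P |>.le ⟨hy, hAN (hQ hy)⟩)).2
  exact hne (Sylow.ext (eq_of_le_of_card_ge hQP
    (by rw [card_sylow hcard, card_sylow hcard])).symm)

/-- The centre is not weakly closed when there are 208 Sylow subgroups. -/
theorem exists_conj_zc {P : Sylow 3 G} (hP : Nab P) (h208 : Nat.card (Sylow 3 G) = 208) :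
    ∃ g : G, (zc (P : Subgroup G)).map (MulAut.conj g).toMonoidHom ≤ (P : Subgroup G) ∧
      (zc (P : Subgroup G)).map (MulAut.conj g).toMonoidHom ≠ zc (P : Subgroup G) := by
  haveI : Fact (Nat.Prime 3) := ⟨Nat.prime_three⟩
  by_contra h
  push Not at h
  set Z := zc (P : Subgroup G)
  set A := normalizer (Z : Set G) with hA
  have hW : Cfsg.IsWeaklyClosed Z (P : Subgroup G) := ⟨zc_le _, h⟩
  have hPA : (P : Subgroup G) ≤ A := le_normalizer.trans (normalizer_le_normalizer_zc _)
  have hc : commutator G = ⊤ := by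
    rcases (inferInstance : (commutator G).Normal).eq_bot_or_eq_top with hb | ht
    · refine absurd ⟨⟨fun a b => ?_⟩⟩ (not_comm hcard)
      have h1 : a * b * a⁻¹ * b⁻¹ ∈ commutator G :=
        commutator_mem_commutator (mem_top a) (mem_top b)
      rw [hb, mem_bot, mul_inv_eq_one, mul_inv_eq_iff_eq_mul] at h1
      exact h1
    · exact ht
  have hPA' : (P : Subgroup G) ≤ ⁅A, A⁆ := by
    have h1 := Cfsg.Agent.Transfer.commutator_inf_eq_of_weaklyClosed P (Z := Z) inf_le_right hW
    rw [hc, top_inf_eq] at h1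
    exact h1.le.trans inf_le_left
  have hNP : normalizer ((P : Subgroup G) : Set G) = (P : Subgroup G) := by
    refine (eq_of_le_of_card_ge le_normalizer ?_).symm
    rcases card_normalizer_cases hcard (P := P) with h | h | h
    · omega
    · omega
    · rw [h.2, card_sylow hcard P]
  have hnil : ∀ X : Subgroup G, X ≤ (P : Subgroup G) → (P : Subgroup G) ≤ ⁅X, X⁆ → False := by
    intro X hX hle
    haveI : Group.IsNilpotent (P : Subgroup G) := P.2.isNilpotent
    exact (ne_bot_top hcard (card_sylow hcard P) (by norm_num) (by norm_num)).1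
      (Cfsg.Agent.Transfer.eq_bot_of_le_commutator le_rfl (hle.trans (commutator_mono hX hX)))
  obtain ⟨a, haA, haP⟩ := SetLike.not_le_iff_exists.mp (fun hle : A ≤ (P : Subgroup G) =>
    hnil A hle hPA')
  have haN : a ∉ normalizer ((P : Subgroup G) : Set G) := hNP.symm ▸ haP
  have hne : P ≠ a • P := fun e => haN (Sylow.smul_eq_iff_mem_normalizer.mp e.symm)
  have haPA : ((a • P : Sylow 3 G) : Subgroup G) ≤ A := by
    rw [smul_coe]
    rintro _ ⟨y, hy, rfl⟩
    exact mul_mem (mul_mem haA (hPA hy)) (inv_mem haA)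
  have hor : Nat.card A = 108 ∨ Nat.card A = 216 := three_index_normalizer_zc hcard hP hne haPA
  rcases hor with h108 | h216
  · haveI : Group.IsSolvable A := Cfsg.Agent.CharCore.isSolvable_of_card_eq_prime_pow_mul
      Nat.prime_two Nat.prime_three _ A 2 3 h108 (by norm_num)
    set M := ⁅A, A⁆ with hM
    have hMA : M ≤ A := commutator_le.mpr fun x hx y hy => by
      rw [commutatorElement_def]
      exact mul_mem (mul_mem (mul_mem hx hy) (inv_mem hx)) (inv_mem hy)
    have hMne : M ≠ A := by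
      intro e
      haveI : Nontrivial A := Finite.one_lt_card_iff_nontrivial.mp (by omega)
      have hlt := Group.IsSolvable.commutator_lt_top_of_nontrivial A
      refine hlt.ne (map_injective A.subtype_injective ?_)
      rw [map_subtype_commutator, ← MonoidHom.range_eq_map, range_subtype]
      exact e
    have hAM : A ≤ normalizer (M : Set G) := fun x hx => mem_normalizer_fintype fun y hy => by
      have h1 : M.map (MulAut.conj x).toMonoidHom = M := by
        rw [hM, map_commutator]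
        have h2 : A.map (MulAut.conj x).toMonoidHom = A :=
          mem_normalizer_iff_map_conj_eq.mp (le_normalizer hx)
        rw [h2]
      exact h1 ▸ ⟨y, hy, rfl⟩
    have hMN : M ≤ normalizer ((P : Subgroup G) : Set G) := by
      intro m hm
      by_contra hmN
      have hne' : P ≠ m • P := fun e => hmN (Sylow.smul_eq_iff_mem_normalizer.mp e.symm)
      have hmP : ((m • P : Sylow 3 G) : Subgroup G) ≤ M := by
        rw [smul_coe]
        rintro _ ⟨y, hy, rfl⟩
        exact mul_mem (mul_mem hm (hPA' hy)) (inv_mem hm)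
      have hMtop : M ≠ ⊤ := fun e => by
        have h1 := Subgroup.card_le_of_le hMA
        rw [e, card_top, hcard, h108] at h1
        omega
      have hlt := Subgroup.card_le_of_le hMA
      rcases card_of_two_sylow hcard hMtop hne' hPA' hmP with e | e | e
      · exact hMne (eq_of_le_of_card_ge hMA (by omega))
      · omega
      · omega
    exact haN (le_normalizer_of_normal_sup hcard hAM hPA' hMN haA)
  · -- order 216: the four Sylow subgroups give a normalizer of order at least 54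
    haveI : Fintype (Sylow 3 A) := Fintype.ofFinite _
    have h1 := SmallGroups.card_sylow_mem (G := A) (p := 3) (a := 3) (m := 8)
      (by rw [h216]; norm_num) (by norm_num)
    have h4 : Nat.card (Sylow 3 A) ≤ 4 := by
      have h8 := Nat.le_of_dvd (by norm_num) h1.1
      obtain ⟨hd, hm⟩ := h1
      interval_cases hn : Nat.card (Sylow 3 A) <;> omega
    set PA : Sylow 3 A := P.subtype hPA
    have h2 := SmallGroups.card_normalizer_mul PA
    rw [h216] at h2
    have h27 : Nat.card (normalizer ((PA : Subgroup A) : Set A)) ≤ 27 := by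
      let f : normalizer ((PA : Subgroup A) : Set A) → (P : Subgroup G) := fun y =>
        ⟨((y : A) : G), by
          rw [← hNP]
          refine mem_normalizer_fintype fun x hx => ?_
          exact (mem_normalizer_iff.mp y.2 ⟨x, hPA hx⟩).mp hx⟩
      refine le_trans (Nat.card_le_card_of_injective f fun y y' e => ?_) (card_sylow hcard P).le
      exact Subtype.ext (Subtype.ext (congrArg (fun v : (P : Subgroup G) => (v : G)) e))
    nlinarith

/-- Non-abelian Sylow 3-subgroups yield plane data. -/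
theorem exists_planeData_of_nab {P : Sylow 3 G} (hP : Nab P) :
    ∃ E : Subgroup G, L33Rec.PlaneData E := by
  haveI : Fact (Nat.Prime 3) := ⟨Nat.prime_three⟩
  have hNab : ∀ R : Sylow 3 G, Nab R := fun R h => hP (comm_transfer h)
  rcases card_sylow_cases hcard with h | h | h
  · exact absurd h (not_thirteen hcard hP)
  · obtain ⟨Q, hne, h9⟩ := exists_cut hcard (by omega) P
    exact exists_planeData_of_pair hcard hP (hNab Q) h9 (centres_ne_of_fifty_two hcard hP hne h)
  · obtain ⟨g, hgP, hgne⟩ := exists_conj_zc hcard hP h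
    set Z := zc (P : Subgroup G)
    set Z' := Z.map (MulAut.conj g).toMonoidHom
    have hZ'3 : Nat.card Z' = 3 := by
      rw [← Nat.card_congr (equivMapOfInjective Z _ (MulAut.conj g).injective).toEquiv,
        card_zc hcard hP]
    obtain ⟨z, hzo, hzZ⟩ := exists_gen_of_card_three (card_zc hcard hP)
    obtain ⟨w, hwo, hwZ⟩ := exists_gen_of_card_three hZ'3
    have hz : z ^ 3 = 1 := hzo ▸ pow_orderOf_eq_one z
    have hw : w ^ 3 = 1 := hwo ▸ pow_orderOf_eq_one w
    have hz1 : z ≠ 1 := fun h => by rw [h, orderOf_one] at hzo; omega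
    have hw1 : w ≠ 1 := fun h => by rw [h, orderOf_one] at hwo; omega
    have hzc : z ∈ zc (P : Subgroup G) := hzZ ▸ mem_zpowers z
    have hwP : w ∈ (P : Subgroup G) := hgP (hwZ ▸ mem_zpowers w)
    have hzw : Commute z w := (commute_zc hzc hwP).symm
    have hw0 : ∀ i : ℕ, w ≠ z ^ i := fun i h => hgne (by
      show Z' = Z
      rw [← hwZ, show Z = zpowers z from hzZ.symm]
      exact L33Rec.zpowers_eq_of_mem hz hw1 (h ▸ pow_mem (mem_zpowers z) i))
    set D := L33Rec.pair3 z w hz hw hzw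
    have hD9 : Nat.card D = 9 := L33Rec.card_pair3 hz hw hzw hw0 hz1
    have hDP : D ≤ (P : Subgroup G) := L33Rec.pair3_le hz hw hzw (zc_le _ hzc) hwP
    set C := centralizer (Z' : Set G)
    have hgC : ((g • P : Sylow 3 G) : Subgroup G) ≤ C := by
      rw [smul_coe]
      rintro _ ⟨y, hy, rfl⟩
      refine mem_centralizer_iff.mpr ?_
      rintro _ ⟨v, hv, rfl⟩
      exact ((commute_zc hv hy).symm.map (MulAut.conj g).toMonoidHom).eq
    have hDC : D ≤ C := fun y hy => by
      rw [mem_centralizer_iff]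
      intro v hv
      rw [SetLike.mem_coe, ← hwZ] at hv
      obtain ⟨i, -, rfl⟩ := L33Rec.exists_pow_of_mem_zpowers hw hv
      exact ((mul_self_comm_nine hcard hD9 (L33Rec.right_mem_pair3 hz hw hzw) hy).pow_left i).eq
    obtain ⟨R, hDR, hRC⟩ := exists_sylow_le hcard
      (card_sylow hcard (g • P) ▸ card_dvd_of_le hgC) hDC (m := 2) (by rw [hD9]; norm_num)
      (by norm_num)
    have hZR : Z' ≤ zc (R : Subgroup G) := fun v hv => mem_zc_iff.mpr
      ⟨hDR (by
        rw [← hwZ] at hv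
        obtain ⟨i, -, rfl⟩ := L33Rec.exists_pow_of_mem_zpowers hw hv
        exact pow_mem (L33Rec.right_mem_pair3 hz hw hzw) i),
        fun y hy => (mem_centralizer_iff.mp (hRC hy) v hv).symm⟩
    have hR : zc (R : Subgroup G) = Z' :=
      (eq_of_le_of_card_ge hZR (by rw [card_zc hcard (hNab R), hZ'3])).symm
    have hne : zc (P : Subgroup G) ≠ zc (R : Subgroup G) := by rw [hR]; exact hgne.symm
    have h9 : Nat.card ↥((P : Subgroup G) ⊓ R) = 9 := by
      obtain ⟨k, hk, he⟩ := card_dvd_27 hcard (inf_le_left : (P : Subgroup G) ⊓ R ≤ _)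
      have h1 := Nat.le_of_dvd Nat.card_pos (card_dvd_of_le (le_inf hDP hDR))
      rw [hD9, he] at h1
      rw [he]
      interval_cases k <;> try omega
      exfalso
      have e : (P : Subgroup G) ⊓ R = (P : Subgroup G) :=
        eq_of_le_of_card_ge inf_le_left (by rw [he, card_sylow hcard P]; norm_num)
      refine hne (congrArg zc ?_)
      exact eq_of_le_of_card_ge (e.symm.le.trans inf_le_right)
        (by rw [card_sylow hcard P, card_sylow hcard R])
    exact exists_planeData_of_pair hcard hP (hNab R) h9 hne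

end Cfsg.Agent.SmallS16.L33
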