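import Mathlib
import Cfsg.Prelude.Def_DegreeGraph
import Cfsg.Agent.Lib.SmallGroups.Basic
import Cfsg.Agent.Blocks88.Basic
import Cfsg.Agent.Lib.BlocksCore.DefectZero
import Cfsg.Agent.DegPrimes72.Basic
import Cfsg.Agent.FGS76.MixBasic
import Cfsg.Agent.SylowNum.Decomp

set_option autoImplicit false

/-!
Degree primes and normal Sylow subgroups.
-/

namespace Cfsg.Agent.SmallS16

open Subgroup

universe u

variable {G : Type u} [Group G] [Finite G]

/-- An abelian normal subgroup of index prime to `r` kills the vertex `r`. -/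
theorem not_mem_degreePrimes_of_abelian (A : Subgroup G) [A.Normal]
    (hA : ∀ a ∈ A, ∀ b ∈ A, a * b = b * a) {r : ℕ} (hr : ¬ r ∣ A.index) :
    r ∉ Cfsg.degreePrimes G := by
  classical
  haveI := Fintype.ofFinite G
  rintro ⟨-, _, ⟨χ, rfl⟩, hdvd⟩
  obtain ⟨d, hd1, hd2⟩ := Blocks88.charDegree_dvd_index χ A hA
  rw [BlocksCore.irr_one_eq] at hd1
  have e : Cfsg.charDegree (χ : G → ℂ) = d := by exact_mod_cast hd1
  exact hr ((e ▸ hdvd).trans hd2)

/-- A Sylow subgroup of prime order which is normal kills its vertex. -/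
theorem not_mem_of_normal_prime (A : Subgroup G) (hn : A.Normal) {p : ℕ} (hp : p.Prime)
    (hA : Nat.card A = p) (hp2 : ¬ p ^ 2 ∣ Nat.card G) : p ∉ Cfsg.degreePrimes G := by
  haveI := Fact.mk hp
  haveI : IsCyclic A := isCyclic_of_prime_card hA
  refine not_mem_degreePrimes_of_abelian A (fun a ha b hb =>
    congrArg Subtype.val ((IsCyclic.commGroup (α := A)).mul_comm ⟨a, ha⟩ ⟨b, hb⟩)) fun h => hp2 ?_
  rw [← A.card_mul_index, hA, sq]
  exact mul_dvd_mul_left p h

theorem card_sylow_of_not_sq {p : ℕ} [hp : Fact p.Prime] (h1 : p ∣ Nat.card G)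
    (h2 : ¬ p ^ 2 ∣ Nat.card G) (P : Sylow p G) : Nat.card (P : Subgroup G) = p := by
  obtain ⟨m, hm⟩ := h1
  have := SmallGroups.card_sylow_eq (a := 1) (m := m) (by rw [hm, pow_one])
    (fun h => h2 (by rw [hm, sq]; exact mul_dvd_mul_left p h)) P
  rwa [pow_one] at this

/-- A Sylow subgroup normal in a normal subgroup containing it is normal. -/
theorem normal_of_normal_in {p : ℕ} [Fact p.Prime] (C : Subgroup G) [C.Normal] (P : Sylow p G)
    (hPC : (P : Subgroup G) ≤ C) (hn : ((P : Subgroup G).subgroupOf C).Normal) :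
    (P : Subgroup G).Normal := by
  haveI : ((P.subtype hPC : Sylow p C) : Subgroup C).Normal := hn
  haveI : ((P.subtype hPC : Sylow p C) : Subgroup C).Characteristic :=
    Sylow.characteristic_of_normal _ hn
  have h : (((P : Subgroup G).subgroupOf C).map C.subtype).Normal := by
    change (((P.subtype hPC : Sylow p C) : Subgroup C).map C.subtype).Normal
    infer_instance
  rwa [Subgroup.map_subgroupOf_eq_of_le hPC] at h

/-- A small normal subgroup of order divisible by `p` forces a normal Sylow `p`-subgroup. -/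
theorem not_mem_of_small_normal (C : Subgroup G) [C.Normal] {p : ℕ} (hp : p.Prime)
    (hp2 : ¬ p ^ 2 ∣ Nat.card G) (hC : p ∣ Nat.card C) (hlt : Nat.card C < p * (p + 1)) :
    p ∉ Cfsg.degreePrimes G := by
  haveI := Fact.mk hp
  have hCG : Nat.card C ∣ Nat.card G := Subgroup.card_subgroup_dvd_card C
  have hC2 : ¬ p ^ 2 ∣ Nat.card C := fun h => hp2 (h.trans hCG)
  obtain ⟨R⟩ := (inferInstance : Nonempty (Sylow p C))
  have hR := card_sylow_of_not_sq hC hC2 R
  obtain ⟨m, hm⟩ := hC
  have hpm : ¬ p ∣ m := fun h => hC2 (by rw [hm, sq]; exact mul_dvd_mul_left p h)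
  obtain ⟨h1, h2⟩ := SmallGroups.card_sylow_mem (G := C) (a := 1) (m := m) (by rw [hm, pow_one]) hpm
  have hmp : m < p + 1 := by
    rw [hm] at hlt
    exact Nat.lt_of_mul_lt_mul_left hlt
  have hone : Nat.card (Sylow p C) = 1 := by
    have hle := Nat.le_of_dvd (Nat.pos_of_ne_zero fun h => hpm (by rw [h]; exact dvd_zero p)) h1
    by_contra hne
    have h4 := Nat.div_add_mod (Nat.card (Sylow p C)) p
    rw [h2] at h4
    rcases Nat.eq_zero_or_pos (Nat.card (Sylow p C) / p) with h0 | h0
    · rw [h0, mul_zero] at h4; omega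
    · have : p ≤ p * (Nat.card (Sylow p C) / p) := Nat.le_mul_of_pos_right p h0
      omega
  haveI := SmallGroups.normal_of_card_sylow_eq_one hone R
  haveI := Sylow.characteristic_of_normal R inferInstance
  refine not_mem_of_normal_prime ((R : Subgroup C).map C.subtype) inferInstance hp ?_ hp2
  rw [Subgroup.card_map_of_injective C.subtype_injective, hR]

/-- A subgroup of order `p` normalizing a subgroup `N` is normalized by it if no divisor of
`|N|` other than one is congruent to one. -/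
theorem le_normalizer_of_no_hit {p : ℕ} (hp : p.Prime) {P N : Subgroup G} (hP : Nat.card P = p)
    (hPN : P ≤ normalizer (N : Set G)) (hd : ¬ p ∣ Nat.card N)
    (hN : ∀ d, d ∣ Nat.card N → d % p = 1 → d = 1) : N ≤ normalizer (P : Set G) := by
  haveI := Fact.mk hp
  set H := P ⊔ N
  have hH : Nat.card H = p * Nat.card N := by
    refine Nat.dvd_antisymm (hP ▸ FGS76.Mix.card_sup_dvd hPN) ?_
    refine Nat.Coprime.mul_dvd_of_dvd_of_dvd (hp.coprime_iff_not_dvd.mpr hd) ?_ ?_
    · exact hP ▸ Subgroup.card_dvd_of_le le_sup_left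
    · exact Subgroup.card_dvd_of_le le_sup_right
  obtain ⟨h1, h2⟩ := SmallGroups.card_sylow_mem (G := H) (p := p) (a := 1) (m := Nat.card N)
    (by rw [pow_one]; exact hH) hd
  have hone := hN _ h1 h2
  haveI : Subsingleton (Sylow p H) := (Nat.card_eq_one_iff_unique.mp hone).1
  have hPg : IsPGroup p (P.subgroupOf H) := IsPGroup.of_card (n := 1) (by
    rw [Nat.card_congr (Subgroup.subgroupOfEquivOfLe le_sup_left).toEquiv, hP, pow_one])
  obtain ⟨Q, hQ⟩ := hPg.exists_le_sylow
  have hQc : Nat.card (Q : Subgroup H) = p := by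
    have := SmallGroups.card_sylow_eq (a := 1) (m := Nat.card N) (by rw [pow_one]; exact hH) hd Q
    rwa [pow_one] at this
  have he : P.subgroupOf H = Q := Subgroup.eq_of_le_of_card_ge hQ (by
    rw [hQc, Nat.card_congr (Subgroup.subgroupOfEquivOfLe le_sup_left).toEquiv, hP])
  haveI : (P.subgroupOf H).Normal := he ▸ Sylow.normal_of_subsingleton Q
  exact le_sup_right.trans (Subgroup.le_normalizer_of_normal_subgroupOf le_sup_left)

/-- Adjacency in a quotient lifts. -/
theorem adj_of_quotient (N : Subgroup G) [N.Normal] {a b : ℕ}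
    (h : (Cfsg.degreeGraph (G ⧸ N)).Adj a b) : (Cfsg.degreeGraph G).Adj a b := by
  obtain ⟨h1, h2, h3, _, ⟨θ, rfl⟩, hd⟩ := h
  obtain ⟨χ, hχ, -⟩ := CharDeep.Deg.exists_inflate N θ
  exact ⟨h1, h2, h3, _, ⟨χ, rfl⟩, hχ ▸ hd⟩

/-- A nonsolvable group with at most three prime divisors has them all as degree primes. -/
theorem mem_degreePrimes_of_three (hns : ¬ Group.IsSolvable G) {a b c : ℕ}
    (h : ∀ r : ℕ, r.Prime → r ∣ Nat.card G → r = a ∨ r = b ∨ r = c) :
    a ∈ Cfsg.degreePrimes G ∧ b ∈ Cfsg.degreePrimes G ∧ c ∈ Cfsg.degreePrimes G := by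
  classical
  obtain ⟨x, y, z, hxy, hyz, hxz, hx, hy, hz⟩ :=
    DegPrimes72.three_of_not_solvable _ G rfl hns
  have hmem : ∀ r ∈ Cfsg.degreePrimes G, r = a ∨ r = b ∨ r = c := by
    haveI := Fintype.ofFinite G
    rintro r ⟨hr, _, ⟨χ, rfl⟩, hrd⟩
    exact h r hr (hrd.trans (BlocksCore.charDegree_dvd_card χ))
  rcases hmem x hx with rfl | rfl | rfl <;> rcases hmem y hy with rfl | rfl | rfl <;>
    rcases hmem z hz with rfl | rfl | rfl <;>
    first
    | exact absurd rfl hxy
    | exact absurd rfl hyz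
    | exact absurd rfl hxz
    | exact ⟨by assumption, by assumption, by assumption⟩

end Cfsg.Agent.SmallS16
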