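import Cfsg.Agent.SmallS16.ReduceBasic
import Cfsg.Agent.Lib.SmallGroups.Counting

set_option autoImplicit false

/-!
Groups with exactly `q + 1` Sylow subgroups of prime order `q`.
-/

namespace Cfsg.Agent.SmallS16

open Subgroup MulAction

universe u

variable {G : Type u} [Group G] [Finite G] {q : ℕ} [hq : Fact q.Prime]

theorem card_centralizer_dvd (hqG : q ∣ Nat.card G) (hq2 : ¬ q ^ 2 ∣ Nat.card G)
    (hn : Nat.card (Sylow q G) = q + 1) (P : Sylow q G) :
    Nat.card (centralizer ((P : Subgroup G) : Set G)) ∣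
      Nat.card (MulAction.toPermHom G (Sylow q G)).ker * q := by
  classical
  have hPc := card_sylow_of_not_sq hqG hq2 P
  -- `P` is regular on the other Sylow subgroups
  have hfree : ∀ R : Sylow q G, R ≠ P → ∀ g ∈ (P : Subgroup G), g • R = R → g = 1 := by
    intro R hR g hg hgR
    by_contra h1
    have h2 : (⟨g, hg⟩ : (P : Subgroup G)) ∈ MulAction.stabilizer (P : Subgroup G) R := hgR
    rw [SmallGroups.stabilizer_sylow, Subgroup.mem_subgroupOf] at h2
    exact hR (Sylow.ext ((SmallGroups.zpowers_eq_of_card_prime (card_sylow_of_not_sq hqG hq2 R) h2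
      h1).symm.trans (SmallGroups.zpowers_eq_of_card_prime hPc hg h1)))
  haveI : Nontrivial (Sylow q G) := Finite.one_lt_card_iff_nontrivial.mp (by
    rw [hn]; have := hq.out.pos; omega)
  obtain ⟨Q, hQ⟩ := exists_ne P
  set C := centralizer ((P : Subgroup G) : Set G) with hC
  have hCN : C ≤ normalizer ((P : Subgroup G) : Set G) := Subgroup.centralizer_le_normalizer _
  have hPC : (P : Subgroup G) ≤ C := by
    haveI : IsCyclic (P : Subgroup G) := isCyclic_of_prime_card hPc
    intro x hx
    rw [hC, Subgroup.mem_centralizer_iff]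
    intro y hy
    exact congrArg Subtype.val
      ((IsCyclic.commGroup (α := (P : Subgroup G))).mul_comm ⟨y, hy⟩ ⟨x, hx⟩)
  have hcard : Nat.card {R : Sylow q G // R ≠ P} = q := by
    haveI := Fintype.ofFinite (Sylow q G)
    rw [Nat.card_eq_fintype_card, Fintype.card_subtype_compl, Fintype.card_subtype_eq,
      ← Nat.card_eq_fintype_card, hn, Nat.add_sub_cancel]
  have hsurj : ∀ R : Sylow q G, R ≠ P → ∃ g ∈ (P : Subgroup G), g • Q = R := by
    let f : ↥(P : Subgroup G) → {R : Sylow q G // R ≠ P} := fun g => ⟨(g : G) • Q, fun h =>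
      hQ (by
        have hgP : (g : G)⁻¹ • P = P :=
          Sylow.smul_eq_iff_mem_normalizer.mpr (Subgroup.le_normalizer (inv_mem g.2))
        rw [← inv_smul_smul (g : G) Q, h, hgP])⟩
    have hf : Function.Injective f := fun a b hab => by
      have h1 : (a : G) • Q = (b : G) • Q := congrArg Subtype.val hab
      have h2 : ((b : G)⁻¹ * a) • Q = Q := by rw [mul_smul, h1, inv_smul_smul]
      exact Subtype.ext (eq_of_inv_mul_eq_one
        (hfree Q hQ _ (mul_mem (inv_mem b.2) a.2) h2)).symm
    have hb := hf.bijective_of_nat_card_le (by rw [hcard, hPc])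
    intro R hR
    obtain ⟨g, hg⟩ := hb.2 ⟨R, hR⟩
    exact ⟨g, g.2, congrArg Subtype.val hg⟩
  have hCP : ∀ c ∈ C, c • P = P := fun c hc => Sylow.smul_eq_iff_mem_normalizer.mpr (hCN hc)
  have horb : MulAction.orbit C Q = {R : Sylow q G | R ≠ P} := by
    ext R
    constructor
    · rintro ⟨⟨c, hc⟩, rfl⟩ h
      apply hQ
      rw [← inv_smul_smul c Q, show c • Q = P from h, hCP c⁻¹ (inv_mem hc)]
    · intro hR
      obtain ⟨g, hg, rfl⟩ := hsurj R hR
      exact ⟨⟨g, hPC hg⟩, rfl⟩
  have hidx : (MulAction.stabilizer C Q).index = q := by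
    rw [MulAction.index_stabilizer, horb, ← Nat.card_coe_set_eq]
    exact hcard
  set D := (MulAction.toPermHom G (Sylow q G)).ker
  have hD : Nat.card (MulAction.stabilizer C Q) ∣ Nat.card D := by
    refine Subgroup.card_dvd_of_injective (MonoidHom.codRestrict
      (C.subtype.comp (MulAction.stabilizer C Q).subtype) D fun c => ?_) ?_
    · rw [MonoidHom.mem_ker]
      ext R : 1
      show ((c : C) : G) • R = R
      rcases eq_or_ne R P with rfl | hR
      · exact hCP _ (c : C).2
      · obtain ⟨g, hg, rfl⟩ := hsurj R hR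
        rw [← mul_smul, ← (Subgroup.mem_centralizer_iff.mp (c : C).2 g hg), mul_smul]
        exact congrArg (g • ·) c.2
    · intro a b h
      exact Subtype.ext (Subtype.ext (congrArg (Subtype.val (p := fun x => x ∈ D)) h))
  show Nat.card C ∣ Nat.card D * q
  rw [← (MulAction.stabilizer C Q).card_mul_index, hidx]
  exact mul_dvd_mul_right hD q

theorem card_dvd_points (hqG : q ∣ Nat.card G) (hq2 : ¬ q ^ 2 ∣ Nat.card G)
    (hn : Nat.card (Sylow q G) = q + 1) :
    Nat.card G ∣ Nat.card (MulAction.toPermHom G (Sylow q G)).ker * ((q + 1) * q * (q - 1)) := by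
  obtain ⟨P⟩ := (inferInstance : Nonempty (Sylow q G))
  have hPc := card_sylow_of_not_sq hqG hq2 P
  have h1 := card_centralizer_dvd hqG hq2 hn P
  set D := (MulAction.toPermHom G (Sylow q G)).ker
  set C := centralizer ((P : Subgroup G) : Set G) with hC
  have hCN : C ≤ normalizer ((P : Subgroup G) : Set G) := Subgroup.centralizer_le_normalizer _
  have h2 : Nat.card (normalizer ((P : Subgroup G) : Set G)) ∣ Nat.card D * q * (q - 1) := by
    have h3 := SmallGroups.relIndex_centralizer_dvd_of_prime (P : Subgroup G) hPc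
    rw [← Subgroup.card_mul_index
      (C.subgroupOf (normalizer ((P : Subgroup G) : Set G))),
      Nat.card_congr (Subgroup.subgroupOfEquivOfLe hCN).toEquiv]
    exact mul_dvd_mul h1 h3
  rw [← SmallGroups.card_normalizer_mul P, hn]
  refine (mul_dvd_mul_right h2 (q + 1)).trans (dvd_of_eq ?_)
  ring

theorem card_sylow_normal_eq (K : Subgroup G) [K.Normal] (hK : ¬ q ∣ K.index) :
    Nat.card (Sylow q G) = Nat.card (Sylow q K) := by
  obtain ⟨P⟩ := (inferInstance : Nonempty (Sylow q G))
  have hle : ∀ R : Sylow q G, (R : Subgroup G) ≤ K := by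
    intro R x hx
    rw [← QuotientGroup.eq_one_iff, ← orderOf_eq_one_iff]
    obtain ⟨a, ha⟩ := IsPGroup.iff_card.mp R.2
    refine Nat.eq_one_of_dvd_coprimes
      (Nat.Coprime.pow_left a (hq.out.coprime_iff_not_dvd.mpr hK)) ?_ (orderOf_dvd_natCard _)
    exact (orderOf_map_dvd (QuotientGroup.mk' K) x).trans
      (ha ▸ Subgroup.orderOf_dvd_natCard _ hx)
  rw [SylowNum.card_sylow_subgroup P (hle P), P.card_eq_index_normalizer]
  change (normalizer (P : Set G)).index = _
  rw [SylowNum.normalizer_eq_stabilizer, ← Subgroup.relIndex_top_right]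
  refine SylowNum.relIndex_stabilizer_congr (le_top : K ≤ ⊤) P fun a _ => ?_
  obtain ⟨k, hk⟩ := MulAction.exists_smul_eq K (P.subtype (hle P)) ((a • P).subtype (hle _))
  rw [Sylow.smul_subtype] at hk
  exact ⟨k, k.2, (Sylow.subtype_injective hk).symm⟩

/-- The conjugation kernel on the Sylow subgroups avoids a normal simple subgroup. -/
theorem ker_inf_eq_bot (K : Subgroup G) [K.Normal] [IsSimpleGroup K] (hnc : ¬ IsMulCommutative K)
    (hqK : q ∣ Nat.card K) (hK : ¬ q ∣ K.index) :
    (MulAction.toPermHom G (Sylow q G)).ker ⊓ K = ⊥ := by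
  set D := (MulAction.toPermHom G (Sylow q G)).ker
  have hDn : (D.subgroupOf K).Normal := inferInstance
  rcases hDn.eq_bot_or_eq_top with h | h
  · rw [Subgroup.subgroupOf_eq_bot] at h
    exact h.eq_bot
  · exfalso
    obtain ⟨R⟩ := (inferInstance : Nonempty (Sylow q K))
    obtain ⟨P, hP⟩ := R.exists_comap_subtype_eq
    apply SmallGroups.card_sylow_ne_one hnc hqK
    haveI : (R : Subgroup K).Normal := by
      constructor
      intro x hx g
      rw [← hP, Subgroup.mem_comap] at hx ⊢
      have hg : (g : G) • P = P := by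
        have h1 : (g : G) ∈ D := Subgroup.subgroupOf_eq_top.mp h g.2
        have h2 := Equiv.Perm.congr_fun (MonoidHom.mem_ker.mp h1) P
        exact h2
      exact (Subgroup.mem_normalizer_iff.mp (Sylow.smul_eq_iff_mem_normalizer.mp hg) _).mp hx
    have := Sylow.unique_of_normal R inferInstance
    exact Nat.card_unique

end Cfsg.Agent.SmallS16
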