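import Cfsg.Agent.SmallS16.ReduceMiddle
import Cfsg.Agent.SmallS16.ReducePoints

set_option autoImplicit false

/-!
A large prime outside the simple section has a normal Sylow subgroup.
-/

namespace Cfsg.Agent.SmallS16

open Subgroup

universe u

variable {G : Type u} [Group G] [Finite G]

theorem card_comap_mk (R : Subgroup G) [R.Normal] (A : Subgroup (G ⧸ R)) :
    Nat.card (A.comap (QuotientGroup.mk' R)) = Nat.card R * Nat.card A := by
  apply Nat.eq_of_mul_eq_mul_right (Nat.pos_of_ne_zero (A.index_ne_zero_of_finite))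
  rw [mul_assoc, A.card_mul_index]
  conv_lhs => rw [← Subgroup.index_comap_of_surjective A (QuotientGroup.mk'_surjective R)]
  rw [Subgroup.card_mul_index, mul_comm]
  exact Subgroup.card_eq_card_quotient_mul_card_subgroup R

theorem card_dvd_index_of_inf_eq_bot (A T : Subgroup G) [T.Normal] (h : A ⊓ T = ⊥) :
    Nat.card A ∣ T.index := by
  refine Subgroup.card_dvd_of_injective ((QuotientGroup.mk' T).comp A.subtype)
    ((injective_iff_map_eq_one _).mpr fun a ha => Subtype.ext ?_)
  have h1 : (a : G) ∈ A ⊓ T := Subgroup.mem_inf.mpr ⟨a.2, (QuotientGroup.eq_one_iff _).mp ha⟩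
  rwa [h, Subgroup.mem_bot] at h1

theorem isSimple_of_card (hns : ¬ Group.IsSolvable G) (h : Nat.card G = 60 ∨ Nat.card G = 168) :
    IsSimpleGroup G ∧ ¬ IsMulCommutative G := by
  have key : ∀ d, d ∣ Nat.card G → (d = 60 ∨ d = 168 ∨ d = 360 ∨ d = 504 ∨ d = 660 ∨ d = 1092) →
      d = Nat.card G := by
    intro d hd hm
    rcases h with h | h <;> rw [h] at hd ⊢ <;> rcases hm with rfl | rfl | rfl | rfl | rfl | rfl <;>
      first | rfl | (norm_num at hd)
  have hle : Nat.card G ≤ 1092 := by rcases h with h | h <;> omega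
  have hS : ∀ (T : Type u) [Group T] [Finite T] [IsSimpleGroup T], ¬ IsMulCommutative T →
      Nat.card T ∣ Nat.card G → Nat.card T = Nat.card G := fun T _ _ _ hT hd =>
    key _ hd (S0496.result hT ((Nat.le_of_dvd Nat.card_pos hd).trans hle))
  rcases exists_section hns (fun T _ _ _ hT hd => Or.inl (hS T hT hd)) with h' |
    ⟨R, hR, T, hT, hTs, hTc, hne, heq⟩
  · exact h'
  · exact absurd (hS T hTc ⟨Nat.card R * T.index, by rw [← heq]; ring⟩) hne

theorem pow_dvd_normalizer_of_noHit (T : Subgroup G) [T.Normal] {p : ℕ} (hp : p.Prime)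
    {P : Subgroup G} (hP : Nat.card P = p) (hpT : ¬ p ∣ Nat.card T) {l a : ℕ} (hl : l.Prime)
    (h1 : l ^ a ∣ Nat.card T) (h2 : ¬ l ^ (a + 1) ∣ Nat.card T)
    (hno : ∀ i, 0 < i → i ≤ a → l ^ i % p ≠ 1) :
    l ^ a ∣ Nat.card (normalizer (P : Set G)) := by
  haveI := Fact.mk hp
  haveI := Fact.mk hl
  obtain ⟨L, hL⟩ := SylowNum.exists_sylow_normalized P T (IsPGroup.of_card (n := 1)
    (by rw [hP, pow_one])) (by rw [Subgroup.normalizer_eq_top]; exact le_top) hpT l
  obtain ⟨m, hm⟩ := h1
  have hLc : Nat.card ((L : Subgroup T).map T.subtype) = l ^ a := by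
    rw [Subgroup.card_map_of_injective T.subtype_injective]
    exact SmallGroups.card_sylow_eq hm
      (fun h => h2 (by rw [hm, pow_succ]; exact mul_dvd_mul_left _ h)) L
  rw [← hLc]
  refine Subgroup.card_dvd_of_le (le_normalizer_of_no_hit hp hP hL ?_ ?_)
  · rw [hLc]
    exact fun h => hpT ((hp.dvd_of_dvd_pow h).trans
      ((dvd_pow_self l (fun ha => by simp [ha] at h; exact hp.ne_one h)).trans (Dvd.intro m hm.symm)))
  · rw [hLc]
    exact dvd_eq_one hl hno

/-- If the normalizer of an element of order `p` in the quotient is large, `p` is not a degree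
prime. -/
theorem not_mem_of_normalizer (R : Subgroup G) [R.Normal] {p : ℕ} (hp : p.Prime)
    (hp2 : ¬ p ^ 2 ∣ Nat.card G) (hpG : p ∣ Nat.card G) (hR : Nat.card R < p + 1) (c : ℕ)
    (hcp : ¬ p ∣ c) (hc : ∀ P : Subgroup (G ⧸ R), Nat.card P = p → c ∣ Nat.card (normalizer (P : Set (G ⧸ R))))
    (hsmall : Nat.card (G ⧸ R) < p * c * (p + 1)) : p ∉ Cfsg.degreePrimes G := by
  haveI := Fact.mk hp
  by_cases hpR : p ∣ Nat.card R
  · exact not_mem_of_small_normal R hp hp2 hpR
      (lt_of_lt_of_le hR (Nat.le_mul_of_pos_left _ hp.pos))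
  have hQ : Nat.card (G ⧸ R) ∣ Nat.card G := Subgroup.card_quotient_dvd_card R
  have hpQ : p ∣ Nat.card (G ⧸ R) :=
    (hp.dvd_mul.mp (Subgroup.card_eq_card_quotient_mul_card_subgroup R ▸ hpG)).resolve_right hpR
  obtain ⟨P⟩ := (inferInstance : Nonempty (Sylow p (G ⧸ R)))
  have hPc := card_sylow_of_not_sq hpQ (fun h => hp2 (h.trans hQ)) P
  have hN := SmallGroups.card_normalizer_mul P
  have h1 : p * c ∣ Nat.card (normalizer ((P : Subgroup (G ⧸ R)) : Set (G ⧸ R))) := by
    refine (hp.coprime_iff_not_dvd.mpr hcp).mul_dvd_of_dvd_of_dvd ?_ (hc _ hPc)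
    exact (dvd_of_eq hPc.symm).trans (Subgroup.card_dvd_of_le Subgroup.le_normalizer)
  have h2 := Nat.le_of_dvd Nat.card_pos h1
  have hnp : Nat.card (Sylow p (G ⧸ R)) = 1 := by
    have h3 := card_sylow_modEq_one p (G ⧸ R)
    have h4 : Nat.card (Sylow p (G ⧸ R)) < p + 1 := by
      by_contra h
      have := Nat.mul_le_mul h2 (not_lt.mp h)
      omega
    have h5 : Nat.card (Sylow p (G ⧸ R)) % p = 1 := by
      rw [h3]; exact Nat.mod_eq_of_lt hp.one_lt
    rcases Nat.lt_or_eq_of_le (Nat.lt_succ_iff.mp h4) with h6 | h6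
    · rwa [Nat.mod_eq_of_lt h6] at h5
    · rw [h6, Nat.mod_self] at h5; omega
  haveI := SmallGroups.normal_of_card_sylow_eq_one hnp P
  refine not_mem_of_small_normal ((P : Subgroup (G ⧸ R)).comap (QuotientGroup.mk' R)) hp hp2 ?_ ?_
  · rw [card_comap_mk, hPc]; exact dvd_mul_left p _
  · rw [card_comap_mk, hPc, mul_comm]
    exact Nat.mul_lt_mul_of_pos_left hR hp.pos

/-- The case of a simple section of order 360 in a group of order 2520. -/
theorem not_mem_seven (hG : Nat.card G = 2520) (R : Subgroup G) [R.Normal]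
    (T : Subgroup (G ⧸ R)) [T.Normal] [IsSimpleGroup T] (hT : Nat.card T = 360)
    (heq : Nat.card R * (Nat.card T * T.index) = Nat.card G) : 7 ∉ Cfsg.degreePrimes G := by
  haveI : Fact (Nat.Prime 7) := ⟨by norm_num⟩
  have h7 : ¬ 7 ^ 2 ∣ Nat.card G := by rw [hG]; norm_num
  have hRe : Nat.card R * T.index = 7 := by rw [hT, hG] at heq; nlinarith
  rcases (Nat.dvd_prime (by norm_num : Nat.Prime 7)).mp (Dvd.intro _ hRe) with hR | hR
  swap
  · exact not_mem_of_small_normal R (by norm_num) h7 (by rw [hR]) (by rw [hR]; norm_num)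
  have he : T.index = 7 := by rw [hR, one_mul] at hRe; exact hRe
  have hQ : Nat.card (G ⧸ R) = 2520 := by
    rw [← T.card_mul_index, hT, he]
  obtain ⟨P⟩ := (inferInstance : Nonempty (Sylow 7 (G ⧸ R)))
  have hPc := card_sylow_of_not_sq (p := 7) (by rw [hQ]; norm_num) (by rw [hQ]; norm_num) P
  have hN := SmallGroups.card_normalizer_mul P
  rw [hQ] at hN
  have h45 : 7 * 45 ∣ Nat.card (normalizer ((P : Subgroup (G ⧸ R)) : Set (G ⧸ R))) := by
    refine Nat.Coprime.mul_dvd_of_dvd_of_dvd (by norm_num)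
      ((dvd_of_eq hPc.symm).trans (Subgroup.card_dvd_of_le Subgroup.le_normalizer)) ?_
    rw [show 45 = 3 ^ 2 * 5 ^ 1 by norm_num]
    refine Nat.Coprime.mul_dvd_of_dvd_of_dvd (by norm_num) ?_ ?_
    · exact pow_dvd_normalizer_of_noHit T (by norm_num) hPc (by rw [hT]; norm_num) Nat.prime_three
        (by rw [hT]; norm_num) (by rw [hT]; norm_num) (by intro i hi hi2; interval_cases i <;> norm_num)
    · exact pow_dvd_normalizer_of_noHit T (by norm_num) hPc (by rw [hT]; norm_num) Nat.prime_five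
        (by rw [hT]; norm_num) (by rw [hT]; norm_num) (by intro i hi hi2; interval_cases i <;> norm_num)
  obtain ⟨k, hk⟩ := h45
  have hmod := card_sylow_modEq_one 7 (G ⧸ R)
  have hk8 : Nat.card (Sylow 7 (G ⧸ R)) = 1 ∨ Nat.card (Sylow 7 (G ⧸ R)) = 8 := by
    rw [hk] at hN
    have hkn : k * Nat.card (Sylow 7 (G ⧸ R)) = 8 := by nlinarith
    have hle := Nat.le_of_dvd (by norm_num) (Dvd.intro_left _ hkn)
    have hd := Dvd.intro_left _ hkn
    have h1 : Nat.card (Sylow 7 (G ⧸ R)) % 7 = 1 := hmod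
    interval_cases hc : Nat.card (Sylow 7 (G ⧸ R)) <;> simp_all
  rcases hk8 with hn | hn
  · haveI := SmallGroups.normal_of_card_sylow_eq_one hn P
    refine not_mem_of_small_normal ((P : Subgroup (G ⧸ R)).comap (QuotientGroup.mk' R))
      (by norm_num) h7 ?_ ?_ <;> rw [card_comap_mk, hPc, hR] <;> norm_num
  · set D := (MulAction.toPermHom (G ⧸ R) (Sylow 7 (G ⧸ R))).ker with hD
    have hDT : D ⊓ T = ⊥ := by
      have hDn : (D.subgroupOf T).Normal := inferInstance
      rcases hDn.eq_bot_or_eq_top with h | h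
      · rw [Subgroup.subgroupOf_eq_bot] at h
        exact h.eq_bot
      · exfalso
        have hle : T ≤ normalizer ((P : Subgroup (G ⧸ R)) : Set (G ⧸ R)) := fun g hg =>
          Sylow.smul_eq_iff_mem_normalizer.mp
            (Equiv.Perm.congr_fun (MonoidHom.mem_ker.mp (Subgroup.subgroupOf_eq_top.mp h hg)) P)
        have := Subgroup.card_dvd_of_le hle
        rw [hn] at hN
        rw [hT, show Nat.card (normalizer ((P : Subgroup (G ⧸ R)) : Set (G ⧸ R))) = 315 by omega] at this
        norm_num at this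
    have h1 := card_dvd_index_of_inf_eq_bot D T hDT
    have h2 := card_dvd_points (q := 7) (by rw [hQ]; norm_num) (by rw [hQ]; norm_num) hn
    rw [hQ, ← hD] at h2
    rw [he] at h1
    rcases (Nat.dvd_prime (by norm_num : Nat.Prime 7)).mp h1 with hDc | hDc
    · rw [hDc] at h2; norm_num at h2
    · refine not_mem_of_small_normal (D.comap (QuotientGroup.mk' R)) (by norm_num) h7 ?_ ?_ <;>
        rw [card_comap_mk, hDc, hR] <;> norm_num

/-- A group of order 504 with a simple section of order 168 has a quotient of order 168. -/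
theorem exists_index_168 (hG : Nat.card G = 504) (R : Subgroup G) [R.Normal]
    (T : Subgroup (G ⧸ R)) [T.Normal] [IsSimpleGroup T] (hTc : ¬ IsMulCommutative T)
    (hT : Nat.card T = 168) (heq : Nat.card R * (Nat.card T * T.index) = Nat.card G) :
    ∃ C : Subgroup G, C.Normal ∧ Nat.card C = 3 := by
  haveI : Fact (Nat.Prime 7) := ⟨by norm_num⟩
  have hRe : Nat.card R * T.index = 3 := by rw [hT, hG] at heq; nlinarith
  rcases (Nat.dvd_prime Nat.prime_three).mp (Dvd.intro _ hRe) with hR | hR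
  swap
  · exact ⟨R, inferInstance, hR⟩
  have he : T.index = 3 := by rw [hR, one_mul] at hRe; exact hRe
  have hQ : Nat.card (G ⧸ R) = 504 := by rw [← T.card_mul_index, hT, he]
  have hn : Nat.card (Sylow 7 (G ⧸ R)) = 7 + 1 := by
    rw [card_sylow_normal_eq T (by rw [he]; norm_num)]
    have h1 := SmallGroups.card_sylow_mem_list (G := T) (p := 7) (a := 1) (m := 24)
      (by rw [hT]; norm_num) (by norm_num)
    rw [show (24 : ℕ).divisors.filter (fun d => d % 7 = 1) = {1, 8} by decide] at h1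
    simp only [Finset.mem_insert, Finset.mem_singleton] at h1
    exact h1.resolve_left (SmallGroups.card_sylow_ne_one hTc (by rw [hT]; norm_num))
  set D := (MulAction.toPermHom (G ⧸ R) (Sylow 7 (G ⧸ R))).ker with hD
  have h1 := card_dvd_index_of_inf_eq_bot D T
    (ker_inf_eq_bot T hTc (by rw [hT]; norm_num) (by rw [he]; norm_num))
  have h2 := card_dvd_points (q := 7) (by rw [hQ]; norm_num) (by rw [hQ]; norm_num) hn
  rw [hQ, ← hD] at h2
  rw [he] at h1
  rcases (Nat.dvd_prime Nat.prime_three).mp h1 with hDc | hDc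
  · rw [hDc] at h2; norm_num at h2
  · exact ⟨D.comap (QuotientGroup.mk' R), inferInstance, by rw [card_comap_mk, hDc, hR]⟩

end Cfsg.Agent.SmallS16
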