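import Cfsg.Agent.SmallS16.ReduceCases
import Cfsg.Agent.CharDeep.Deg.DegreeP
import Cfsg.Agent.S0188
import Cfsg.Agent.S4812

set_option autoImplicit false

/-!
Groups of order 360 with a simple section of order 60.
-/

namespace Cfsg.Agent.SmallS16

open Subgroup CharDeep
open scoped ComplexConjugate

universe u

variable {G : Type u} [Group G] [Finite G]

theorem prime_of_card_sixty (hG : Nat.card G = 60) (r : ℕ) (hr : r.Prime) (h : r ∣ Nat.card G) :
    r = 2 ∨ r = 3 ∨ r = 5 := by
  rw [hG] at h
  have hle := Nat.le_of_dvd (by norm_num) h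
  interval_cases r <;> first | omega | (norm_num at hr)

/-- An abelian subgroup of order six is cyclic. -/
theorem isCyclic_six {C : Type u} [Group C] [Finite C] (h : Nat.card C = 6)
    (hc : ∀ a b : C, a * b = b * a) : IsCyclic C := by
  haveI : Fact (Nat.Prime 2) := ⟨Nat.prime_two⟩
  haveI : Fact (Nat.Prime 3) := ⟨Nat.prime_three⟩
  obtain ⟨a, ha⟩ := exists_prime_orderOf_dvd_card' (G := C) 2 (by rw [h]; norm_num)
  obtain ⟨b, hb⟩ := exists_prime_orderOf_dvd_card' (G := C) 3 (by rw [h]; norm_num)
  refine isCyclic_of_orderOf_eq_card (a * b) ?_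
  rw [(show Commute a b from hc a b).orderOf_mul_eq_mul_orderOf_of_coprime (by rw [ha, hb]; norm_num),
    ha, hb, h]

theorem card_mulAut_dvd {C : Type u} [Group C] [Finite C] :
    Nat.card (MulAut C) ∣ (Nat.card C - 1).factorial := by
  classical
  haveI := Fintype.ofFinite C
  let f : MulAut C →* Equiv.Perm {x : C // x ≠ 1} :=
    { toFun := fun φ => φ.toEquiv.subtypeEquiv fun a => (map_ne_one_iff φ φ.injective).symm
      map_one' := by ext x; rfl
      map_mul' := fun φ ψ => by ext x; rfl }
  have hf : Function.Injective f := fun φ ψ h => by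
    refine MulEquiv.ext fun x => ?_
    rcases eq_or_ne x 1 with rfl | hx
    · rw [map_one, map_one]
    · exact congrArg Subtype.val (Equiv.Perm.congr_fun h ⟨x, hx⟩)
  refine (Subgroup.card_dvd_of_injective f hf).trans (dvd_of_eq ?_)
  rw [Nat.card_perm, Nat.card_eq_fintype_card, Fintype.card_subtype_compl, Fintype.card_subtype_eq,
    Nat.card_eq_fintype_card]

/-- A normal subgroup of order six with a nonabelian simple quotient of order sixty. -/
theorem six_case (hG : Nat.card G = 360) (hns : ¬ Group.IsSolvable G) (C : Subgroup G) [C.Normal]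
    (hC : Nat.card C = 6) : (Cfsg.degreeGraph G).Adj 2 3 ∨ ¬ (Cfsg.degreeGraph G).Adj 2 5 := by
  classical
  haveI := Fintype.ofFinite G
  have hQ : Nat.card (G ⧸ C) = 60 := by
    have h := Subgroup.card_eq_card_quotient_mul_card_subgroup C
    rw [hG, hC] at h
    omega
  haveI : Group.IsSolvable C := isSolvable_of_lt (by rw [hC]; norm_num) (by rw [hC]; norm_num)
  have hQns : ¬ Group.IsSolvable (G ⧸ C) := fun h =>
    hns (Group.isSolvable_of_ker_le_range C.subtype (QuotientGroup.mk' C) (by simp))
  obtain ⟨hQs, -⟩ := isSimple_of_card hQns (Or.inl hQ)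
  haveI := hQs
  set Z := centralizer (C : Set G) with hZ
  have hconj : Z.index ∣ Nat.card (MulAut C) := by
    have hk : (MulAut.conjNormal (H := C)).ker = Z := by
      ext x
      rw [MonoidHom.mem_ker, hZ, Subgroup.mem_centralizer_iff]
      constructor
      · intro h y hy
        have h1 := congrArg Subtype.val (MulEquiv.congr_fun h ⟨y, hy⟩)
        rw [MulAut.conjNormal_apply, MulAut.one_apply] at h1
        exact (mul_inv_eq_iff_eq_mul.mp h1).symm
      · intro h
        refine MulEquiv.ext fun y => Subtype.ext ?_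
        rw [MulAut.conjNormal_apply, MulAut.one_apply, mul_inv_eq_iff_eq_mul, h y y.2]
    rw [← hk, Subgroup.index_ker]
    exact Subgroup.card_subgroup_dvd_card _
  have hZQ : (Z.map (QuotientGroup.mk' C)).Normal :=
    Subgroup.Normal.map inferInstance _ (QuotientGroup.mk'_surjective C)
  by_cases hab : ∀ a b : C, a * b = b * a
  · right
    haveI := isCyclic_six hC hab
    have hA : Nat.card (MulAut C) = 2 := by rw [IsCyclic.card_mulAut, hC]; rfl
    have hCZ : C ≤ Z := fun x hx => by
      rw [hZ, Subgroup.mem_centralizer_iff]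
      exact fun y hy => congrArg Subtype.val (hab ⟨y, hy⟩ ⟨x, hx⟩)
    have hZt : Z = ⊤ := by
      rcases hZQ.eq_bot_or_eq_top with h | h
      · exfalso
        rw [Subgroup.map_eq_bot_iff, QuotientGroup.ker_mk'] at h
        have h1 : Z = C := le_antisymm h hCZ
        rw [hA, h1] at hconj
        have h2 := Nat.le_of_dvd (by norm_num) hconj
        have h3 := C.card_mul_index
        rw [hG, hC] at h3
        omega
      · rw [eq_top_iff, ← Subgroup.comap_top (QuotientGroup.mk' C), ← h, Subgroup.comap_map_eq,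
          QuotientGroup.ker_mk']
        exact sup_le le_rfl hCZ
    have hCc : C ≤ center G := fun x hx => by
      refine Subgroup.mem_center_iff.mpr fun g => ?_
      have hg : g ∈ Z := by rw [hZt]; exact mem_top g
      exact ((Subgroup.mem_centralizer_iff.mp hg) x hx).symm
    rintro ⟨-, -, -, _, ⟨χ, rfl⟩, hd⟩
    have h1 := Deg.degree_sq_le_index_center χ
    have h2 := Nat.le_of_dvd (Deg.degree_pos χ) hd
    have h3 : (center G).index ≤ 60 := by
      refine le_trans (Nat.le_of_dvd (Nat.pos_of_ne_zero C.index_ne_zero_of_finite)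
        (Subgroup.index_dvd_of_le hCc)) ?_
      have h4 := C.card_mul_index
      rw [hG, hC] at h4
      omega
    nlinarith
  · left
    have hnc : ¬ IsMulCommutative C := fun h => hab (isMulCommutative_iff.mp h)
    have hcC : center C = ⊥ := by
      by_contra hne
      apply hab
      intro a b
      have h1 : Nat.card (center C) ≠ 1 := fun h => hne (Subgroup.card_eq_one.mp h)
      have h2 := Subgroup.card_eq_card_quotient_mul_card_subgroup (center C)
      rw [hC] at h2
      have h3 : Nat.card (C ⧸ center C) ≤ 3 := by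
        by_contra h
        have h5 : 2 ≤ Nat.card (center C) := by
          have : 0 < Nat.card (center C) := Nat.card_pos
          omega
        have := Nat.mul_le_mul (not_le.mp h) h5
        omega
      have hcyc : IsCyclic (C ⧸ center C) := by
        have hpos : 0 < Nat.card (C ⧸ center C) := Nat.card_pos
        interval_cases hcc : Nat.card (C ⧸ center C)
        · haveI := (Nat.card_eq_one_iff_unique.mp hcc).1
          infer_instance
        · haveI : Fact (Nat.Prime 2) := ⟨Nat.prime_two⟩
          exact isCyclic_of_prime_card hcc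
        · haveI : Fact (Nat.Prime 3) := ⟨Nat.prime_three⟩
          exact isCyclic_of_prime_card hcc
      exact commutative_of_cyclic_center_quotient (QuotientGroup.mk' (center C))
        (by rw [QuotientGroup.ker_mk']) a b
    have hinf : C ⊓ Z = ⊥ := by
      rw [eq_bot_iff]
      intro x hx
      obtain ⟨hx1, hx2⟩ := Subgroup.mem_inf.mp hx
      have h1 : (⟨x, hx1⟩ : C) ∈ center C := Subgroup.mem_center_iff.mpr fun y =>
        Subtype.ext ((Subgroup.mem_centralizer_iff.mp hx2) y y.2)
      rw [hcC, Subgroup.mem_bot] at h1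
      exact congrArg Subtype.val h1
    have hsup : Z ⊔ C = ⊤ := by
      rcases hZQ.eq_bot_or_eq_top with h | h
      · exfalso
        rw [Subgroup.map_eq_bot_iff, QuotientGroup.ker_mk'] at h
        have h1 : Z = ⊥ := by rw [← hinf]; exact (inf_eq_right.mpr h).symm
        have h2 := hconj.trans card_mulAut_dvd
        rw [h1, Subgroup.index_bot, hG, hC] at h2
        norm_num [Nat.factorial] at h2
      · rw [← Subgroup.comap_top (QuotientGroup.mk' C), ← h, Subgroup.comap_map_eq,
          QuotientGroup.ker_mk']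
    let g : Z →* G ⧸ C := (QuotientGroup.mk' C).comp Z.subtype
    have hgi : Function.Injective g := (injective_iff_map_eq_one _).mpr fun z hz => by
      have h1 : (z : G) ∈ C ⊓ Z := Subgroup.mem_inf.mpr ⟨(QuotientGroup.eq_one_iff _).mp hz, z.2⟩
      rw [hinf, Subgroup.mem_bot] at h1
      exact Subtype.ext h1
    have hgs : Function.Surjective g := fun y => by
      obtain ⟨x, rfl⟩ := QuotientGroup.mk'_surjective C y
      obtain ⟨z, hz, c, hc, rfl⟩ := Subgroup.mem_sup_of_normal_right.mp (hsup ▸ mem_top x : x ∈ Z ⊔ C)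
      exact ⟨⟨z, hz⟩, (QuotientGroup.mk_mul_of_mem z hc).symm⟩
    let eg : Z ≃* G ⧸ C := MulEquiv.ofBijective g ⟨hgi, hgs⟩
    have hZc : Nat.card Z = 60 := (Nat.card_congr eg.toEquiv).trans hQ
    have hZns : ¬ Group.IsSolvable Z := fun h =>
      hQns (Group.isSolvable_of_surjective (f := eg.toMonoidHom) eg.surjective)
    obtain ⟨-, h3, -⟩ := mem_degreePrimes_of_three hZns (prime_of_card_sixty hZc)
    obtain ⟨-, _, ⟨θ, rfl⟩, hθ⟩ := h3
    haveI := Fintype.ofFinite C
    obtain ⟨φ, hφ⟩ : ∃ φ : Cfsg.IrrCharacter C, Cfsg.charDegree (φ : C → ℂ) = 2 := by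
      by_contra hno
      push Not at hno
      refine hab fun a b => Deg.commute_of_degree_one (fun φ => ?_) a b
      have h1 := Deg.degree_sq_le_index_center φ
      rw [hcC, Subgroup.index_bot, hC] at h1
      have h2 := Deg.degree_pos φ
      have h3 := hno φ
      have h4 : Cfsg.charDegree (φ : C → ℂ) ≤ 2 := by nlinarith
      omega
    let f : C × Z →* G := MonoidHom.mk' (fun x => (x.1 : G) * x.2) fun x y => by
      simp only [Prod.fst_mul, Prod.snd_mul, Subgroup.coe_mul]
      have hxy : (y.1 : G) * x.2 = x.2 * y.1 := (Subgroup.mem_centralizer_iff.mp x.2.2) y.1 y.1.2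
      rw [mul_assoc (x.1 : G), ← mul_assoc (y.1 : G), hxy]
      simp only [mul_assoc]
    have hfi : Function.Injective f := (injective_iff_map_eq_one _).mpr fun x hx => by
      have h1 : (x.1 : G) = (x.2 : G)⁻¹ := eq_inv_of_mul_eq_one_left hx
      have h2 : (x.1 : G) ∈ C ⊓ Z := Subgroup.mem_inf.mpr ⟨x.1.2, h1 ▸ inv_mem x.2.2⟩
      rw [hinf, Subgroup.mem_bot] at h2
      have h4 : (x.2 : G) = 1 := by rw [h2] at h1; exact inv_eq_one.mp h1.symm
      exact Prod.ext (Subtype.ext h2) (Subtype.ext h4)
    have hfb := hfi.bijective_of_nat_card_le (by rw [Nat.card_prod, hC, hZc, hG])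
    let e : C × Z ≃* G := MulEquiv.ofBijective f hfb
    have hdeg : Cfsg.charDegree (φ : C → ℂ) * Cfsg.charDegree (θ : Z → ℂ) ∈
        Cfsg.charDegrees (C × Z) := by
      refine ⟨⟨_, S0188.isIrrCharacter_prod φ.2 θ.2⟩, Deg.degree_of_eq ?_⟩
      show (φ : C → ℂ) 1 * (θ : Z → ℂ) 1 = _
      rw [Deg.apply_one φ, Deg.apply_one θ, Nat.cast_mul]
    rw [S4812.charDegrees_congr e] at hdeg
    refine ⟨by norm_num, Nat.prime_two, Nat.prime_three, _, hdeg, ?_⟩
    rw [hφ]
    exact Nat.mul_dvd_mul_left 2 hθ

/-- A group of order 120 containing a simple group of order 60 and acting faithfully on its six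
Sylow 5-subgroups has a degree divisible by six. -/
theorem adj_of_card_120 (hG : Nat.card G = 120) (T : Subgroup G) [T.Normal] [IsSimpleGroup T]
    (hTc : ¬ IsMulCommutative T) (hT : Nat.card T = 60)
    (hn : Nat.card (Sylow 5 G) = 6) [Fact (Nat.Prime 5)]
    (hD : (MulAction.toPermHom G (Sylow 5 G)).ker = ⊥) : (Cfsg.degreeGraph G).Adj 2 3 := by
  classical
  haveI := Fintype.ofFinite G
  have hTns : ¬ Group.IsSolvable T := fun h =>
    hTc (isMulCommutative_iff.mpr fun a b => (IsSimpleGroup.comm_iff_isSolvable.mpr h) a b)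
  obtain ⟨-, h3, -⟩ := mem_degreePrimes_of_three hTns (prime_of_card_sixty hT)
  obtain ⟨-, _, ⟨θ, rfl⟩, hθ⟩ := h3
  obtain ⟨χ, hχ⟩ := Deg.exists_dvd_of_normal T θ
  have hd3 := hθ.trans hχ
  set d := Cfsg.charDegree (χ : G → ℂ) with hd
  by_cases h6 : 6 ∣ d
  · exact ⟨by norm_num, Nat.prime_two, Nat.prime_three, d, ⟨χ, rfl⟩, h6⟩
  exfalso
  have hdG : d ∣ 120 := hG ▸ BlocksCore.charDegree_dvd_card χ
  have hsq : d ^ 2 ≤ 120 := by
    refine (Deg.degree_sq_le_index_center χ).trans (Nat.le_of_dvd (by norm_num) ?_)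
    exact hG ▸ Subgroup.index_dvd_card _
  have hd10 : d < 11 := by nlinarith
  have hd3' : d = 3 := by
    clear_value d
    interval_cases d <;> omega
  -- a generator of a Sylow 5-subgroup is conjugate to all its nontrivial powers
  obtain ⟨P⟩ := (inferInstance : Nonempty (Sylow 5 G))
  have h5 : ¬ 5 ^ 2 ∣ Nat.card G := by rw [hG]; norm_num
  have hPc := card_sylow_of_not_sq (by rw [hG]; norm_num) h5 P
  have hCd := card_centralizer_dvd (by rw [hG]; norm_num) h5 hn P
  rw [hD, Subgroup.card_bot, one_mul] at hCd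
  set N := normalizer ((P : Subgroup G) : Set G) with hN
  have hNc : Nat.card N = 20 := by
    have h := SmallGroups.card_normalizer_mul P
    rw [hn, hG, ← hN] at h
    omega
  haveI : IsCyclic (P : Subgroup G) := isCyclic_of_prime_card hPc
  letI : CommGroup (P : Subgroup G) := IsCyclic.commGroup
  have hsurj : Function.Surjective (Subgroup.normalizerMonoidHom (P : Subgroup G)) := by
    rw [← MonoidHom.range_eq_top, ← Subgroup.card_eq_iff_eq_top]
    refine le_antisymm (Subgroup.card_le_card_group _) ?_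
    rw [IsCyclic.card_mulAut, hPc, show Nat.totient 5 = 4 from rfl, ← Subgroup.index_ker,
      Subgroup.normalizerMonoidHom_ker]
    have h1 := ((centralizer ((P : Subgroup G) : Set G)).subgroupOf N).card_mul_index
    rw [hNc, Nat.card_congr (Subgroup.subgroupOfEquivOfLe
      (Subgroup.centralizer_le_normalizer _)).toEquiv] at h1
    have hle := Nat.le_of_dvd (by norm_num) hCd
    by_contra h
    rw [← hN] at h
    have h2 := Nat.mul_le_mul hle (Nat.le_of_lt_succ (not_le.mp h))
    omega
  obtain ⟨g, hg⟩ := IsCyclic.exists_generator (α := (P : Subgroup G))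
  have hval : ∀ h : (P : Subgroup G), h ≠ 1 → (χ : G → ℂ) (h : G) = (χ : G → ℂ) (g : G) := by
    intro h hh
    obtain ⟨k, hk⟩ := (Subgroup.mem_zpowers_iff).mp (hg h)
    have hcop : (Nat.card (P : Subgroup G)).Coprime k.natAbs := by
      rw [hPc, (Fact.out : Nat.Prime 5).coprime_iff_not_dvd]
      intro h5k
      obtain ⟨m, rfl⟩ := Int.ofNat_dvd_left.mpr h5k
      apply hh
      have hg5 : g ^ 5 = 1 := (congrArg (g ^ ·) hPc.symm).trans pow_card_eq_one'
      rw [← hk, zpow_mul, zpow_natCast, hg5, one_zpow]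
    let α : MulAut (P : Subgroup G) :=
      { toEquiv := (powCoprime hcop)
        map_mul' := fun x y => mul_pow x y _ }
    rcases Int.natAbs_eq k with hk' | hk'
    · obtain ⟨n, hn'⟩ := hsurj α
      have h1 : (Subgroup.normalizerMonoidHom (P : Subgroup G) n g : G) = (n : G) * g * (n : G)⁻¹ := rfl
      rw [hn'] at h1
      rw [show (h : G) = ((α g : (P : Subgroup G)) : G) by
        rw [← hk, hk', zpow_natCast]; rfl, h1]
      exact CharCore.irr_isClassFunction χ _ _
    · obtain ⟨n, hn'⟩ := hsurj ((MulEquiv.inv (P : Subgroup G)) * α)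
      have h1 : (Subgroup.normalizerMonoidHom (P : Subgroup G) n g : G) = (n : G) * g * (n : G)⁻¹ := rfl
      rw [hn'] at h1
      rw [show (h : G) = (((MulEquiv.inv (P : Subgroup G) * α) g : (P : Subgroup G)) : G) by
        rw [← hk, hk', zpow_neg, zpow_natCast]; rfl, h1]
      exact CharCore.irr_isClassFunction χ _ _
  set v := (χ : G → ℂ) (g : G) with hv
  -- the multiplicity of the trivial character on the Sylow subgroup
  obtain ⟨m, hm⟩ := CharCore.IsCharacter.exists_classInner_eq_natCast
    (CharCore.isCharacter_restrict (CharCore.irr_isCharacter χ) (P : Subgroup G))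
    CharCore.isCharacter_one
  have hsum : (m : ℂ) * 5 = 3 + 4 * v := by
    rw [← hm, CharCore.classInner_def, hPc]
    have h1 : ∑ h : (P : Subgroup G), (χ : G → ℂ) (h : G) * conj ((1 : ↥(P : Subgroup G) → ℂ) h) =
        3 + 4 * v := by
      rw [← Finset.add_sum_erase Finset.univ _ (Finset.mem_univ (1 : (P : Subgroup G)))]
      rw [Finset.sum_eq_card_nsmul (b := v) fun h hh => by
        rw [Pi.one_apply, map_one, mul_one]
        exact hval h (Finset.mem_erase.mp hh).1]
      rw [Finset.card_erase_of_mem (Finset.mem_univ _), Finset.card_univ,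
        ← Nat.card_eq_fintype_card, hPc, Pi.one_apply, map_one, mul_one, Subgroup.coe_one,
        Deg.apply_one χ, ← hd, hd3', nsmul_eq_mul]
      norm_num
    rw [h1]
    push_cast
    ring
  have hint : IsIntegral ℤ v := CharCore.IsCharacter.isIntegral (CharCore.irr_isCharacter χ) _
  have hvq : v = algebraMap ℚ ℂ (((5 : ℚ) * m - 3) / 4) := by
    rw [eq_ratCast]
    push_cast
    linear_combination (-1 / 4 : ℂ) * hsum
  rw [hvq, isIntegral_algebraMap_iff (algebraMap ℚ ℂ).injective] at hint
  obtain ⟨z, hz⟩ := IsIntegrallyClosed.isIntegral_iff.mp hint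
  rw [eq_intCast] at hz
  have hvz : v = (z : ℂ) := by rw [hvq, ← hz, eq_ratCast, Rat.cast_intCast]
  have hzm : 4 * z + 3 = 5 * (m : ℤ) := by
    have : (4 : ℚ) * z + 3 = 5 * m := by rw [hz]; ring
    exact_mod_cast this
  have hnorm := CharCore.IsCharacter.norm_apply_le (CharCore.irr_isCharacter χ) (g : G)
  rw [← hv, hvz, Deg.apply_one χ, ← hd, hd3'] at hnorm
  have hz3 : |z| ≤ 3 := by
    rw [← Int.cast_le (R := ℝ), Int.cast_abs]
    simpa [Complex.norm_intCast] using hnorm
  have hz' : z = 3 := by
    rw [abs_le] at hz3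
    omega
  -- so the Sylow subgroup lies in the kernel
  set Kc := CharCore.charKernel (CharCore.irr_isCharacter χ)
  have hgK : (g : G) ∈ Kc := by
    rw [CharCore.mem_charKernel, ← hv, hvz, hz', Deg.apply_one χ, ← hd, hd3']
    norm_num
  have hgT : (g : G) ∈ T := by
    have hle : (P : Subgroup G) ≤ T := le_of_coprime_index (by
      rw [hPc]
      have h := T.card_mul_index
      rw [hT, hG] at h
      rw [show T.index = 2 by omega]
      norm_num)
    exact hle g.2
  have hTK : T ≤ Kc := by
    have hn' : (Kc.subgroupOf T).Normal := inferInstance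
    rcases hn'.eq_bot_or_eq_top with h | h
    · exfalso
      have h1 : (⟨g, hgT⟩ : T) ∈ Kc.subgroupOf T := hgK
      rw [h, Subgroup.mem_bot] at h1
      have h2 : g = 1 := Subtype.ext (congrArg (fun y : T => (y : G)) h1)
      have h4 : Nat.card (P : Subgroup G) = 1 := by
        rw [Nat.card_eq_one_iff_unique]
        refine ⟨⟨fun a b => ?_⟩, ⟨g⟩⟩
        obtain ⟨i, rfl⟩ := Subgroup.mem_zpowers_iff.mp (hg a)
        obtain ⟨j, rfl⟩ := Subgroup.mem_zpowers_iff.mp (hg b)
        rw [h2, one_zpow, one_zpow]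
      omega
    · exact Subgroup.subgroupOf_eq_top.mp h
  obtain ⟨ψ, -, hψ, hχψ⟩ := CharCore.IsCharacter.exists_quotient (CharCore.irr_isCharacter χ) T
    (fun k hk => hTK hk)
  have hdd : Cfsg.charDegree ψ = d := by
    apply Deg.degree_of_eq
    have h1 := hχψ 1
    rw [map_one, Deg.apply_one χ, ← hd] at h1
    exact h1.symm
  haveI := Fintype.ofFinite (G ⧸ T)
  have hdvd : d ∣ Nat.card (G ⧸ T) := by
    have := BlocksCore.charDegree_dvd_card (⟨ψ, hψ χ.2⟩ : Cfsg.IrrCharacter (G ⧸ T))
    rwa [← hdd]
  have h := T.card_mul_index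
  rw [hT, hG] at h
  rw [← Subgroup.index_eq_card, show T.index = 2 by omega, hd3'] at hdvd
  norm_num at hdvd

end Cfsg.Agent.SmallS16
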