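import Cfsg.Agent.SmallS16.ReduceBasic
import Cfsg.Agent.ConjRank.Main

set_option autoImplicit false

/-!
Solvable groups in which a Sylow subgroup of prime order is forced to be normal.
-/

namespace Cfsg.Agent.SmallS16

open Subgroup

universe u

variable {G : Type u} [Group G] [Finite G]

theorem le_of_coprime_index {Q M : Subgroup G} [M.Normal]
    (h : (Nat.card Q).Coprime M.index) : Q ≤ M := by
  intro x hx
  rw [← QuotientGroup.eq_one_iff, ← orderOf_eq_one_iff]
  refine Nat.dvd_one.mp (h ▸ Nat.dvd_gcd ?_ ?_)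
  · exact (orderOf_map_dvd (QuotientGroup.mk' M) x).trans (Subgroup.orderOf_dvd_natCard Q hx)
  · exact orderOf_dvd_natCard _

theorem card_map_mk (N Q : Subgroup G) [N.Normal]
    (h : (Nat.card Q).Coprime (Nat.card N)) :
    Nat.card (Q.map (QuotientGroup.mk' N)) = Nat.card Q ∧
      ∀ x ∈ Q, ∀ y ∈ Q, QuotientGroup.mk' N x = QuotientGroup.mk' N y → x = y := by
  have hinj : ∀ x ∈ Q, ∀ y ∈ Q, QuotientGroup.mk' N x = QuotientGroup.mk' N y → x = y := by
    intro x hx y hy hxy
    have h1 : x⁻¹ * y ∈ Q ⊓ N :=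
      Subgroup.mem_inf.mpr ⟨mul_mem (inv_mem hx) hy, QuotientGroup.eq.mp hxy⟩
    rw [Subgroup.inf_eq_bot_of_coprime h, Subgroup.mem_bot] at h1
    exact eq_of_inv_mul_eq_one h1
  refine ⟨?_, hinj⟩
  refine (Nat.card_congr (Equiv.ofBijective
    (fun x : Q => (⟨QuotientGroup.mk' N x, x, x.2, rfl⟩ : Q.map (QuotientGroup.mk' N))) ⟨?_, ?_⟩)).symm
  · exact fun x y hxy => Subtype.ext (hinj _ x.2 _ y.2 (congrArg Subtype.val hxy))
  · rintro ⟨_, x, hx, rfl⟩
    exact ⟨⟨x, hx⟩, rfl⟩

/-- A Sylow subgroup normalized by `N` with normal image modulo `N` is normal. -/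
theorem normal_of_map_normal {p : ℕ} [Fact p.Prime] (N : Subgroup G) [N.Normal] (P : Sylow p G)
    (hN : N ≤ normalizer ((P : Subgroup G) : Set G))
    (h : ((P : Subgroup G).map (QuotientGroup.mk' N)).Normal) : (P : Subgroup G).Normal := by
  haveI : (((P : Subgroup G).map (QuotientGroup.mk' N)).comap (QuotientGroup.mk' N)).Normal :=
    h.comap _
  refine normal_of_normal_in (((P : Subgroup G).map (QuotientGroup.mk' N)).comap
    (QuotientGroup.mk' N)) P (Subgroup.le_comap_map _ _) ?_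
  refine (Subgroup.normal_subgroupOf_iff_le_normalizer (Subgroup.le_comap_map _ _)).mpr ?_
  rw [Subgroup.comap_map_eq, QuotientGroup.ker_mk']
  exact sup_le Subgroup.le_normalizer hN

/-- A solvable nontrivial group has a nontrivial abelian normal subgroup of prime power order. -/
theorem exists_normal_abelian_pgroup (hs : Group.IsSolvable G) [Nontrivial G] :
    ∃ (N : Subgroup G) (s k : ℕ), N.Normal ∧ s.Prime ∧ 0 < k ∧ Nat.card N = s ^ k ∧
      ∀ x ∈ N, ∀ y ∈ N, x * y = y * x := by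
  haveI := hs
  obtain ⟨E, hEn, hE, hEc⟩ := ConjRank.exists_normal_abelian G
  obtain ⟨s, hsp, hsd⟩ := Nat.exists_prime_and_dvd (show Nat.card E ≠ 1 from fun e =>
    hE (Subgroup.card_eq_one.mp e))
  haveI := Fact.mk hsp
  obtain ⟨R⟩ := (inferInstance : Nonempty (Sylow s E))
  haveI hRn : (R : Subgroup E).Normal := ⟨fun x hx g => by
    rwa [show g * x * g⁻¹ = x from by
      rw [show g * x = x * g from Subtype.ext (hEc g g.2 x x.2), mul_inv_cancel_right]]⟩
  haveI := Sylow.characteristic_of_normal R hRn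
  refine ⟨(R : Subgroup E).map E.subtype, s, (Nat.card E).factorization s, inferInstance, hsp,
    hsp.factorization_pos_of_dvd Nat.card_pos.ne' hsd, ?_, ?_⟩
  · rw [Subgroup.card_map_of_injective E.subtype_injective, R.card_eq_multiplicity]
  · rintro _ ⟨x, -, rfl⟩ _ ⟨y, -, rfl⟩
    exact hEc x x.2 y y.2

/-- No prime power above one dividing `n` is congruent to one. -/
def NoHit (p n : ℕ) : Prop :=
  ∀ s i : ℕ, s.Prime → 0 < i → s ^ i ∣ n → s ^ i % p ≠ 1

/-- The only prime power congruent to one dividing `n` is `r ^ j`. -/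
def OneHit (p r j n : ℕ) : Prop :=
  ∀ s i : ℕ, s.Prime → 0 < i → s ^ i ∣ n → s ^ i % p = 1 → s = r ∧ i = j

theorem dvd_eq_one {p s k : ℕ} (hs : s.Prime)
    (h : ∀ i, 0 < i → i ≤ k → s ^ i % p ≠ 1) : ∀ d, d ∣ s ^ k → d % p = 1 → d = 1 := by
  intro d hd h1
  obtain ⟨i, hi, rfl⟩ := (Nat.dvd_prime_pow hs).mp hd
  rcases Nat.eq_zero_or_pos i with rfl | h0
  · rfl
  · exact absurd h1 (h i h0 hi)

theorem exists_sylow_eq {p a : ℕ} [Fact p.Prime] {P : Subgroup G} (hP : Nat.card P = p ^ a)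
    (hp : ¬ p ^ (a + 1) ∣ Nat.card G) : ∃ Q : Sylow p G, (Q : Subgroup G) = P := by
  obtain ⟨Q, hQ⟩ := (IsPGroup.of_card hP).exists_le_sylow
  refine ⟨Q, (Subgroup.eq_of_le_of_card_ge hQ ?_).symm⟩
  obtain ⟨b, hb⟩ := IsPGroup.iff_card.mp Q.2
  have hba : b ≤ a := by
    by_contra h
    exact hp ((pow_dvd_pow p (by omega : a + 1 ≤ b)).trans (hb ▸ card_subgroup_dvd_card _))
  rw [hP, hb]
  exact Nat.pow_le_pow_right (Fact.out : p.Prime).pos hba

theorem normal_step {p : ℕ} (hp : p.Prime) (hp2 : ¬ p ^ 2 ∣ Nat.card G)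
    {P N : Subgroup G} [N.Normal] (hP : Nat.card P = p) (hpN : ¬ p ∣ Nat.card N)
    (hN : ∀ d, d ∣ Nat.card N → d % p = 1 → d = 1)
    (h : (P.map (QuotientGroup.mk' N)).Normal) : P.Normal := by
  haveI := Fact.mk hp
  have hle : P ≤ normalizer (N : Set G) := by
    rw [Subgroup.normalizer_eq_top]; exact le_top
  obtain ⟨Q, hQ⟩ := exists_sylow_eq (p := p) (a := 1) (P := P) (by rw [hP, pow_one]) hp2
  subst hQ
  exact normal_of_map_normal N Q (le_normalizer_of_no_hit hp hP hle hpN hN) h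

theorem normal_of_noHit : ∀ (n : ℕ) (H : Type u) [Group H] [Finite H], Group.IsSolvable H →
    Nat.card H = n → ∀ p : ℕ, p.Prime → ¬ p ^ 2 ∣ n → NoHit p n →
    ∀ P : Subgroup H, Nat.card P = p → P.Normal := by
  intro n
  induction n using Nat.strong_induction_on with
  | h n ih =>
  intro H _ _ hs hn p hp hp2 hno P hP
  subst hn
  haveI := Fact.mk hp
  haveI : Nontrivial H := by
    refine Finite.one_lt_card_iff_nontrivial.mp (lt_of_lt_of_le ?_ (Subgroup.card_le_card_group P))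
    rw [hP]; exact hp.one_lt
  obtain ⟨N, s, k, hNn, hsp, hk, hNc, -⟩ := exists_normal_abelian_pgroup hs
  by_cases hsp' : s = p
  · subst hsp'
    have hk1 : k = 1 := by
      by_contra h
      exact hp2 ((pow_dvd_pow s (by omega : 2 ≤ k)).trans (hNc ▸ card_subgroup_dvd_card N))
    rw [hk1, pow_one] at hNc
    have hle : P ≤ N := le_of_coprime_index (by
      rw [hP]
      refine hp.coprime_iff_not_dvd.mpr fun h => hp2 ?_
      rw [← N.card_mul_index, hNc, sq]
      exact mul_dvd_mul_left s h)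
    rw [Subgroup.eq_of_le_of_card_ge hle (by rw [hP, hNc])]
    exact hNn
  · have hpN : ¬ p ∣ Nat.card N := fun h => by
      rw [hNc] at h
      exact hsp' ((Nat.prime_dvd_prime_iff_eq hp hsp).mp (hp.dvd_of_dvd_pow h)).symm
    refine normal_step hp hp2 hP hpN (hNc ▸ dvd_eq_one hsp fun i hi hik =>
      hno s i hsp hi ((pow_dvd_pow s hik).trans (hNc ▸ card_subgroup_dvd_card N))) ?_
    have hdvd : Nat.card (H ⧸ N) ∣ Nat.card H := Subgroup.card_quotient_dvd_card N
    refine ih _ ?_ _ inferInstance rfl p hp (fun h => hp2 (h.trans hdvd))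
      (fun t i ht hi h => hno t i ht hi (h.trans hdvd)) _ ?_
    · rw [Subgroup.card_eq_card_quotient_mul_card_subgroup N]
      exact lt_mul_of_one_lt_right Nat.card_pos (hNc ▸ Nat.one_lt_pow hk.ne' hsp.one_lt)
    · exact (card_map_mk N P (by rw [hP]; exact hp.coprime_iff_not_dvd.mpr hpN)).1.trans hP

theorem normal_or_abelian_of_oneHit : ∀ (n : ℕ) (H : Type u) [Group H] [Finite H],
    Group.IsSolvable H → Nat.card H = n → ∀ p r j : ℕ, p.Prime → r.Prime → r ≠ p → 0 < j →
    ¬ p ^ 2 ∣ n → r ^ j ∣ n → ¬ r ^ (j + 1) ∣ n → OneHit p r j n →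
    ∀ P : Subgroup H, Nat.card P = p → P.Normal ∨
      ∃ R : Subgroup H, R.Normal ∧ Nat.card R = r ^ j ∧ ∀ x ∈ R, ∀ y ∈ R, x * y = y * x := by
  intro n
  induction n using Nat.strong_induction_on with
  | h n ih =>
  intro H _ _ hs hn p r j hp hr hrp hj hp2 hrj hrj1 hone P hP
  subst hn
  haveI := Fact.mk hp
  haveI := Fact.mk hr
  haveI : Nontrivial H := by
    refine Finite.one_lt_card_iff_nontrivial.mp (lt_of_lt_of_le ?_ (Subgroup.card_le_card_group P))
    rw [hP]; exact hp.one_lt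
  obtain ⟨N, s, k, hNn, hsp, hk, hNc, hNab⟩ := exists_normal_abelian_pgroup hs
  have hNd := hNc ▸ card_subgroup_dvd_card N
  have hlt : Nat.card (H ⧸ N) < Nat.card H := by
    rw [Subgroup.card_eq_card_quotient_mul_card_subgroup N]
    exact lt_mul_of_one_lt_right Nat.card_pos (hNc ▸ Nat.one_lt_pow hk.ne' hsp.one_lt)
  have hdvd : Nat.card (H ⧸ N) ∣ Nat.card H := Subgroup.card_quotient_dvd_card N
  by_cases hsp' : s = p
  · subst hsp'
    left
    have hk1 : k = 1 := by
      by_contra h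
      exact hp2 ((pow_dvd_pow s (by omega : 2 ≤ k)).trans hNd)
    rw [hk1, pow_one] at hNc
    have hle : P ≤ N := le_of_coprime_index (by
      rw [hP]
      refine hp.coprime_iff_not_dvd.mpr fun h => hp2 ?_
      rw [← N.card_mul_index, hNc, sq]
      exact mul_dvd_mul_left s h)
    rw [Subgroup.eq_of_le_of_card_ge hle (by rw [hP, hNc])]
    exact hNn
  have hpN : ¬ p ∣ Nat.card N := fun h => by
    rw [hNc] at h
    exact hsp' ((Nat.prime_dvd_prime_iff_eq hp hsp).mp (hp.dvd_of_dvd_pow h)).symm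
  have hPc : Nat.card (P.map (QuotientGroup.mk' N)) = p :=
    (card_map_mk N P (by rw [hP]; exact hp.coprime_iff_not_dvd.mpr hpN)).1.trans hP
  by_cases hsr : s = r
  · subst hsr
    have hkj : k ≤ j := by
      by_contra h
      exact hrj1 ((pow_dvd_pow s (by omega : j + 1 ≤ k)).trans hNd)
    rcases hkj.lt_or_eq with hkj | rfl
    · left
      refine normal_step hp hp2 hP hpN (hNc ▸ dvd_eq_one hsp fun i hi hik h => ?_)
        (normal_of_noHit _ _ inferInstance rfl p hp (fun h => hp2 (h.trans hdvd)) ?_ _ hPc)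
      · have := (hone s i hsp hi ((pow_dvd_pow s hik).trans hNd) h).2
        omega
      · intro t i ht hi hd h
        obtain ⟨rfl, rfl⟩ := hone t i ht hi (hd.trans hdvd) h
        refine hrj1 ((pow_dvd_pow t (by omega : i + 1 ≤ i + k)).trans ?_)
        rw [pow_add, Subgroup.card_eq_card_quotient_mul_card_subgroup N, hNc]
        exact mul_dvd_mul_right hd _
    · exact Or.inr ⟨N, hNn, hNc, hNab⟩
  have hN1 : ∀ d, d ∣ Nat.card N → d % p = 1 → d = 1 :=
    hNc ▸ dvd_eq_one hsp fun i hi hik h =>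
      hsr (hone s i hsp hi ((pow_dvd_pow s hik).trans hNd) h).1
  have hcop : (r ^ j).Coprime (Nat.card N) := hNc ▸ Nat.Coprime.pow _ _
    ((Nat.coprime_primes hr hsp).mpr (Ne.symm hsr))
  have hrjq : r ^ j ∣ Nat.card (H ⧸ N) := by
    refine hcop.dvd_of_dvd_mul_right ?_
    rwa [← Subgroup.card_eq_card_quotient_mul_card_subgroup N]
  rcases ih _ hlt (H ⧸ N) inferInstance rfl p r j hp hr hrp hj (fun h => hp2 (h.trans hdvd)) hrjq
      (fun h => hrj1 (h.trans hdvd)) (fun t i ht hi h => hone t i ht hi (h.trans hdvd)) _ hPc with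
    h | ⟨R, hRn, hRc, hRab⟩
  · exact Or.inl (normal_step hp hp2 hP hpN hN1 h)
  obtain ⟨Q, hQ⟩ := exists_sylow_eq (p := p) (a := 1) (P := P) (by rw [hP, pow_one]) hp2
  have hPN : N ≤ normalizer (P : Set H) := le_normalizer_of_no_hit hp hP
    (by rw [Subgroup.normalizer_eq_top]; exact le_top) hpN hN1
  set C := centralizer (N : Set H)
  have hPC : P ≤ C := by
    intro x hx
    rw [Subgroup.mem_centralizer_iff]
    intro y hy
    have h1 : y * x * y⁻¹ * x⁻¹ ∈ P ⊓ N := by
      refine Subgroup.mem_inf.mpr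
        ⟨mul_mem ((Subgroup.mem_normalizer_iff.mp (hPN hy) x).mp hx) (inv_mem hx), ?_⟩
      have : x * y⁻¹ * x⁻¹ ∈ N := hNn.conj_mem _ (inv_mem hy) x
      simpa [mul_assoc] using mul_mem hy this
    rw [Subgroup.inf_eq_bot_of_coprime (by rw [hP]; exact hp.coprime_iff_not_dvd.mpr hpN),
      Subgroup.mem_bot] at h1
    exact mul_inv_eq_iff_eq_mul.mp (mul_inv_eq_one.mp h1)
  by_cases hCr : r ^ j ∣ Nat.card C
  · right
    obtain ⟨U, hU⟩ := Sylow.exists_subgroup_card_pow_prime (G := C) r hCr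
    set V := U.map C.subtype with hV
    have hVc : Nat.card V = r ^ j := by
      rw [hV, Subgroup.card_map_of_injective C.subtype_injective, hU]
    obtain ⟨W, hW⟩ := exists_sylow_eq (p := r) (a := j) hVc hrj1
    obtain ⟨hVm, hVinj⟩ := card_map_mk N V (hVc ▸ hcop)
    have hVR : V.map (QuotientGroup.mk' N) = R := by
      refine Subgroup.eq_of_le_of_card_ge (le_of_coprime_index ?_) (by rw [hVm, hVc, hRc])
      rw [hVm, hVc]
      refine (hr.coprime_iff_not_dvd.mpr fun h => hrj1 ?_).pow_left j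
      refine (Dvd.dvd.trans ?_ hdvd)
      rw [← R.card_mul_index, hRc, pow_succ]
      exact mul_dvd_mul_left _ h
    have hNV : N ≤ normalizer ((W : Subgroup H) : Set H) := by
      intro y hy
      rw [hW]
      refine Subgroup.centralizer_le_normalizer _ (Subgroup.mem_centralizer_iff.mpr fun x hx => ?_)
      obtain ⟨c, -, rfl⟩ := hx
      exact ((Subgroup.mem_centralizer_iff.mp c.2) y hy).symm
    refine ⟨V, hW ▸ normal_of_map_normal N W hNV (by rw [hW, hVR]; exact hRn), hVc, ?_⟩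
    intro x hx y hy
    refine hVinj _ (mul_mem hx hy) _ (mul_mem hy hx) ?_
    rw [map_mul, map_mul]
    exact hRab _ (hVR ▸ Subgroup.mem_map_of_mem _ hx) _ (hVR ▸ Subgroup.mem_map_of_mem _ hy)
  · left
    have hCd : Nat.card C ∣ Nat.card H := card_subgroup_dvd_card C
    have hn1 : (P.subgroupOf C).Normal := normal_of_noHit _ C inferInstance rfl p hp
      (fun h => hp2 (h.trans hCd)) (fun t i ht hi hd h => hCr (by
        obtain ⟨rfl, rfl⟩ := hone t i ht hi (hd.trans hCd) h
        exact hd)) _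
      (by rw [Nat.card_congr (Subgroup.subgroupOfEquivOfLe hPC).toEquiv, hP])
    subst hQ
    exact normal_of_normal_in C Q hPC hn1

end Cfsg.Agent.SmallS16
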