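import Cfsg.Agent.SmallS16.ReduceOrders
import Cfsg.Agent.SmallS16.ReduceSolvable

set_option autoImplicit false

/-!
The simple section of a small nonsolvable group as a normal subgroup of a quotient.
-/

namespace Cfsg.Agent.SmallS16

open Subgroup

universe u

variable {G : Type u} [Group G] [Finite G]

theorem exists_section (hns : ¬ Group.IsSolvable G)
    (hsec : ∀ (T : Type u) [Group T] [Finite T] [IsSimpleGroup T], ¬ IsMulCommutative T →
      Nat.card T ∣ Nat.card G →
      Nat.card T = Nat.card G ∨ (Nat.card G / Nat.card T < 168 ∧ ¬ 60 ∣ Nat.card G / Nat.card T)) :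
    (IsSimpleGroup G ∧ ¬ IsMulCommutative G) ∨
      ∃ (R : Subgroup G) (_ : R.Normal) (T : Subgroup (G ⧸ R)), T.Normal ∧ IsSimpleGroup T ∧
        ¬ IsMulCommutative T ∧ Nat.card T ≠ Nat.card G ∧
        Nat.card R * (Nat.card T * T.index) = Nat.card G := by
  obtain ⟨K, M, hMn, hKn, hsimp, hnc⟩ := exists_simple_middle hns
  have hcK : Nat.card (K ⧸ M) * Nat.card M = Nat.card K :=
    (Subgroup.card_eq_card_quotient_mul_card_subgroup M).symm
  have hKG : Nat.card K ∣ Nat.card G := Subgroup.card_subgroup_dvd_card K
  have hd : Nat.card (K ⧸ M) ∣ Nat.card G := (Dvd.intro _ hcK).trans hKG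
  by_cases h : Nat.card (K ⧸ M) = Nat.card G
  · left
    have hle := Nat.le_of_dvd Nat.card_pos hKG
    have hM1 : Nat.card M = 1 := by
      have hpos : 0 < Nat.card M := Nat.card_pos
      have hle' : Nat.card G * Nat.card M ≤ Nat.card G * 1 := by rw [← h, hcK, mul_one, h]; exact hle
      have := Nat.le_of_mul_le_mul_left hle' Nat.card_pos
      omega
    have hK : K = ⊤ := (Subgroup.card_eq_iff_eq_top K).mp (by rw [← hcK, hM1, mul_one, h])
    have hM : M = ⊥ := Subgroup.card_eq_one.mp hM1
    let e : G ≃* K ⧸ M := (Subgroup.topEquiv.symm.trans (MulEquiv.subgroupCongr hK.symm)).trans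
      (QuotientGroup.quotientBot.symm.trans (QuotientGroup.quotientMulEquivOfEq hM.symm))
    haveI : Nontrivial G := e.toEquiv.nontrivial
    refine ⟨IsSimpleGroup.isSimpleGroup_of_surjective e.symm.toMonoidHom e.symm.surjective, fun hc => hnc ?_⟩
    refine isMulCommutative_iff.mpr fun a b => e.symm.injective ?_
    rw [map_mul, map_mul]
    exact isMulCommutative_iff.mp hc _ _
  · right
    obtain ⟨h1, h2⟩ := (hsec (K ⧸ M) hnc hd).resolve_left h
    have hMs : Group.IsSolvable M := by
      have hMd : Nat.card M ∣ Nat.card G / Nat.card (K ⧸ M) :=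
        Nat.dvd_div_of_mul_dvd (hcK ▸ hKG)
      refine isSolvable_of_lt (lt_of_le_of_lt (Nat.le_of_dvd ?_ hMd) h1) fun h => h2 (h.trans hMd)
      exact Nat.div_pos (Nat.le_of_dvd Nat.card_pos hd) Nat.card_pos
    -- `M` is the largest solvable normal subgroup of `K`
    have hmax : ∀ N : Subgroup K, N.Normal → Group.IsSolvable N → N ≤ M := by
      intro N hN hNs
      haveI := hN
      haveI : (N.map (QuotientGroup.mk' M)).Normal :=
        hN.map _ (QuotientGroup.mk'_surjective M)
      rcases Subgroup.Normal.eq_bot_or_eq_top ‹(N.map (QuotientGroup.mk' M)).Normal› with hb | hb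
      · rwa [Subgroup.map_eq_bot_iff, QuotientGroup.ker_mk'] at hb
      · exfalso
        haveI := hNs
        have hs : Group.IsSolvable (K ⧸ M) := Group.isSolvable_of_surjective
          (f := (QuotientGroup.mk' M).comp N.subtype) (MonoidHom.range_eq_top.mp (by
            rw [MonoidHom.range_comp, Subgroup.range_subtype, hb]))
        exact hnc (isMulCommutative_iff.mpr fun a b =>
          (IsSimpleGroup.comm_iff_isSolvable.mpr hs) a b)
    have hR : (M.map K.subtype).Normal := by
      constructor
      rintro _ ⟨x, hx, rfl⟩ g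
      refine ⟨MulAut.conjNormal g x, ?_, MulAut.conjNormal_apply g x⟩
      haveI := hMs
      exact hmax (M.map (MulAut.conjNormal g : K ≃* K).toMonoidHom)
        (hMn.map _ (MulEquiv.surjective _))
        (Group.isSolvable_of_surjective
          (f := (M.equivMapOfInjective (MulAut.conjNormal g : K ≃* K).toMonoidHom
            (MulEquiv.injective (MulAut.conjNormal g : K ≃* K))).toMonoidHom)
          (MulEquiv.surjective _))
        (Subgroup.mem_map_of_mem _ hx)
    haveI := hR
    haveI := hKn
    set R := M.map K.subtype with hRdef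
    let f : K →* G ⧸ R := (QuotientGroup.mk' R).comp K.subtype
    have hfk : f.ker = M := by
      ext x
      rw [MonoidHom.mem_ker]
      show ((x : G) : G ⧸ R) = 1 ↔ _
      rw [QuotientGroup.eq_one_iff, hRdef]
      exact Subgroup.mem_map_iff_mem K.subtype_injective
    let e : K ⧸ M ≃* f.range :=
      (QuotientGroup.quotientMulEquivOfEq hfk.symm).trans (QuotientGroup.quotientKerEquivRange f)
    have hTn : f.range.Normal := by
      rw [MonoidHom.range_comp, Subgroup.range_subtype]
      exact hKn.map _ (QuotientGroup.mk'_surjective R)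
    haveI : Nontrivial f.range := e.symm.toEquiv.nontrivial
    refine ⟨R, hR, f.range, hTn, IsSimpleGroup.isSimpleGroup_of_surjective e.toMonoidHom e.surjective,
      fun hc => hnc ?_, ?_, ?_⟩
    · refine isMulCommutative_iff.mpr fun a b => e.injective ?_
      rw [map_mul, map_mul]
      exact isMulCommutative_iff.mp hc _ _
    · exact fun he => h (by rw [Nat.card_congr e.toEquiv, he])
    · rw [f.range.card_mul_index, mul_comm]
      exact (Subgroup.card_eq_card_quotient_mul_card_subgroup R).symm

end Cfsg.Agent.SmallS16
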