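import Cfsg.Agent.SO89.Sieve
import Cfsg.Agent.S0496
import Cfsg.Agent.S0997
import Cfsg.Agent.H40.FactorTwo.MaxTwoPart

set_option autoImplicit false

/-!
Orders of simple sections of groups with small orders.
-/

namespace Cfsg.Agent.SmallS16

open Subgroup
open Cfsg.Agent.SO89
open Cfsg.Agent.Classification.Sieve (qPart)

universe u

section Simple

variable {G : Type u} [Group G] [Finite G] [IsSimpleGroup G]

theorem not_dead (hG : ¬ IsMulCommutative G) (hb : Nat.card G ≤ 6232) {q : ℕ} (hqp : q.Prime) (hqd : q ∣ Nat.card G)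
    (h : dead (Nat.card G) q = true) : False := by
  haveI : Fact q.Prime := ⟨hqp⟩
  obtain ⟨a, m₀, hm₀, hn⟩ :=
    Nat.exists_eq_pow_mul_and_not_dvd (Nat.card_pos (α := G)).ne' q hqp.ne_one
  have ha0 : a ≠ 0 := by
    rintro rfl
    exact hm₀ (by rwa [hn, pow_zero, one_mul] at hqd)
  have ha : a ≤ 11 := by
    by_contra ha
    have h3 : q ^ a ≤ Nat.card G := Nat.le_of_dvd Nat.card_pos ⟨m₀, hn⟩
    have h4 : q ^ 12 ≤ q ^ a := Nat.pow_le_pow_right hqp.pos (by omega)
    have h5 : 2 ^ 12 ≤ q ^ 12 := Nat.pow_le_pow_left hqp.two_le 12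
    rcases hqp.eq_two_or_odd with rfl | hodd
    · have hm1 : m₀ = 1 := by
        by_contra hm1
        have hm3 : 3 ≤ m₀ := by
          rcases Nat.eq_zero_or_pos m₀ with rfl | h0
          · exact absurd (dvd_zero 2) hm₀
          · rcases Nat.lt_or_ge m₀ 3 with h' | h'
            · interval_cases m₀
              · exact absurd rfl hm1
              · exact absurd (dvd_refl 2) hm₀
            · exact h'
        have := Nat.mul_le_mul h4 hm3
        rw [← hn] at this
        omega
      exact hG (SmallGroups.comm_of_isPGroup (p := 2) (IsPGroup.of_card (n := a) (by rw [hn, hm1, mul_one])))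
    · have h6 : 3 ^ 12 ≤ q ^ 12 := Nat.pow_le_pow_left (by have := hqp.two_le; omega) 12
      omega
  have hal := card_sylow_alive hG hn hm₀ ha0 ha
  simp only [dead, List.all_eq_true, List.mem_range, Bool.not_eq_true'] at h
  obtain ⟨hdm, hd1⟩ := SmallGroups.card_sylow_mem hn hm₀
  have hqpart : qPart (Nat.card G) q = q ^ a := by
    rw [qPart, hn, show q ^ 11 = q ^ a * q ^ (11 - a) by rw [← pow_add]; congr 1; omega,
      Nat.gcd_mul_left, ((hqp.coprime_iff_not_dvd.mpr hm₀).pow_left _).symm.gcd_eq_one, mul_one]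
  have hle := Nat.le_of_dvd (Nat.pos_of_ne_zero fun h => hm₀ (by rw [h]; exact dvd_zero q)) hdm
  have hdiv : Nat.card G / qPart (Nat.card G) q = m₀ := by
    rw [hqpart, hn]; exact Nat.mul_div_cancel_left _ (pow_pos hqp.pos a)
  have hj := h (Nat.card (Sylow q G) / q)
    (by rw [hdiv]; exact Nat.lt_succ_of_le (Nat.div_le_div_right hle))
  rw [show 1 + q * (Nat.card (Sylow q G) / q) = Nat.card (Sylow q G) by
    have := Nat.div_add_mod (Nat.card (Sylow q G)) q; omega, hal] at hj
  exact Bool.noConfusion hj

/-- The orders for which the group may have a proper simple section. -/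
def sectionPairs : List (ℕ × ℕ) :=
  [(60, 360), (60, 660), (60, 2520), (60, 3420), (60, 4080), (168, 504), (168, 2520), (360, 2520),
    (504, 2520)]

def smallList : List ℕ := [60, 168, 360, 504, 660, 1092, 2448, 2520, 3420, 4080, 5616]

theorem divisor_check : ∀ n ∈ smallList, ∀ d ∈ n.divisors, d = n ∨ (d, n) ∈ sectionPairs ∨
    d ∈ ([1224, 1260, 1140, 1710, 1360, 2040, 1404, 1872, 2808] : List ℕ) ∨
    (d ≤ 1092 ∧ d ∉ ([60, 168, 360, 504, 660, 1092] : List ℕ)) := by
  decide +kernel

theorem card_of_dvd (hG : ¬ IsMulCommutative G) {n : ℕ} (hn : n ∈ smallList)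
    (hd : Nat.card G ∣ n) : Nat.card G = n ∨ (Nat.card G, n) ∈ sectionPairs := by
  have hn0 : n ≠ 0 := by
    rintro rfl
    revert hn
    decide
  rcases divisor_check n hn (Nat.card G) (Nat.mem_divisors.mpr ⟨hd, hn0⟩) with h | h | h | ⟨h, h'⟩
  · exact Or.inl h
  · exact Or.inr h
  · exfalso
    simp only [List.mem_cons, List.not_mem_nil, or_false] at h
    have hnb : ∀ m ∈ smallList, m ≤ 6232 := by decide
    have kill : ∀ q m : ℕ, q.Prime → Nat.card G = m → q ∣ m → dead m q = true → False :=
      fun q m hq e h1 h2 => not_dead hG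
        ((Nat.le_of_dvd (Nat.pos_of_ne_zero hn0) hd).trans (hnb n hn)) hq (e ▸ h1) (e ▸ h2)
    have hcyc : ¬ IsCyclic G := fun h => hG (by exact IsCyclic.isMulCommutative)
    rcases h with h | h | h | h | h | h | h | h | h
    · rcases S0997.result hcyc 17 3 2 8 (by norm_num) (by norm_num) (by norm_num) (by rw [h]; norm_num)
          (by norm_num) with ⟨m, F, _, _, hF, -, ⟨e⟩⟩ | ⟨m, F, _, _, hF, hm, -, ⟨e⟩⟩
      · have hc := LinearGroup.gcd_mul_card_PSL_two (F := F)
        rw [Nat.card_eq_fintype_card (α := F), hF, ← Nat.card_congr e.toEquiv, h] at hc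
        norm_num at hc
      · have hc := LinearGroup.gcd_mul_card_PSL_two (F := F)
        rw [Nat.card_eq_fintype_card (α := F), hF, ← Nat.card_congr e.toEquiv, h,
          show 2 ^ m = 16 by omega] at hc
        norm_num at hc
    · exact kill 7 _ (by norm_num) h (by norm_num) (by decide +kernel)
    · exact kill 5 _ (by norm_num) h (by norm_num) (by decide +kernel)
    · exact kill 2 _ (by norm_num) h (by norm_num) (by decide +kernel)
    · exact kill 17 _ (by norm_num) h (by norm_num) (by decide +kernel)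
    · exact kill 17 _ (by norm_num) h (by norm_num) (by decide +kernel)
    · rcases S0997.result hcyc 13 3 3 4 (by norm_num) (by norm_num) (by norm_num) (by rw [h]; norm_num)
          (by norm_num) with ⟨m, F, _, _, hF, -, ⟨e⟩⟩ | ⟨m, F, _, _, hF, hm, -, ⟨e⟩⟩
      · have hc := LinearGroup.gcd_mul_card_PSL_two (F := F)
        rw [Nat.card_eq_fintype_card (α := F), hF, ← Nat.card_congr e.toEquiv, h] at hc
        norm_num at hc
      · have hc := LinearGroup.gcd_mul_card_PSL_two (F := F)
        rw [Nat.card_eq_fintype_card (α := F), hF, ← Nat.card_congr e.toEquiv, h,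
          show 2 ^ m = 12 by omega] at hc
        norm_num at hc
    · exact kill 13 _ (by norm_num) h (by norm_num) (by decide +kernel)
    · exact kill 13 _ (by norm_num) h (by norm_num) (by decide +kernel)
  · exfalso
    apply h'
    simp only [List.mem_cons, List.not_mem_nil, or_false]
    exact S0496.result hG h

end Simple

variable {G : Type u} [Group G] [Finite G]

/-- A finite nonsolvable group has a normal subgroup with a nonabelian simple quotient. -/
theorem exists_simple_middle (hns : ¬ Group.IsSolvable G) :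
    ∃ (K : Subgroup G) (M : Subgroup K) (_ : M.Normal), K.Normal ∧ IsSimpleGroup (K ⧸ M) ∧
      ¬ IsMulCommutative (K ⧸ M) := by
  obtain ⟨n, hn⟩ := H40.FactorTwo.exists_perfect_core G
  set K := derivedSeries G n with hK
  have hK0 : K ≠ ⊥ := fun h => hns ((Group.isSolvable_def G).mpr ⟨n, h⟩)
  have hperf : ⁅K, K⁆ = K := le_antisymm
    (by rw [hK, ← derivedSeries_succ]; exact derivedSeries_antitone G (Nat.le_succ n))
    (by conv_rhs => rw [hK, ← derivedSeries_succ]
        exact hn (n + 1))
  have htop : commutator K = ⊤ := by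
    apply Subgroup.map_injective K.subtype_injective
    rw [map_subtype_commutator, hperf, ← MonoidHom.range_eq_map, Subgroup.range_subtype]
  haveI : Nontrivial K := (Subgroup.nontrivial_iff_ne_bot K).mpr hK0
  obtain ⟨M, ⟨hMn, hMt⟩, hmax⟩ :=
    (Set.toFinite {M : Subgroup K | M.Normal ∧ M ≠ ⊤}).exists_maximal
      ⟨⊥, Subgroup.normal_bot, bot_ne_top⟩
  haveI := hMn
  haveI : Nontrivial (K ⧸ M) := QuotientGroup.nontrivial_iff.mpr hMt
  refine ⟨K, M, hMn, derivedSeries_normal G n, ⟨fun H hH => ?_⟩, fun hc => hMt ?_⟩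
  · have hle : M ≤ H.comap (QuotientGroup.mk' M) := fun x hx => by
      rw [Subgroup.mem_comap, QuotientGroup.mk'_apply, (QuotientGroup.eq_one_iff x).mpr hx]
      exact one_mem H
    by_cases ht : H.comap (QuotientGroup.mk' M) = ⊤
    · right
      rw [← Subgroup.map_comap_eq_self_of_surjective (QuotientGroup.mk'_surjective M) H, ht,
        Subgroup.map_top_of_surjective _ (QuotientGroup.mk'_surjective M)]
    · left
      rw [← Subgroup.map_comap_eq_self_of_surjective (QuotientGroup.mk'_surjective M) H,
        le_antisymm (hmax ⟨hH.comap _, ht⟩ hle) hle, QuotientGroup.map_mk'_self]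
  · rw [eq_top_iff, ← htop, commutator_def, Subgroup.commutator_le]
    intro a _ b _
    rw [← QuotientGroup.eq_one_iff, ← QuotientGroup.mk'_apply, map_commutatorElement]
    exact commutatorElement_eq_one_iff_commute.mpr (isMulCommutative_iff.mp hc _ _)

theorem isSolvable_of_lt {H : Type u} [Group H] [Finite H] (h : Nat.card H < 168)
    (h60 : ¬ 60 ∣ Nat.card H) : Group.IsSolvable H := by
  by_contra hns
  obtain ⟨K, M, hM, -, hsimp, hnc⟩ := exists_simple_middle hns
  have hd : Nat.card (K ⧸ M) ∣ Nat.card H :=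
    (Subgroup.card_quotient_dvd_card M).trans (Subgroup.card_subgroup_dvd_card K)
  have hle := Nat.le_of_dvd Nat.card_pos hd
  rcases S0496.result hnc (by omega) with e | e | e | e | e | e <;> rw [e] at hd hle <;>
    first | exact h60 hd | omega

end Cfsg.Agent.SmallS16
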